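import Groth.Agent.AVQuotLib.Quotient
import Groth.Agent.Lib.AVAmple

/-!
# Quotients of abelian varieties by finite subgroup schemes over algebraically closed fields
-/

noncomputable section

set_option autoImplicit false
set_option linter.style.haveILetI false
set_option linter.unusedSectionVars false
set_option backward.isDefEq.respectTransparency false
set_option backward.isDefEq.respectTransparency.types false
set_option maxHeartbeats 1000000

universe u

open CategoryTheory CategoryTheory.Limits MonoidalCategory CartesianMonoidalCategory MonObj AlgebraicGeometry TopologicalSpace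

namespace Groth.Agent.AVDualCx

open Groth.Agent

variable {k : Type u} [Field k] [IsAlgClosed k] {A : Over (Spec (CommRingCat.of k))} [GrpObj A] [IsProper A.hom]
  [GeometricallyIntegral A.hom]

/-- A finite set of rational points lies in an affine open. -/
theorem exists_affine_of_finite {S : Set (𝟙_ (Over (Spec (CommRingCat.of k))) ⟶ A)} (hS : S.Finite) :
    ∃ W : A.left.Opens, IsAffineOpen W ∧ ∀ a ∈ S, AVAmple.pt a ∈ W := by
  classical
  haveI : IsCommMonObj A := isCommMonObj_of_isProper_of_geometricallyIntegral A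
  haveI : IsIntegral A.left := GeometricallyIntegral.isIntegral_of_subsingleton A.hom
  obtain ⟨_, ⟨V, hV, rfl⟩, hxV, -⟩ := A.left.isBasis_affineOpens.exists_subset_of_mem_open
    (Set.mem_univ (AVAmple.pt (1 : 𝟙_ (Over (Spec (CommRingCat.of k))) ⟶ A))) isOpen_univ
  suffices h : ∀ s : Finset (𝟙_ (Over (Spec (CommRingCat.of k))) ⟶ A),
      (⋂ a ∈ s, ((AVAmple.tr a).left ⁻¹ᵁ V : Set A.left)).Nonempty by
    obtain ⟨x, hx⟩ := h hS.toFinset
    let W : A.left.Opens := hS.toFinset.inf fun a => (AVAmple.tr a).left ⁻¹ᵁ V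
    have hWV : (W : Set A.left).Nonempty := ⟨x, by
      simp only [W, Opens.coe_finset_inf, Finset.inf_set_eq_iInter, Function.comp]
      exact hx⟩
    obtain ⟨b, hb⟩ := AVAmple.exists_pt_mem ((Opens.ne_bot_iff_nonempty W).2 hWV)
    refine ⟨(AVAmple.tr b).left ⁻¹ᵁ V, hV.preimage_of_isIso _, fun a ha => ?_⟩
    have hba : AVAmple.pt b ∈ (AVAmple.tr a).left ⁻¹ᵁ V :=
      Finset.inf_le (f := fun a => (AVAmple.tr a).left ⁻¹ᵁ V) (hS.mem_toFinset.2 ha) hb
    show (a ≫ AVAmple.tr b).left (IsLocalRing.closedPoint k) ∈ V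
    rw [show a ≫ AVAmple.tr b = b ≫ AVAmple.tr a by
      rw [AVAmple.comp_tr, AVAmple.comp_tr, AVAmple.unit_comp, AVAmple.unit_comp, mul_comm]]
    exact hba
  intro s
  induction s using Finset.induction with
  | empty => exact ⟨AVAmple.pt 1, by simp⟩
  | insert a s _ ih =>
    simp only [Finset.mem_insert, Set.iInter_iInter_eq_or_left]
    refine nonempty_preirreducible_inter ((AVAmple.tr a).left ⁻¹ᵁ V).isOpen
      (isOpen_biInter_finset fun b _ => ((AVAmple.tr b).left ⁻¹ᵁ V).isOpen) ?_ ih
    obtain ⟨y, hy⟩ := (AVAmple.tr a).left.surjective (AVAmple.pt (1 : 𝟙_ (Over (Spec (CommRingCat.of k))) ⟶ A))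
    exact ⟨y, show (AVAmple.tr a).left y ∈ V from hy ▸ hxV⟩

/-- The quotient of an abelian variety by a finite subgroup scheme. -/
theorem exists_quotient {N : Over (Spec (CommRingCat.of k))} [GrpObj N] [IsFinite N.hom] (i : N ⟶ A) [IsMonHom i]
    [IsClosedImmersion i.left] :
    ∃ (C : Over (Spec (CommRingCat.of k))) (_ : GrpObj C) (q : A ⟶ C),
      IsProper C.hom ∧ GeometricallyIntegral C.hom ∧ IsMonHom q ∧ IsFinite q.left ∧ Flat q.left ∧
      Surjective q.left ∧ i ≫ q = 1 ∧
      ∀ (T : Over (Spec (CommRingCat.of k))) (a : T ⟶ A), a ≫ q = 1 → ∃ b : T ⟶ N, b ≫ i = a := by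
  haveI : JacobsonSpace A.left := LocallyOfFiniteType.jacobsonSpace A.hom
  refine AVQuotLib.exists_quotient_of_orbit i fun Z hZ hne => ?_
  obtain ⟨u, hu, huc⟩ := nonempty_inter_closedPoints (Z := Z) hne hZ.isLocallyClosed
  obtain ⟨c, rfl⟩ := AVAmple.exists_pt (mem_closedPoints_iff.1 huc)
  haveI : LocallyOfFiniteType N.hom := inferInstance
  haveI : Finite N.left := finite_of_finite_over_field N.hom
  have hN : (Set.univ : Set (𝟙_ (Over (Spec (CommRingCat.of k))) ⟶ N)).Finite := by
    refine Set.Finite.of_finite_image (f := fun b => b.left (IsLocalRing.closedPoint k)) (Set.toFinite _)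
      fun b _ b' _ h => Over.OverMorphism.ext (congrArg Subtype.val ((pointEquivClosedPoint N.hom).injective
        (a₁ := ⟨b.left, Over.w b⟩) (a₂ := ⟨b'.left, Over.w b'⟩) (Subtype.ext h)))
  obtain ⟨W, hW, hmem⟩ := exists_affine_of_finite (hN.image fun b => (b ≫ i) * c)
  refine ⟨AVAmple.pt c, hu, W, hW, fun r hr => ?_⟩
  let P := N ⊗ A
  haveI : IsFinite (snd N A).left := inferInstanceAs (IsFinite (pullback.snd N.hom A.hom))
  haveI : LocallyOfFiniteType (N ⊗ A).hom := by
    rw [← Over.w (snd N A)]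
    infer_instance
  haveI : Finite ((snd N A).left ⁻¹' {AVAmple.pt c}) := ((snd N A).left.finite_preimage_singleton _).to_subtype
  haveI : JacobsonSpace (N ⊗ A).left := LocallyOfFiniteType.jacobsonSpace (N ⊗ A).hom
  have hrc : IsClosed ({r} : Set (N ⊗ A).left) :=
    isClosed_singleton_of_finite_preimage (AVAmple.isClosed_pt c) (snd N A).left.continuous hr
  obtain ⟨⟨v, hv⟩, hvr⟩ := (pointEquivClosedPoint (N ⊗ A).hom).surjective ⟨r, hrc⟩
  let w : 𝟙_ (Over (Spec (CommRingCat.of k))) ⟶ N ⊗ A := Over.homMk v hv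
  have hwr : w.left (IsLocalRing.closedPoint k) = r := congrArg Subtype.val hvr
  have hwc : w ≫ snd N A = c := by
    refine Over.OverMorphism.ext (congrArg Subtype.val ((pointEquivClosedPoint A.hom).injective
      (a₁ := ⟨(w ≫ snd N A).left, Over.w _⟩) (a₂ := ⟨c.left, Over.w c⟩) (Subtype.ext ?_)))
    show (snd N A).left (w.left (IsLocalRing.closedPoint k)) = AVAmple.pt c
    rw [hwr, hr]
  rw [← hwr]
  show (w ≫ ((fst N A ≫ i) * snd N A)).left (IsLocalRing.closedPoint k) ∈ W
  rw [MonObj.comp_mul, hwc, ← Category.assoc]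
  exact hmem _ ⟨w ≫ fst N A, trivial, rfl⟩
where
  finite_of_finite_over_field {X : Scheme.{u}} (f : X ⟶ Spec (CommRingCat.of k)) [IsFinite f] : Finite X := by
    haveI : Subsingleton (Spec (CommRingCat.of k)) := inferInstanceAs (Subsingleton (PrimeSpectrum k))
    refine Set.finite_univ_iff.1 ((f.finite_preimage_singleton (IsLocalRing.closedPoint k)).subset ?_)
    exact fun x _ => Subsingleton.elim _ _
  isClosed_singleton_of_finite_preimage {X Y : Type u} [TopologicalSpace X] [TopologicalSpace Y] [JacobsonSpace X]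
      {f : X → Y} {y : Y} [Finite (f ⁻¹' {y})] (hy : IsClosed ({y} : Set Y)) (hf : Continuous f) {x : X}
      (hx : f x = y) : IsClosed ({x} : Set X) := by
    haveI : DiscreteTopology (f ⁻¹' {y}) := by
      haveI : JacobsonSpace (f ⁻¹' {y}) := JacobsonSpace.of_isClosedEmbedding (hy.preimage hf).isClosedEmbedding_subtypeVal
      infer_instance
    have h : IsClosed ({⟨x, hx⟩} : Set (f ⁻¹' {y})) := isClosed_discrete _
    have h' := (hy.preimage hf).isClosedEmbedding_subtypeVal.isClosedMap _ h
    rwa [Set.image_singleton] at h'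

end Groth.Agent.AVDualCx
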