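import Groth.Agent.AVDualCx.Mumford
import Groth.Agent.AVDualCx.Quot
import Groth.Agent.GrpSchLib.MonoSubgroup
import Groth.Agent.GrpSchLib.Cartier
import Groth.Agent.GrpSchLib.SmoothRegular
import Groth.Agent.Snapper.DimVanish
import Groth.Agent.HilbPoly.Poly
import Groth.Agent.S10834
import Groth.Agent.S0354
import Groth.Agent.S19769
import Groth.Agent.H1CMDim.RegSeq

/-!
# The minimal complex of the Mumford family at the unit, and the cohomology of the structure sheaf
-/

noncomputable section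

set_option autoImplicit false
set_option linter.style.haveILetI false
set_option linter.unusedSectionVars false
set_option backward.isDefEq.respectTransparency false
set_option backward.isDefEq.respectTransparency.types false
set_option maxHeartbeats 1000000

universe u

open CategoryTheory CategoryTheory.Limits MonoidalCategory CartesianMonoidalCategory MonObj AlgebraicGeometry TopologicalSpace Opposite IsLocalRing

namespace Groth.Agent.AVDualCx

open Groth.Agent Groth.Agent.H23 Groth.Agent.H23.TrivBasic Groth.Agent.AVCube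
open scoped Groth.Agent.H23.PicMul

variable {k : Type u} [Field k] [IsAlgClosed k] {A : Over (Spec (CommRingCat.of k))} [GrpObj A] [IsProper A.hom]
  [GeometricallyIntegral A.hom] {L : A.left.Modules} (hL : PicF.IsInvertible L)

local notation "Pt" => 𝟙_ (Over (Spec (CommRingCat.of k))) ⟶ A

theorem cl_slice {M : (A ⊗ A).left.Modules}
    (hMcl : ∀ (T : Over (Spec (CommRingCat.of k))) (z : T ⟶ A),
      PicF.cl ((Scheme.Modules.pullback (A ◁ z).left).obj M) = (mumCl hL z : PicF.Cl (A ⊗ T).left))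
    (a : Pt) : PicF.cl ((Scheme.Modules.pullback (lift (𝟙 A) (toUnit A ≫ a)).left).obj M) =
      (AVTheta8.delta hL a : PicF.Cl A.left) := by
  rw [show lift (𝟙 A) (toUnit A ≫ a) = lift (𝟙 A) (toUnit A) ≫ (A ◁ a) from
    (lift_whiskerLeft _ _ _).symm, Over.comp_left]
  show PicF.pullCl _ (PicF.cl M) = _
  rw [← PicClLib.pullCl_comp]
  show PicF.pullCl _ (PicF.cl ((Scheme.Modules.pullback (A ◁ a).left).obj M)) = _
  rw [hMcl, ← mumCl_toUnit hL a]
  rfl

theorem pt_injective : Function.Injective (AVAmple.pt : Pt → A.left) := fun a b hab =>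
  Over.OverMorphism.ext (congrArg Subtype.val ((pointEquivClosedPoint A.hom).injective
    (a₁ := ⟨a.left, Over.w a⟩) (a₂ := ⟨b.left, Over.w b⟩) (Subtype.ext hab)))

/-- The global functions of an abelian variety form a line. -/
theorem finrank_H0 (X : Over (Spec (CommRingCat.of k))) [IsProper X.hom] [GeometricallyIntegral X.hom] :
    @Module.finrank k (Coh.HH X.left (Coh.structureModule X.left) 0) _ _
      (QCoh.modHH (Coh.toGlobal X.hom) (Coh.structureModule X.left) 0) = 1 := by
  letI := QCoh.modHH (Coh.toGlobal X.hom) (Coh.structureModule X.left) 0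
  obtain ⟨e, he⟩ := exists_equiv_sections (Coh.structureModule X.left)
  haveI : GeometricallyConnected X.hom := CubeAb.geometricallyConnected_of_integral X.hom
  have hb := Seesaw.toGlobal_bijective X.hom (CubeField.bijective_appTop_of_connected X)
  obtain ⟨z, hz⟩ := e.surjective (1 : Γ(X.left, ⊤))
  refine finrank_eq_one_iff'.2 ⟨z, fun h => ?_, fun w => ?_⟩
  · haveI : IsIntegral X.left := GeometricallyIntegral.isIntegral_of_subsingleton X.hom
    rw [h, map_zero] at hz
    exact zero_ne_one (α := Γ(X.left, ⊤)) hz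
  · obtain ⟨c, hc⟩ := hb.2 (e w)
    refine ⟨c, e.injective ?_⟩
    refine (he _ z).trans ?_
    rw [hz]
    exact (_root_.mul_one (show Γ(X.left, ⊤) from Coh.toGlobal X.hom c)).trans hc

theorem le_dualIdeal_maximal {R : Type u} [CommRing R] [IsLocalRing R] [IsNoetherianRing R]
    {P : CochainComplex (ModuleCat.{u} R) ℤ} {g : ℕ} (hP : Good P g) (e : P.X 0) :
    dualIdeal P e ≤ maximalIdeal R := by
  rintro _ ⟨φ, rfl⟩
  have h1 : φ ((P.d 0 1).hom e) ∈ Submodule.map φ (maximalIdeal R • (⊤ : Submodule R (P.X 1))) :=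
    ⟨_, hP.min 0 e, rfl⟩
  rw [Submodule.map_smul''] at h1
  have h2 := (Submodule.smul_mono (le_refl (maximalIdeal R)) (le_top (α := Submodule R R))) h1
  rwa [smul_eq_mul, Ideal.mul_top] at h2

theorem le_of_forall_le_sup_pow {R : Type u} [CommRing R] [IsLocalRing R] [IsNoetherianRing R] {J K : Ideal R}
    (h : ∀ n : ℕ, J ≤ K ⊔ maximalIdeal R ^ (n + 1)) : J ≤ K := by
  intro x hx
  rw [← Ideal.Quotient.eq_zero_iff_mem]
  have hbot := Ideal.iInf_pow_smul_eq_bot_of_le_jacobson (M := R ⧸ K) (maximalIdeal R)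
    (IsLocalRing.maximalIdeal_le_jacobson _)
  rw [← Submodule.mem_bot R, ← hbot, Submodule.mem_iInf]
  intro n
  obtain ⟨a, ha, b, hb, rfl⟩ := Submodule.mem_sup.1 (h n hx)
  have hb' : b ∈ maximalIdeal R ^ n := Ideal.pow_le_pow_right n.le_succ hb
  rw [map_add, Ideal.Quotient.eq_zero_iff_mem.2 ha, zero_add,
    show Ideal.Quotient.mk K b = b • (1 : R ⧸ K) by rw [Algebra.smul_def, _root_.mul_one]; rfl]
  exact Submodule.smul_mem_smul hb' trivial

/-- `K(L)` as a finite subgroup scheme. -/
theorem exists_subgroup (hfin : Set.Finite {a : Pt | AVTheta8.delta hL a = 1}) :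
    ∃ (K : Over (Spec (CommRingCat.of k))) (_ : GrpObj K) (i : K ⟶ A), IsMonHom i ∧ IsClosedImmersion i.left ∧
      IsFinite K.hom ∧ ThetaGrp.IsKL A L i := by
  obtain ⟨K, i, hK⟩ := ThetaLib.exists_isKL A L hL
  haveI := hK.closed
  haveI : Mono i := Over.mono_of_mono_left i
  obtain ⟨-, ⟨η', hη⟩, -⟩ := S19769.result k A L hL K i hK (𝟙_ _)
  obtain ⟨hmul, -, -⟩ := S19769.result k A L hL K i hK (K ⊗ K)
  obtain ⟨μ', hμ⟩ := hmul (fst K K) (snd K K)
  obtain ⟨-, -, hinv⟩ := S19769.result k A L hL K i hK K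
  obtain ⟨ι', hι⟩ := hinv (𝟙 K)
  rw [Category.id_comp] at hι
  obtain ⟨str, hstr⟩ := GrpSchLib.exists_grpObj_of_mono i η' (hη.trans (Hom.one_def.trans (by
    rw [toUnit_unique (toUnit _) (𝟙 _), Category.id_comp]))) μ' hμ ι' hι
  haveI : IsProper K.hom := by rw [← Over.w i]; infer_instance
  haveI : JacobsonSpace K.left := LocallyOfFiniteType.jacobsonSpace K.hom
  have hcp : (closedPoints K.left).Finite := by
    refine Set.Finite.of_finite_image (f := i.left) ?_ i.left.isClosedEmbedding.injective.injOn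
    refine (hfin.image AVAmple.pt).subset ?_
    rintro _ ⟨y, hy, rfl⟩
    obtain ⟨⟨v, hv⟩, hvy⟩ := (pointEquivClosedPoint K.hom).surjective ⟨y, mem_closedPoints_iff.1 hy⟩
    let b : 𝟙_ (Over (Spec (CommRingCat.of k))) ⟶ K := Over.homMk v hv
    refine ⟨b ≫ i, (mumfordTriv_pt_iff hL _).1 ((hK.univ _ _).2 ⟨b, rfl⟩), ?_⟩
    show i.left (b.left (closedPoint k)) = i.left y
    rw [show b.left (closedPoint k) = y from congrArg Subtype.val hvy]
  haveI : Finite K.left := by
    have hcl : IsClosed (closedPoints K.left) := by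
      rw [← Set.biUnion_of_singleton (closedPoints K.left)]
      exact hcp.isClosed_biUnion fun y hy => mem_closedPoints_iff.1 hy
    refine Set.finite_univ_iff.1 (hcp.subset fun y _ => ?_)
    by_contra hn
    obtain ⟨z, hz, hzc⟩ := nonempty_inter_closedPoints (Z := (closedPoints K.left)ᶜ) ⟨y, hn⟩
      hcl.isOpen_compl.isLocallyClosed
    exact hz hzc
  haveI : LocallyQuasiFinite K.hom :=
    locallyQuasiFinite_iff_finite_preimage_singleton.2 fun _ => Set.toFinite _
  exact ⟨K, str, i, hstr, inferInstance, IsFinite.of_isProper_of_locallyQuasiFinite K.hom, hK⟩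

/-- **The structure of the Mumford family at the unit.** -/
theorem exists_structure (hfin : Set.Finite {a : Pt | AVTheta8.delta hL a = 1}) (g : ℕ)
    (hg : topologicalKrullDim ↥A.left = g) :
    ∃ (P : CochainComplex (ModuleCat.{u} (A.left.presheaf.stalk (e0 A))) ℤ)
      (e₀ : P.X 0 ≃ₗ[A.left.presheaf.stalk (e0 A)] A.left.presheaf.stalk (e0 A))
      (xs : List (A.left.presheaf.stalk (e0 A))),
      Good P g ∧ LocCoh.depth (A.left.presheaf.stalk (e0 A)) (A.left.presheaf.stalk (e0 A)) = g ∧
      (∀ p : ℕ, Module.finrank (A.left.presheaf.stalk (e0 A)) (P.X (p : ℤ)) =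
        @Module.finrank k (Coh.HH A.left (Coh.structureModule A.left) p) _ _
          (QCoh.modHH (Coh.toGlobal A.hom) (Coh.structureModule A.left) p)) ∧
      RingTheory.Sequence.IsWeaklyRegular (A.left.presheaf.stalk (e0 A)) xs ∧ xs.length = g ∧
      Ideal.ofList xs = dualIdeal P (e₀.symm 1) ∧
      ∀ f ∈ xs, f ∈ maximalIdeal (A.left.presheaf.stalk (e0 A)) := by
  haveI : IsIntegral A.left := GeometricallyIntegral.isIntegral_of_subsingleton A.hom
  haveI : IsLocallyNoetherian A.left := LocallyOfFiniteType.isLocallyNoetherian A.hom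
  haveI : JacobsonSpace A.left := LocallyOfFiniteType.jacobsonSpace A.hom
  haveI : IsCommMonObj A := isCommMonObj_of_isProper_of_geometricallyIntegral A
  haveI : CompactSpace A.left := QuasiCompact.compactSpace_of_compactSpace A.hom
  haveI : AlgebraicGeometry.IsNoetherian A.left := ⟨⟩
  haveI : A.left.IsSeparated := ⟨by rw [← terminal.comp_from A.hom]; infer_instance⟩
  haveI : Smooth A.hom := GrpSchLib.smooth_of_isReduced_of_isAlgClosed A
  let R := A.left.presheaf.stalk (e0 A)
  have hs : IsClosed ({e0 A} : Set A.left) := AVAmple.isClosed_pt (1 : Pt)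
  haveI : IsRegularLocalRing R := GrpSchLib.isRegularLocalRing_stalk_of_smooth A.hom (e0 A)
  have hdimR : ringKrullDim R = (g : WithBot ℕ∞) := (S0354.result k A (e0 A) hs).trans hg
  have hdepth : LocCoh.depth R R = (g : ℕ∞) := by
    have h := (S10834.depth_of_regular R).trans hdimR
    exact_mod_cast h
  -- the family
  obtain ⟨M, hM, hMcl⟩ := exists_family hL
  let f : (A ⊗ A).left ⟶ A.left := (snd A A).left
  haveI : IsProper f := inferInstanceAs (IsProper (pullback.snd A.hom A.hom))
  haveI : Flat f := inferInstanceAs (Flat (pullback.snd A.hom A.hom))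
  haveI : LocallyOfFinitePresentation f := inferInstanceAs (LocallyOfFinitePresentation (pullback.snd A.hom A.hom))
  have hqM : Coh.IsQCoh M := QCoh.isQCoh_of_isFinLocFree (PullPush.isFinLocFree_of_isInvertible hM)
  haveI := hqM
  have hfp := SeesawGen.isFP_of_isInvertible hM
  have hfl := Seesaw.isFlatOver_of_isInvertible f hM
  -- the open set
  let T : Set A.left := AVAmple.pt '' ({a : Pt | AVTheta8.delta hL a = 1} \ {1})
  have hT : T.Finite := (hfin.subset Set.sdiff_subset).image _
  have hTc : ∀ x ∈ T, IsClosed ({x} : Set A.left) := by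
    rintro _ ⟨a, -, rfl⟩
    exact AVAmple.isClosed_pt a
  let U := AVTheta8.complOpen hT hTc
  have hsU : e0 A ∈ U := by
    rintro ⟨a, ⟨-, ha⟩, hae⟩
    exact ha (pt_injective hae)
  have hvan : ∀ z ∈ U, z ≠ e0 A → ∀ p, CohPullLib.VanAt f M p z := by
    intro z hz hzs p
    by_contra hn
    obtain ⟨w, hw, hwc⟩ := nonempty_inter_closedPoints
      (Z := ((U : Set A.left) ∩ {e0 A}ᶜ) ∩ {y : A.left | CohPullLib.VanAt f M p y}ᶜ) ⟨z, ⟨hz, hzs⟩, hn⟩
      ((U.2.inter hs.isOpen_compl).isLocallyClosed.inter (CohPullLib.isOpen_vanAt p).isClosed_compl.isLocallyClosed)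
    obtain ⟨a, rfl⟩ := AVAmple.exists_pt (mem_closedPoints_iff.1 hwc)
    refine hw.2 (CohPullLib.vanAt_of_subsingleton hqM hfp hfl p ?_)
    refine (AVTheta8.subsingleton_fiberH_iff f a.left A.hom (Over.w a) (AVTheta8.isPullback_slice₂ a) M p).2 ?_
    refine AVTheta8.subsingleton_HH_of_additive (PicClLib.isInvertible_pullback _ hM) ?_ ?_ p
    · rw [cl_slice hL hMcl a]
      exact AVTheta8.isAdditive_delta hL a
    · intro ht
      have h1 : AVTheta8.delta hL a = 1 := Units.ext ((cl_slice hL hMcl a).symm.trans ((CubeAb.cl_eq_one_iff _).2 ht))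
      exact hw.1.1 ⟨a, ⟨h1, fun e => hw.1.2 (by rw [Set.mem_singleton_iff] at e ⊢; rw [e]; rfl)⟩, rfl⟩
  have hdim : ∀ p, g < p → CohIII.fiberRank f M p (e0 A) = 0 := fun p hp => by
    haveI : Subsingleton (CohIII.fiberH f M (e0 A) p) :=
      (AVTheta8.subsingleton_fiberH_iff f (1 : Pt).left A.hom (Over.w _) (AVTheta8.isPullback_slice₂ 1) M p).2
        (Snapper.subsingleton_HH_of_dim_le hg.le (QCoh.isQCoh_pullback _ hqM) hp)
    exact Module.finrank_zero_of_subsingleton
  obtain ⟨P, hP, hrank, -, hJ⟩ := exists_stalk_package (f := f) hqM hfp hfl hs U hsU hvan hdim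
  have hrank' : ∀ p : ℕ, Module.finrank R (P.X (p : ℤ)) =
      @Module.finrank k (Coh.HH A.left (Coh.structureModule A.left) p) _ _
        (QCoh.modHH (Coh.toGlobal A.hom) (Coh.structureModule A.left) p) := fun p => by
    obtain ⟨iO⟩ := (CubeAb.cl_eq_one_iff _).1 ((cl_slice hL hMcl (1 : Pt)).trans (by
      rw [AVTheta8.delta, show CubeAb.tr (1 : Pt) = 𝟙 A from AVAmple.tr_one, div_self']
      rfl))
    rw [hrank k (evUnit A) ker_evUnit A.left _ A.hom (by
      rw [evUnit_fromSpecStalk]; exact AVTheta8.isPullback_slice₂ (1 : Pt)) p]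
    letI : A.left.Over (Spec (CommRingCat.of k)) := ⟨A.hom⟩
    haveI : IsProper (A.left ↘ Spec (CommRingCat.of k)) := ‹IsProper A.hom›
    exact HilbPoly.finrank_HH_iso k iO p
  have h01 : Module.finrank R (P.X 0) = 1 := (hrank' 0).trans (finrank_H0 A)
  haveI := (hP.free 0).1
  haveI := (hP.free 0).2
  let e₀ : P.X 0 ≃ₗ[R] R := (Module.finBasisOfFinrankEq R _ h01).equivFun.trans (LinearEquiv.funUnique (Fin 1) R R)
  let J := dualIdeal P (e₀.symm 1)
  have hJm : J ≤ maximalIdeal R := le_dualIdeal_maximal hP _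
  obtain ⟨N, hN⟩ := hP.exists_pow_le (e₀.symm 1) e₀.toLinearMap (e₀.apply_symm_apply 1)
  -- the quotient by K(L)
  obtain ⟨K, _, iK, _, _, _, hK⟩ := exists_subgroup hL hfin
  obtain ⟨B, _, q, _, _, _, _, _, _, hiq, hlift⟩ := exists_quotient iK
  let φ : B.left.presheaf.stalk (q.left (e0 A)) →+* R := (q.left.stalkMap (e0 A)).hom
  haveI hφloc : IsLocalHom φ := inferInstanceAs (IsLocalHom (q.left.stalkMap (e0 A)).hom)
  let IB : Ideal R := (maximalIdeal (B.left.presheaf.stalk (q.left (e0 A)))).map φ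
  have hIB : IB ≤ maximalIdeal R := Ideal.map_le_iff_le_comap.2 fun b hb =>
    (mem_maximalIdeal _).2 fun hu => (mem_maximalIdeal b).1 hb (isUnit_of_map_unit φ b hu)
  have key : ∀ I : Ideal R, I ≤ maximalIdeal R → (∃ n : ℕ, maximalIdeal R ^ n ≤ I) → (J ≤ I ↔ IB ≤ I) := by
    intro I hIm hI
    have hne : I ≠ ⊤ := fun h => (maximalIdeal.isMaximal R).ne_top (top_le_iff.1 (h ▸ hIm))
    haveI : Nontrivial (R ⧸ I) := Ideal.Quotient.nontrivial_iff.2 hne
    haveI : IsLocalRing (R ⧸ I) := IsLocalRing.of_surjective' _ Ideal.Quotient.mk_surjective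
    let χ := Ideal.Quotient.mk I
    haveI : IsLocalHom χ := IsLocalHom.of_surjective _ Ideal.Quotient.mk_surjective
    let z := testPt χ
    let π : (A ⊗ testObj χ).left ⟶ Spec (CommRingCat.of (R ⧸ I)) := (snd A (testObj χ)).left
    haveI : IsProper π := inferInstanceAs (IsProper (pullback.snd A.hom (testObj χ).hom))
    haveI : Flat π := inferInstanceAs (Flat (pullback.snd A.hom (testObj χ).hom))
    haveI : GeometricallyIntegral π := inferInstanceAs (GeometricallyIntegral (pullback.snd A.hom (testObj χ).hom))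
    obtain ⟨h1, h2⟩ := hJ e₀ I hI _ (A ◁ z).left π (EqvUnr.isPullback_whiskerLeft A z)
    have hone : z ≫ q = 1 ↔ Triv ((Scheme.Modules.pullback (A ◁ z).left).obj M) := by
      rw [← CubeAb.cl_eq_one_iff, hMcl, ← mumfordTriv_iff_eq_one hL (C := R ⧸ I) rfl z, hK.univ]
      refine ⟨fun h => hlift _ _ h, ?_⟩
      rintro ⟨y, hy⟩
      rw [← hy, Category.assoc, hiq, MonObj.comp_one]
    rw [show (IB ≤ I) ↔ testPt χ ≫ q = 1 by rw [testPt_comp_eq_one, Ideal.mk_ker]]
    constructor
    · intro hle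
      obtain ⟨w, hw⟩ := h1 hle
      exact hone.2 (triv_of_faithful π (PicClLib.isInvertible_pullback _ hM) (triv_closedFibre hL hMcl χ) w hw)
    · intro h
      exact h2 (faithful_of_iso π (ThetaLib.gammaSnd_of_abelian A _) (hone.1 h))
  have hJIB : J = IB := by
    refine le_antisymm (le_of_forall_le_sup_pow fun n => ?_) ((key J hJm ⟨N, hN⟩).1 le_rfl)
    exact (key _ (sup_le hIB (Ideal.pow_le_self n.succ_ne_zero)) ⟨n + 1, le_sup_right⟩).2 le_sup_left
  -- generators
  haveI : IsIntegral B.left := GeometricallyIntegral.isIntegral_of_subsingleton B.hom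
  haveI : IsLocallyNoetherian B.left := LocallyOfFiniteType.isLocallyNoetherian B.hom
  haveI : Smooth B.hom := GrpSchLib.smooth_of_isReduced_of_isAlgClosed B
  let RB := B.left.presheaf.stalk (q.left (e0 A))
  haveI : IsRegularLocalRing RB := GrpSchLib.isRegularLocalRing_stalk_of_smooth B.hom _
  letI : Algebra RB R := φ.toAlgebra
  haveI : Module.Flat RB R := Flat.stalkMap q.left (e0 A)
  haveI : IsLocalHom (algebraMap RB R) := hφloc
  have hN' : maximalIdeal R ^ N ≤ IB := hJIB ▸ hN
  have hdim0 : ringKrullDim (R ⧸ IB) ≤ 0 := by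
    have hne : IB ≠ ⊤ := fun h => (maximalIdeal.isMaximal R).ne_top (top_le_iff.1 (h ▸ hIB))
    haveI : Nontrivial (R ⧸ IB) := Ideal.Quotient.nontrivial_iff.2 hne
    haveI : Ring.KrullDimLE 0 (R ⧸ IB) := by
      rw [Ideal.krullDimLE_zero_quotient_iff_forall_minimalPrimes_isMaximal]
      intro p hp
      haveI : p.IsPrime := hp.1.1
      have hle : maximalIdeal R ≤ p := Ideal.IsPrime.le_of_pow_le (hN'.trans hp.1.2)
      rw [← (maximalIdeal.isMaximal R).eq_of_le (Ideal.IsPrime.ne_top inferInstance) hle]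
      exact maximalIdeal.isMaximal R
    exact Ring.krullDimLE_iff.1 inferInstance
  have hdB : ringKrullDim RB ≤ (g : WithBot ℕ∞) := by
    rw [← hdimR, ← IsLocalRing.maximalIdeal_height_eq_ringKrullDim, ← IsLocalRing.maximalIdeal_height_eq_ringKrullDim]
    haveI : (maximalIdeal R).LiesOver (maximalIdeal RB) :=
      ⟨(IsLocalRing.maximalIdeal_comap (algebraMap RB R)).symm⟩
    rw [Ideal.height_eq_height_add_of_liesOver_of_hasGoingDown (maximalIdeal RB) (maximalIdeal R)]
    exact WithBot.coe_le_coe.2 le_self_add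
  obtain ⟨G, hGcard, hGspan⟩ := (IsNoetherian.noetherian (maximalIdeal RB)).exists_span_finset_card_eq_spanFinrank
  have hGg : G.card ≤ g := by
    have h := (IsRegularLocalRing.spanFinrank_maximalIdeal (R := RB)).trans_le hdB
    rw [← hGcard] at h
    exact_mod_cast h
  have hspan : Ideal.span (φ '' (G : Set RB)) = IB := by
    rw [← Ideal.map_span]
    exact congrArg (Ideal.map φ) hGspan
  classical
  have hgG : g ≤ G.card := by
    have h := ringKrullDim_le_ringKrullDim_quotient_add_card (G.image φ) (by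
      intro x hx
      rw [Finset.coe_image] at hx
      rw [IsLocalRing.ringJacobson_eq_maximalIdeal]
      exact hIB (hspan ▸ Ideal.subset_span hx))
    rw [Finset.coe_image, hspan, hdimR] at h
    have h' := h.trans (add_le_add hdim0 (show ((G.image φ).card : WithBot ℕ∞) ≤ (G.card : WithBot ℕ∞) from
      Nat.cast_le.2 Finset.card_image_le))
    rw [zero_add] at h'
    exact_mod_cast h'
  let xs : List R := G.toList.map φ
  have hxs : Ideal.ofList xs = IB := by
    rw [← hspan, Ideal.ofList]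
    congr 1
    ext r
    simp [xs]
  have hlen : xs.length = g := by
    rw [List.length_map, Finset.length_toList]
    exact le_antisymm hGg hgG
  have hmem : ∀ r ∈ xs, r ∈ maximalIdeal R := fun r hr => hIB (hxs ▸ Ideal.subset_span hr)
  haveI hCM : LocCoh.IsCohenMacaulayLocalRing R := by
    haveI := LC.gorenstein_of_isRegularLocalRing (R := R)
    exact LC.isCohenMacaulayLocalRing_of_gorenstein
  refine ⟨P, e₀, xs, hP, hdepth, hrank', ?_, hlen, hxs.trans hJIB.symm, hmem⟩
  refine ((H1CMDim.isRegular_iff_dim xs hmem).2 ?_).toIsWeaklyRegular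
  rw [hlen, hdimR, hxs]
  exact le_trans (add_le_add hdim0 le_rfl) (zero_add _).le

/-- **The Hodge numbers `h^{0,n}` of an abelian variety.** -/
theorem finrank_HH_structure (hL : PicF.IsInvertible L) (hfin : Set.Finite {a : Pt | AVTheta8.delta hL a = 1})
    (g : ℕ) (hg : topologicalKrullDim ↥A.left = g) (n : ℕ) :
    @Module.finrank k (Coh.HH A.left (Coh.structureModule A.left) n) _ _
      (QCoh.modHH (Coh.toGlobal A.hom) (Coh.structureModule A.left) n) = Nat.choose g n := by
  haveI : IsLocallyNoetherian A.left := LocallyOfFiniteType.isLocallyNoetherian A.hom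
  obtain ⟨P, e₀, xs, hP, hdepth, hrank, hreg, hlen, hxs, hm⟩ := exists_structure hL hfin g hg
  rw [← hrank n, hP.finrank_eq_choose hdepth e₀ xs hreg hxs hm n, hlen]

end Groth.Agent.AVDualCx
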