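import Groth.Agent.AVDualCx.Concentrated
import Groth.Agent.H23.BcComp
import Groth.Agent.RGLib.Lim8RelAmple
import Groth.Agent.Lib.AVProj
import Groth.Agent.RGLib.GenPSheaf

/-!
# Base change of a Poincaré family to an algebraically closed field
-/

noncomputable section

set_option autoImplicit false
set_option linter.style.haveILetI false
set_option linter.unusedSectionVars false
set_option backward.isDefEq.respectTransparency false
set_option backward.isDefEq.respectTransparency.types false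
set_option maxHeartbeats 1000000

universe u

open CategoryTheory CategoryTheory.Limits MonoidalCategory CartesianMonoidalCategory MonObj AlgebraicGeometry TopologicalSpace

namespace Groth.Agent.AVDualCx

open Groth.Agent Groth.Agent.H23 Groth.Agent.H23.TrivBasic
open scoped Groth.Agent.H23.PicMul

section Maps

variable {S S' : Scheme.{u}} (q : S' ⟶ S)

/-- The projection of a base change. -/
abbrev prj (A : Over S) : (Red.bc q A).left ⟶ A.left := pullback.fst A.hom q

/-- The projection of a product of base changes. -/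
abbrev prj₂ (A B : Over S) : (Red.bc q A ⊗ Red.bc q B).left ⟶ (A ⊗ B).left :=
  pullback.map (Red.bc q A).hom (Red.bc q B).hom A.hom B.hom (prj q A) (prj q B) q pullback.condition.symm
    pullback.condition.symm

theorem prj₂_fst (A B : Over S) :
    prj₂ q A B ≫ (fst A B).left = (fst (Red.bc q A) (Red.bc q B)).left ≫ prj q A := pullback.lift_fst _ _ _

theorem prj₂_snd (A B : Over S) :
    prj₂ q A B ≫ (snd A B).left = (snd (Red.bc q A) (Red.bc q B)).left ≫ prj q B := pullback.lift_snd _ _ _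

theorem left_comp {X Y Z : Over S} (f : X ⟶ Y) (g : Y ⟶ Z) : f.left ≫ g.left = (f ≫ g).left := rfl

theorem tensor_ext {A B : Over S} {Z : Scheme.{u}} (a b : Z ⟶ (A ⊗ B).left)
    (h1 : a ≫ (fst A B).left = b ≫ (fst A B).left) (h2 : a ≫ (snd A B).left = b ≫ (snd A B).left) : a = b :=
  pullback.hom_ext h1 h2

theorem one_prj (A : Over S) [GrpObj A] (T : Over S') :
    (1 : T ⟶ Red.bc q A).left ≫ prj q A = T.hom ≫ q ≫ η[A].left := by
  rw [Hom.one_def, Over.comp_left, Over.toUnit_left, Category.assoc]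
  congr 1
  show (Functor.LaxMonoidal.ε (Over.pullback q) ≫ (Over.pullback q).map η[A]).left ≫ prj q A = _
  rw [Over.comp_left, Over.ε_pullback_left, Category.assoc]
  rw [IsIso.inv_comp_eq]
  show pullback.lift (pullback.fst _ _ ≫ η[A].left) (pullback.snd _ _) _ ≫ pullback.fst _ _ = _
  rw [pullback.lift_fst, ← Category.assoc, ← pullback.condition, Category.comp_id]
  rfl

theorem mul_prj (A : Over S) [GrpObj A] :
    μ[Red.bc q A].left ≫ prj q A = prj₂ q A A ≫ μ[A].left := by
  show (Functor.LaxMonoidal.μ (Over.pullback q) A A ≫ (Over.pullback q).map μ[A]).left ≫ prj q A = _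
  rw [Over.comp_left, Category.assoc]
  have h : ((Over.pullback q).map μ[A]).left ≫ prj q A = pullback.fst (A ⊗ A).hom q ≫ μ[A].left :=
    pullback.lift_fst _ _ _
  rw [h, ← Category.assoc]
  congr 1
  refine tensor_ext _ _ ?_ ?_
  · rw [Category.assoc, prj₂_fst]
    exact Over.μ_pullback_left_fst_fst A A
  · rw [Category.assoc, prj₂_snd]
    exact Over.μ_pullback_left_fst_snd A A

theorem isPullback_prj₂_snd (A B : Over S) :
    IsPullback (prj₂ q A B) (snd (Red.bc q A) (Red.bc q B)).left (snd A B).left (prj q B) := by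
  refine IsPullback.of_right (h₁₂ := (fst A B).left) (v₁₃ := A.hom) (h₂₂ := B.hom) ?_ (prj₂_snd q A B)
    (IsPullback.of_hasPullback A.hom B.hom)
  rw [prj₂_fst, show prj q B ≫ B.hom = (Red.bc q B).hom ≫ q from pullback.condition]
  exact (IsPullback.of_hasPullback (Red.bc q A).hom (Red.bc q B).hom).paste_horiz (IsPullback.of_hasPullback A.hom q)

variable {A B : Over S} (c : A ⟶ B)

theorem map_prj : ((Over.pullback q).map c).left ≫ prj q B = prj q A ≫ c.left := pullback.lift_fst _ _ _

end Maps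

variable {k : Type u} [Field k] {k' : Type u} [Field k'] [IsAlgClosed k']
  (q : Spec (CommRingCat.of k') ⟶ Spec (CommRingCat.of k))
  {A At : Over (Spec (CommRingCat.of k))} [GrpObj A] [IsProper A.hom] [GeometricallyIntegral A.hom]
  [GrpObj At] [IsProper At.hom] [GeometricallyIntegral At.hom]

open Groth.Agent.AVPair Groth.Agent.AVDual

local notation "A'" => Red.bc q A
local notation "B'" => Red.bc q At

/-- A morphism to a base change, read over the base. -/
abbrev toBase {T : Over (Spec (CommRingCat.of k'))} (z : T ⟶ B') : Over.mk (T.hom ≫ q) ⟶ At :=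
  Over.homMk (z.left ≫ prj q At) (by
    rw [Category.assoc, show prj q At ≫ At.hom = (B').hom ≫ q from pullback.condition, ← Category.assoc, Over.w z]
    rfl)

variable {φ : ∀ T : Over (Spec (CommRingCat.of k)), PicF.Cl (PicF.XT A.hom T) → (T ⟶ At)}
  (hφ : AbDual.IsDualAV Scheme.fppfPrecoverage A At φ) {P : (A ⊗ At).left.Modules}

/-- The family over the extension. -/
abbrev bcMod (P : (A ⊗ At).left.Modules) : (A' ⊗ B').left.Modules := (Scheme.Modules.pullback (prj₂ q A At)).obj P

theorem triv_of_eq_comp {Z W : Scheme.{u}} {X : Scheme.{u}} {M : X.Modules} (m : Z ⟶ X) (a : Z ⟶ W) (b : W ⟶ X)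
    (h : m = a ≫ b) (ht : Triv ((Scheme.Modules.pullback b).obj M)) : Triv ((Scheme.Modules.pullback m).obj M) :=
  (triv_congr h).2 ((triv_comp_iff _ _).1 (ht.pullback _))

/-- Base change of the slice at a point. -/
theorem whisker_toBase {T : Over (Spec (CommRingCat.of k'))} (z : T ⟶ B') :
    ∃ θ : (A ⊗ Over.mk (T.hom ≫ q)).left ⟶ (A' ⊗ T).left,
      θ ≫ ((A' ◁ z).left ≫ prj₂ q A At) = (A ◁ toBase q z).left := by
  let T' := Over.mk (T.hom ≫ q)
  have hc : (fst A T').left ≫ A.hom = ((snd A T').left ≫ T.hom) ≫ q := by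
    rw [Over.w (fst A T'), Category.assoc]
    exact (Over.w (snd A T')).symm
  refine ⟨pullback.lift (pullback.lift (fst A T').left ((snd A T').left ≫ T.hom) hc) (snd A T').left
    (pullback.lift_snd _ _ _), tensor_ext _ _ ?_ ?_⟩
  · rw [Category.assoc, Category.assoc, prj₂_fst, ← Category.assoc (A' ◁ z).left, ← Over.comp_left,
      whiskerLeft_fst, ← Over.comp_left, whiskerLeft_fst]
    show pullback.lift _ _ _ ≫ pullback.fst _ _ ≫ pullback.fst A.hom q = _
    rw [pullback.lift_fst_assoc, pullback.lift_fst]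
  · rw [Category.assoc, Category.assoc, prj₂_snd, ← Category.assoc (A' ◁ z).left, ← Over.comp_left,
      whiskerLeft_snd, Over.comp_left, left_comp (A ◁ toBase q z), whiskerLeft_snd, Over.comp_left]
    show pullback.lift _ _ _ ≫ (pullback.snd _ _ ≫ z.left) ≫ prj q At = _
    rw [Category.assoc, pullback.lift_snd_assoc]
    rfl

include hφ in
theorem bc_hone (hξ : AbDual.IsPoincareCl A At φ (PicF.cl P)) (T : Over (Spec (CommRingCat.of k'))) :
    Triv ((Scheme.Modules.pullback (A' ◁ (1 : T ⟶ B')).left).obj (bcMod q P)) := by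
  haveI : LocallyOfFiniteType At.hom := inferInstance
  obtain ⟨-, h2⟩ := poincare_axes hφ hξ
  refine (triv_comp_iff _ _).2 (triv_of_eq_comp _ ((fst A' T).left ≫ prj q A) (lift (𝟙 A) (1 : A ⟶ At)).left ?_
    ((triv_iff _).2 h2))
  refine tensor_ext _ _ ?_ ?_
  · rw [Category.assoc, prj₂_fst, ← Category.assoc, ← Over.comp_left, whiskerLeft_fst, Category.assoc,
      left_comp (lift (𝟙 A) (1 : A ⟶ At)), lift_fst, Over.id_left, Category.comp_id]
  · rw [Category.assoc, prj₂_snd, ← Category.assoc, ← Over.comp_left, whiskerLeft_snd, Over.comp_left, Category.assoc,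
      one_prj, Category.assoc _ (lift (𝟙 A) (1 : A ⟶ At)).left, left_comp (lift (𝟙 A) (1 : A ⟶ At)), lift_snd,
      Hom.one_def, Over.comp_left, Over.toUnit_left, ← Category.assoc (snd A' T).left, Over.w (snd A' T),
      Category.assoc (fst A' T).left, ← Category.assoc (prj q A),
      show prj q A ≫ A.hom = (A').hom ≫ q from pullback.condition, Category.assoc,
      ← Category.assoc (fst A' T).left, Over.w (fst A' T)]

include hφ in
theorem bc_huniv (hξ : AbDual.IsPoincareCl A At φ (PicF.cl P)) (T : Over (Spec (CommRingCat.of k'))) (z : T ⟶ B')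
    (hz : Triv ((Scheme.Modules.pullback (A' ◁ z).left).obj (bcMod q P))) : z = 1 := by
  obtain ⟨θ, hθ⟩ := whisker_toBase q (A := A) z
  have h := (triv_iff _).1 (triv_of_eq_comp _ θ _ hθ.symm ((triv_comp_iff _ _).1 hz))
  have e := phi_pl hφ (toBase q z) hξ.1
  rw [show pl (A ◁ toBase q z) (PicF.cl P) = 1 from h, phi_one hφ, hξ.2.1, Category.comp_id] at e
  refine Over.OverMorphism.ext (pullback.hom_ext ?_ ((Over.w z).trans (Over.w (1 : T ⟶ B')).symm))
  show z.left ≫ prj q At = (1 : T ⟶ B').left ≫ prj q At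
  rw [one_prj]
  exact (congrArg CommaMorphism.left e).symm.trans (Category.assoc _ _ _)

include hφ in
theorem bc_axis (hξ : AbDual.IsPoincareCl A At φ (PicF.cl P)) :
    pl (lift (1 : B' ⟶ A') (𝟙 B')) (PicF.cl (bcMod q P)) = 1 := by
  haveI : LocallyOfFiniteType At.hom := inferInstance
  obtain ⟨h1, -⟩ := poincare_axes hφ hξ
  refine (triv_iff _).1 ((triv_comp_iff _ _).2 (triv_of_eq_comp _ (prj q At) (lift (1 : At ⟶ A) (𝟙 At)).left ?_
    ((triv_iff _).2 h1)))
  refine tensor_ext _ _ ?_ ?_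
  · rw [Category.assoc, prj₂_fst, ← Category.assoc, ← Over.comp_left, lift_fst, Category.assoc, one_prj,
      left_comp (lift (1 : At ⟶ A) (𝟙 At)), lift_fst, Hom.one_def, Over.comp_left, Over.toUnit_left,
      ← Category.assoc (B').hom, ← Category.assoc (prj q At)]
    exact congrArg (· ≫ η[A].left) pullback.condition.symm
  · rw [Category.assoc, prj₂_snd, ← Category.assoc, ← Over.comp_left, lift_snd, Category.assoc,
      left_comp (lift (1 : At ⟶ A) (𝟙 At)), lift_snd, Over.id_left, Over.id_left, Category.id_comp,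
      Category.comp_id]

include hφ in
theorem bc_hadd (hP : PicF.IsInvertible P) (hξ : AbDual.IsPoincareCl A At φ (PicF.cl P))
    (b : 𝟙_ (Over (Spec (CommRingCat.of k'))) ⟶ B') :
    CubeAb.IsAdditive (PicF.cl ((Scheme.Modules.pullback (lift (𝟙 A') (toUnit A' ≫ b)).left).obj (bcMod q P))) := by
  haveI : IsProper (A').hom := (BcComp.isAV_bc q A).1
  haveI : GeometricallyIntegral (A').hom := (BcComp.isAV_bc q A).2
  haveI : IsProper (B').hom := (BcComp.isAV_bc q At).1
  haveI : GeometricallyIntegral (B').hom := (BcComp.isAV_bc q At).2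
  let c : PicF.Cl (A' ⊗ B').left := PicF.cl (bcMod q P)
  have hc : PicF.IsInvertibleCl c := ⟨bcMod q P, rfl, PicClLib.isInvertible_pullback _ hP⟩
  have h1 := bc_axis q hφ hξ
  have h2 : pl (lift (𝟙 A') (1 : A' ⟶ B')) c = 1 := by
    rw [show lift (𝟙 A') (1 : A' ⟶ B') = lift (𝟙 A') (toUnit A') ≫ A' ◁ (1 : 𝟙_ _ ⟶ B') by
      rw [lift_whiskerLeft, MonObj.comp_one], ← pl_pl,
      show pl (A' ◁ (1 : 𝟙_ _ ⟶ B')) c = 1 from (triv_iff _).1 (bc_hone q hφ hξ _), map_one]
  show pl (fst A' A' * snd A' A') (pl (lift (𝟙 A') (toUnit A' ≫ b)) c) =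
    pl (fst A' A') (pl (lift (𝟙 A') (toUnit A' ≫ b)) c) * pl (snd A' A') (pl (lift (𝟙 A') (toUnit A' ≫ b)) c)
  have hcomp : ∀ u : A' ⊗ A' ⟶ A', u ≫ lift (𝟙 A') (toUnit A' ≫ b) = lift u (toUnit (A' ⊗ A') ≫ b) := fun u => by
    rw [comp_lift, Category.comp_id, ← Category.assoc, toUnit_unique (u ≫ toUnit A') (toUnit _)]
  rw [pl_pl, pl_pl, pl_pl, hcomp, hcomp, hcomp, add_left hc h1 h2]

/-- A finite morphism does not raise the dimension. -/
theorem dim_le_of_finite {X Y : Scheme.{u}} (f : X ⟶ Y) [IsFinite f] :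
    topologicalKrullDim X ≤ topologicalKrullDim Y := by
  let g : IrreducibleCloseds X → IrreducibleCloseds Y := fun Z =>
    ⟨f '' (Z : Set X), Z.isIrreducible.image _ f.continuous.continuousOn, f.isClosedMap _ Z.isClosed⟩
  refine Order.krullDim_le_of_strictMono g fun C D hCD => ?_
  refine lt_of_le_of_ne (Set.image_mono (f := f) hCD.le) fun h => ?_
  obtain ⟨a, ha⟩ := QuasiSober.sober C.isIrreducible C.isClosed
  obtain ⟨b, hb⟩ := QuasiSober.sober D.isIrreducible D.isClosed
  have hab : b ⤳ a := hb.specializes (hCD.le ha.mem)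
  have hfb : f b ∈ f '' (C : Set X) :=
    (congrArg (fun Z : IrreducibleCloseds Y => (Z : Set Y)) h).ge ⟨b, hb.mem, rfl⟩
  obtain ⟨c, hc, hce⟩ := hfb
  have h1 : f a ⤳ f b := hce ▸ (ha.specializes hc).map f.continuous
  have he : f a = f b := (h1.antisymm (hab.map f.continuous)).eq
  exact hCD.ne (IrreducibleCloseds.ext (by
    have e := CurveBC.eq_of_specializes_fibre f hab he.symm
    rw [← ha.def, ← hb.def, e]))

include hφ in
/-- The dual is at least as big as the abelian variety. -/
theorem bc_dim_le [IsAffineHom q] (hP : PicF.IsInvertible P) (hξ : AbDual.IsPoincareCl A At φ (PicF.cl P)) :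
    topologicalKrullDim (A').left ≤ topologicalKrullDim (B').left := by
  haveI : IsProper (A').hom := (BcComp.isAV_bc q A).1
  haveI : GeometricallyIntegral (A').hom := (BcComp.isAV_bc q A).2
  haveI : IsProper (B').hom := (BcComp.isAV_bc q At).1
  haveI : GeometricallyIntegral (B').hom := (BcComp.isAV_bc q At).2
  haveI : IsIntegral A.left := GeometricallyIntegral.isIntegral_of_subsingleton A.hom
  obtain ⟨L, hLa⟩ := AVProj.exists_isAmple (X := A)
  have hL : PicF.IsInvertible L := hLa.1
  obtain ⟨D, hD, ⟨e⟩⟩ := PicInv.exists_inverse hL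
  have hLD : PicF.cl L * PicF.cl D = 1 := by
    rw [← PicMul.cl_tensor]; exact PicMul.cl_eq_iff.2 ⟨e⟩
  let l : PicF.Cl A.left := PicF.cl L
  let d : PicF.Cl A.left := PicF.cl D
  let c : PicF.Cl (A ⊗ A).left := pl μ[A] l * pl (fst A A) d * pl (snd A A) d
  have hc : PicF.IsInvertibleCl c := PicMul.isInvertibleCl_mul (PicMul.isInvertibleCl_mul
    (isInv_pl _ ⟨L, rfl, hL⟩) (isInv_pl _ ⟨D, rfl, hD⟩)) (isInv_pl _ ⟨D, rfl, hD⟩)
  have hcz : PZ A A c := by
    refine pz_of_slice (1 : 𝟙_ (Over (Spec (CommRingCat.of k))) ⟶ A) hc ?_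
    simp only [c, map_mul, pl_pl]
    rw [show lift (𝟙 A) (toUnit A ≫ (1 : 𝟙_ _ ⟶ A)) ≫ μ[A] = 𝟙 A by
        rw [MonObj.comp_one]; exact _root_.mul_one (𝟙 A),
      lift_fst, lift_snd, pl_const ⟨D, rfl, hD⟩, _root_.mul_one, pl_id, pl_id, hLD]
  let lam : A ⟶ At := φ A c
  obtain ⟨hP1, -⟩ := poincare_axes hφ hξ
  have hlam : pl (A ◁ lam) (PicF.cl P) = c := by
    refine eq_of_phi hφ (pz_pl _ hξ.1) hcz (by rw [phi_pl hφ _ hξ.1, hξ.2.1, Category.comp_id]) 1 ?_
    rw [pl_pl, show lift (1 : A ⟶ A) (𝟙 A) ≫ A ◁ lam = lam ≫ lift (1 : At ⟶ A) (𝟙 At) by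
      ext <;> simp [MonObj.comp_one], ← pl_pl, hP1, map_one]
    simp only [c, map_mul, pl_pl]
    rw [show lift (1 : A ⟶ A) (𝟙 A) ≫ μ[A] = 𝟙 A from _root_.one_mul (𝟙 A), lift_fst, lift_snd,
      show (1 : A ⟶ A) = toUnit A ≫ η[A] from Hom.one_def, pl_const ⟨D, rfl, hD⟩, _root_.mul_one, pl_id, pl_id, hLD]
  let lam' : A' ⟶ B' := (Over.pullback q).map lam
  let l' : PicF.Cl (A').left := PicF.pullCl (prj q A) l
  let d' : PicF.Cl (A').left := PicF.pullCl (prj q A) d
  have hd' : PicF.IsInvertibleCl d' := PicClLib.isInvertibleCl_pullCl _ ⟨D, rfl, hD⟩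
  have hld' : l' * d' = 1 := by
    show PicF.pullCl (prj q A) l * PicF.pullCl (prj q A) d = 1
    rw [← PicMul.pullCl_mul, hLD, PicMul.pullCl_one]
  have hbc : pl (A' ◁ lam') (PicF.cl (bcMod q P)) = pl μ[A'] l' * pl (fst A' A') d' * pl (snd A' A') d' := by
    show PicF.pullCl (A' ◁ lam').left (PicF.pullCl (prj₂ q A At) (PicF.cl P)) = _
    rw [PicClLib.pullCl_comp, show (A' ◁ lam').left ≫ prj₂ q A At = prj₂ q A A ≫ (A ◁ lam).left from ?_,
      ← PicClLib.pullCl_comp]
    · show PicF.pullCl _ (pl (A ◁ lam) (PicF.cl P)) = _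
      rw [hlam]
      show PicF.pullCl (prj₂ q A A) (PicF.pullCl μ[A].left l * PicF.pullCl (fst A A).left d *
          PicF.pullCl (snd A A).left d) =
        PicF.pullCl μ[A'].left (PicF.pullCl (prj q A) l) * PicF.pullCl (fst A' A').left (PicF.pullCl (prj q A) d) *
          PicF.pullCl (snd A' A').left (PicF.pullCl (prj q A) d)
      simp only [PicMul.pullCl_mul, PicClLib.pullCl_comp]
      rw [prj₂_fst, prj₂_snd, mul_prj]
    · refine tensor_ext _ _ ?_ ?_
      · rw [Category.assoc, prj₂_fst, ← Category.assoc, ← Over.comp_left, whiskerLeft_fst, Category.assoc,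
          ← Over.comp_left, whiskerLeft_fst, prj₂_fst]
      · rw [Category.assoc, prj₂_snd, ← Category.assoc, ← Over.comp_left, whiskerLeft_snd, Over.comp_left,
          Category.assoc, map_prj, Category.assoc, left_comp (A ◁ lam), whiskerLeft_snd, Over.comp_left,
          ← Category.assoc (prj₂ q A A), prj₂_snd, Category.assoc]
  -- the slices
  have hslice : ∀ a : 𝟙_ (Over (Spec (CommRingCat.of k'))) ⟶ A',
      pl (lift (𝟙 A') (toUnit A' ≫ a ≫ lam')) (PicF.cl (bcMod q P)) = pl (CubeAb.tr a) l' * d' := fun a => by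
    rw [show lift (𝟙 A') (toUnit A' ≫ a ≫ lam') = lift (𝟙 A') (toUnit A' ≫ a) ≫ A' ◁ lam' by
      rw [lift_whiskerLeft, Category.assoc], ← pl_pl, hbc]
    simp only [map_mul, pl_pl]
    rw [show lift (𝟙 A') (toUnit A' ≫ a) ≫ μ[A'] = CubeAb.tr a from rfl, lift_fst, lift_snd, pl_id, pl_const hd',
      _root_.mul_one]
  let L' : (A').left.Modules := (Scheme.Modules.pullback (prj q A)).obj L
  haveI : IsAffineHom (prj q A) := MorphismProperty.pullback_fst (P := @IsAffineHom) A.hom q inferInstance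
  have hLa' : CohB1.IsAmple L' := by
    haveI : CompactSpace (A').left := QuasiCompact.compactSpace_of_compactSpace (A').hom
    exact RGLib.Lim8.isAmple_pullback_affine _ hLa
  have hfin := S12002.result k' A' L' hLa'
  haveI : IsCommMonObj (A') := isCommMonObj_of_isProper_of_geometricallyIntegral (A')
  haveI : LocallyOfFiniteType (A').hom := inferInstance
  haveI : LocallyOfFiniteType (B').hom := inferInstance
  haveI : JacobsonSpace (A').left := LocallyOfFiniteType.jacobsonSpace (A').hom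
  haveI : IsProper lam'.left := by
    haveI : IsProper (lam'.left ≫ (B').hom) := by rw [Over.w lam']; infer_instance
    exact IsProper.of_comp lam'.left (B').hom
  haveI : LocallyQuasiFinite lam'.left := by
    refine AVAmple.locallyQuasiFinite_of_closed lam'.left fun y hy => ?_
    let F : Set (A').left := lam'.left ⁻¹' {y}
    have hFc : IsClosed F := hy.preimage lam'.left.continuous
    suffices hs : (F ∩ closedPoints (A').left).Finite by
      refine hs.subset fun x hx => ?_
      by_contra hn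
      have hSc : IsClosed (F ∩ closedPoints (A').left) := by
        rw [← Set.biUnion_of_singleton (F ∩ closedPoints (A').left)]
        exact hs.isClosed_biUnion fun w hw => mem_closedPoints_iff.1 hw.2
      obtain ⟨w, hw, hwc⟩ := nonempty_inter_closedPoints (Z := F ∩ (F ∩ closedPoints (A').left)ᶜ) ⟨x, hx, hn⟩
        (hFc.isLocallyClosed.inter hSc.isOpen_compl.isLocallyClosed)
      exact hw.2 ⟨hw.1, hwc⟩
    rcases (F ∩ closedPoints (A').left).eq_empty_or_nonempty with h0 | ⟨x₀, hx₀, hx₀c⟩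
    · rw [h0]; exact Set.finite_empty
    obtain ⟨a₀, rfl⟩ := AVAmple.exists_pt (mem_closedPoints_iff.1 hx₀c)
    refine (hfin.image fun b => (b * a₀).left (IsLocalRing.closedPoint k')).subset fun x hx => ?_
    obtain ⟨a, rfl⟩ := AVAmple.exists_pt (mem_closedPoints_iff.1 hx.2)
    have hab : a ≫ lam' = a₀ ≫ lam' := Over.OverMorphism.ext (ext_of_apply_closedPoint_eq (B').hom
      (Over.w (a ≫ lam')) (Over.w (a₀ ≫ lam')) (hx.1.trans hx₀.symm))
    refine ⟨a * a₀⁻¹, ?_, by
      show (a * a₀⁻¹ * a₀).left _ = _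
      rw [inv_mul_cancel_right]⟩
    have h1 := hslice a
    rw [hab, hslice a₀] at h1
    have h2 : pl (CubeAb.tr a₀) l' = pl (CubeAb.tr a) l' := by
      have := congrArg (· * l') h1
      simp only [_root_.mul_assoc] at this
      rw [_root_.mul_comm d' l', hld', _root_.mul_one, _root_.mul_one] at this
      exact this
    have h3 : pl (CubeAb.tr (a * a₀⁻¹)) l' = l' := by
      have h4 := congrArg (pl (CubeAb.tr a₀⁻¹)) h2
      rw [pl_pl, pl_pl, AVAmple.tr_tr, AVAmple.tr_tr, inv_mul_cancel, _root_.mul_comm a₀⁻¹ a] at h4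
      refine Eq.trans h4.symm ?_
      rw [show AVAmple.tr (1 : 𝟙_ (Over (Spec (CommRingCat.of k'))) ⟶ A') = 𝟙 A' by
        show 𝟙 A' * (toUnit A' ≫ 1) = 𝟙 A'
        rw [MonObj.comp_one, _root_.mul_one], pl_id]
    exact PicMul.cl_eq_iff.1 h3
  haveI : IsFinite lam'.left := IsFinite.of_isProper_of_locallyQuasiFinite _
  exact dim_le_of_finite lam'.left

include hφ in
/-- **The direct images of a Poincaré family over an algebraically closed extension.** -/
theorem bc_concentrated [IsAffineHom q] [HasInjectiveResolutions (A' ⊗ B').left.Modules] (hP : PicF.IsInvertible P)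
    (hξ : AbDual.IsPoincareCl A At φ (PicF.cl P)) {g : ℕ} (hg : topologicalKrullDim (A').left = g) :
    haveI : IsProper (B').hom := (BcComp.isAV_bc q At).1
    haveI : GeometricallyIntegral (B').hom := (BcComp.isAV_bc q At).2
    (∀ p, p ≠ g → IsZero ((Coh.Rpush (snd A' B').left p).obj (bcMod q P))) ∧
      Nonempty (((Coh.Rpush (snd A' B').left g).obj (bcMod q P)).presheaf.stalk (e0 B') ≃ₗ[(B').left.presheaf.stalk (e0 B')]
        (B').left.presheaf.stalk (e0 B') ⧸ IsLocalRing.maximalIdeal ((B').left.presheaf.stalk (e0 B'))) ∧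
      ∀ z, z ≠ e0 B' → Subsingleton (((Coh.Rpush (snd A' B').left g).obj (bcMod q P)).presheaf.stalk z) := by
  haveI : IsProper (A').hom := (BcComp.isAV_bc q A).1
  haveI : GeometricallyIntegral (A').hom := (BcComp.isAV_bc q A).2
  haveI : IsProper (B').hom := (BcComp.isAV_bc q At).1
  haveI : GeometricallyIntegral (B').hom := (BcComp.isAV_bc q At).2
  exact rpush_concentrated g (bc_hone q hφ hξ) (bc_hadd q hφ hP hξ) (bc_huniv q hφ hξ) hg
    (hg ▸ bc_dim_le q hφ hP hξ) (PicClLib.isInvertible_pullback _ hP)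

end Groth.Agent.AVDualCx
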