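import Groth.Agent.AVDualCx.Family
import Groth.Agent.AVTheta8.Surj
import Groth.Agent.SeesawSub.Local

/-!
# Local points at the unit of an abelian variety, and sections over local bases
-/

noncomputable section

set_option autoImplicit false
set_option linter.style.haveILetI false
set_option linter.unusedSectionVars false
set_option backward.isDefEq.respectTransparency false
set_option backward.isDefEq.respectTransparency.types false
set_option maxHeartbeats 1000000

universe u

open CategoryTheory CategoryTheory.Limits MonoidalCategory CartesianMonoidalCategory MonObj AlgebraicGeometry TopologicalSpace Opposite IsLocalRing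

namespace Groth.Agent.AVDualCx

open Groth.Agent Groth.Agent.H23 Groth.Agent.H23.TrivBasic
open scoped Groth.Agent.H23.PicMul

section General

/-- An invertible module on the spectrum of a local ring is trivial. -/
theorem trivial_of_isLocalRing {C : Type u} [CommRing C] [IsLocalRing C] {L : (Spec (CommRingCat.of C)).Modules}
    (hL : PicF.IsInvertible L) : PicF.cl L = 1 := by
  obtain ⟨U, hx, e, he⟩ := InvX.exists_frame hL (closedPoint C : PrimeSpectrum C)
  obtain rfl : U = ⊤ := (closedPoint_mem_iff (R := C) U).1 hx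
  exact (PicGrp.cl_eq_cl_iff _ _).2 (InvUfdLib.nonempty_iso_of_frame he)

/-- Degree zero cohomology is the group of global sections, compatibly with the global functions. -/
theorem exists_equiv_sections {X : Scheme.{u}} (M : X.Modules) :
    ∃ e : Coh.HH X M 0 ≃+ Γ(M, ⊤), ∀ (r : Coh.Γtop X) (x : Coh.HH X M 0),
      e (r • x) = (show Γ(X, ⊤) from r) • e x := by
  let e : Coh.HH X M 0 ≃+ Γ(M, ⊤) := Sheaf.H.equiv₀ (Coh.toAb M) isTerminalTop
  refine ⟨e, fun r x => ?_⟩
  have h := (Sheaf.H.equiv₀_naturality isTerminalTop (Coh.smulAb M r) x).symm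
  refine (show e (r • x) = _ from h).trans ?_
  show (show Γ(X, ⊤) from Coh.resTop X (Opposite.op ⊤) r) • e x = _
  congr 1
  show (X.presheaf.map (homOfLE le_top).op).hom r = r
  rw [show (homOfLE le_top).op = 𝟙 (Opposite.op (⊤ : X.Opens)) from rfl, X.presheaf.map_id]
  rfl

/-- Cohomology in degree zero of the structure sheaf is faithful when the global functions are the base. -/
theorem faithful_of_iso {X : Scheme.{u}} {C : Type u} [CommRing C] (π : X ⟶ Spec (CommRingCat.of C))
    (hπ : Function.Bijective π.appTop) {M : X.Modules} (hM : Triv M) :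
    letI := QCoh.modHH (Coh.toGlobal π) M 0
    ∀ c : C, (∀ z : Coh.HH X M 0, c • z = 0) → c = 0 := by
  intro c hc
  obtain ⟨s, hs⟩ := hM.exists_frame
  obtain ⟨e, he⟩ := exists_equiv_sections M
  refine (Seesaw.toGlobal_bijective π hπ).1 ?_
  rw [map_zero]
  refine hs.coord_unique le_rfl (r' := 0) ?_
  rw [AModX.res_self, zero_smul]
  obtain ⟨z, rfl⟩ := e.surjective s
  rw [← he]
  exact (congrArg e (hc z)).trans (map_zero e)

/-- A faithful class in degree zero of a family over a local Noetherian base with trivial closed fibre gives a trivialisation. -/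
theorem triv_of_faithful {X : Scheme.{u}} {C : Type u} [CommRing C] [IsLocalRing C] [IsNoetherianRing C]
    (π : X ⟶ Spec (CommRingCat.of C)) [IsProper π] [Flat π] [GeometricallyIntegral π] {M : X.Modules}
    (hM : PicF.IsInvertible M)
    (hT : Triv ((Scheme.Modules.pullback (pullback.fst π (Spec.map (CommRingCat.ofHom
      (algebraMap C (closedPoint C).asIdeal.ResidueField))))).obj M))
    (z : Coh.HH X M 0)
    (hz : letI := QCoh.modHH (Coh.toGlobal π) M 0; ∀ c : C, c • z = 0 → c = 0) : Triv M := by
  letI : X.Over (Spec (CommRingCat.of C)) := ⟨π⟩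
  haveI : IsProper (X ↘ Spec (CommRingCat.of C)) := ‹_›
  haveI : Flat (X ↘ Spec (CommRingCat.of C)) := ‹_›
  haveI : GeometricallyIntegral (X ↘ Spec (CommRingCat.of C)) := ‹_›
  letI := QCoh.modHH (Coh.toGlobal π) M 0
  obtain ⟨e, he⟩ := exists_equiv_sections M
  obtain ⟨U, hx, s, hs⟩ := SeesawSub.exists_frame_of_faithful (A := C) hM (x := closedPoint C) hT (e z) fun c hc =>
    hz c (e.injective ((he _ z).trans (hc.trans (map_zero e).symm)))
  obtain rfl : U = ⊤ := (closedPoint_mem_iff (R := C) U).1 hx
  exact triv_of_frame hs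

end General

section AtUnit

variable {k : Type u} [Field k] {A : Over (Spec (CommRingCat.of k))} [GrpObj A]

/-- The unit point. -/
def e0 (A : Over (Spec (CommRingCat.of k))) [GrpObj A] : A.left :=
  (1 : 𝟙_ (Over (Spec (CommRingCat.of k))) ⟶ A).left (closedPoint k)

/-- Evaluation at the unit. -/
def evUnit (A : Over (Spec (CommRingCat.of k))) [GrpObj A] : A.left.presheaf.stalk (e0 A) →+* k :=
  (Scheme.stalkClosedPointTo (R := CommRingCat.of k) (1 : 𝟙_ (Over (Spec (CommRingCat.of k))) ⟶ A).left).hom

theorem evUnit_fromSpecStalk :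
    Spec.map (CommRingCat.ofHom (evUnit A)) ≫ A.left.fromSpecStalk (e0 A) =
      (1 : 𝟙_ (Over (Spec (CommRingCat.of k))) ⟶ A).left :=
  Scheme.Spec_stalkClosedPointTo_fromSpecStalk (R := CommRingCat.of k)
    (1 : 𝟙_ (Over (Spec (CommRingCat.of k))) ⟶ A).left

theorem ker_evUnit : RingHom.ker (evUnit A) = maximalIdeal (A.left.presheaf.stalk (e0 A)) := by
  haveI : IsLocalHom (evUnit A) := inferInstanceAs (IsLocalHom (Scheme.stalkClosedPointTo (R := CommRingCat.of k)
    (1 : 𝟙_ (Over (Spec (CommRingCat.of k))) ⟶ A).left).hom)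
  ext r
  rw [RingHom.mem_ker, IsLocalRing.mem_maximalIdeal, mem_nonunits_iff]
  refine ⟨fun h hu => not_isUnit_zero (h ▸ hu.map (evUnit A)), fun h => ?_⟩
  by_contra hn
  exact h (isUnit_of_map_unit (evUnit A) r (isUnit_iff_ne_zero.2 hn))

/-- The constants in the stalk at the unit. -/
def scal (A : Over (Spec (CommRingCat.of k))) [GrpObj A] : k →+* A.left.presheaf.stalk (e0 A) :=
  (Spec.preimage (R := CommRingCat.of k) (S := A.left.presheaf.stalk (e0 A)) (A.left.fromSpecStalk (e0 A) ≫ A.hom)).hom

theorem scal_spec : Spec.map (CommRingCat.ofHom (scal A)) = A.left.fromSpecStalk (e0 A) ≫ A.hom :=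
  Spec.map_preimage _

theorem evUnit_scal : (evUnit A).comp (scal A) = RingHom.id k := by
  refine congrArg CommRingCat.Hom.hom (Spec.map_injective
    (show Spec.map (CommRingCat.ofHom ((evUnit A).comp (scal A))) = Spec.map (𝟙 (CommRingCat.of k)) from ?_))
  rw [CommRingCat.ofHom_comp, Spec.map_comp, scal_spec, ← Category.assoc, evUnit_fromSpecStalk, Spec.map_id]
  exact Over.w (1 : 𝟙_ (Over (Spec (CommRingCat.of k))) ⟶ A)

theorem sub_scal_mem (r : A.left.presheaf.stalk (e0 A)) :
    r - scal A (evUnit A r) ∈ maximalIdeal (A.left.presheaf.stalk (e0 A)) := by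
  rw [← ker_evUnit, RingHom.mem_ker, map_sub, ← RingHom.comp_apply (evUnit A) (scal A), evUnit_scal,
    RingHom.id_apply, sub_self]

variable {C : Type u} [CommRing C] (χ : A.left.presheaf.stalk (e0 A) →+* C)

/-- The test object of a map out of the stalk at the unit. -/
def testObj : Over (Spec (CommRingCat.of k)) :=
  Over.mk ((Spec.map (CommRingCat.ofHom χ) ≫ A.left.fromSpecStalk (e0 A)) ≫ A.hom)

/-- The point with values in the test object. -/
def testPt : testObj χ ⟶ A := Over.homMk (Spec.map (CommRingCat.ofHom χ) ≫ A.left.fromSpecStalk (e0 A)) rfl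

theorem testObj_hom : (testObj χ).hom = Spec.map (CommRingCat.ofHom (χ.comp (scal A))) := by
  rw [CommRingCat.ofHom_comp, Spec.map_comp, scal_spec, ← Category.assoc]
  rfl

theorem spec_comp {B : Over (Spec (CommRingCat.of k))} (q : A ⟶ B) {D : Type u} [CommRing D]
    (χ' : A.left.presheaf.stalk (e0 A) →+* D) :
    (Spec.map (CommRingCat.ofHom χ') ≫ A.left.fromSpecStalk (e0 A)) ≫ q.left =
      Spec.map (CommRingCat.ofHom (χ'.comp (q.left.stalkMap (e0 A)).hom)) ≫
        B.left.fromSpecStalk (q.left (e0 A)) := by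
  rw [Category.assoc, ← Scheme.SpecMap_stalkMap_fromSpecStalk q.left, ← Category.assoc, ← Spec.map_comp]
  rfl

theorem one_left_eq {B : Over (Spec (CommRingCat.of k))} [GrpObj B] (q : A ⟶ B) [IsMonHom q] :
    (1 : testObj χ ⟶ B).left =
      Spec.map (CommRingCat.ofHom ((χ.comp (scal A)).comp ((evUnit A).comp (q.left.stalkMap (e0 A)).hom))) ≫
        B.left.fromSpecStalk (q.left (e0 A)) := by
  have h : (1 : testObj χ ⟶ B) = toUnit (testObj χ) ≫ ((1 : 𝟙_ (Over (Spec (CommRingCat.of k))) ⟶ A) ≫ q) := by
    rw [MonObj.one_comp, MonObj.comp_one]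
  rw [h, Over.comp_left, Over.comp_left, Over.toUnit_left, testObj_hom, ← evUnit_fromSpecStalk, spec_comp,
    ← Category.assoc, ← Spec.map_comp]
  rfl

/-- The constants in a stalk. -/
def scalAt (B : Over (Spec (CommRingCat.of k))) (x : B.left) : k →+* B.left.presheaf.stalk x :=
  (Spec.preimage (R := CommRingCat.of k) (S := B.left.presheaf.stalk x) (B.left.fromSpecStalk x ≫ B.hom)).hom

theorem scalAt_spec (B : Over (Spec (CommRingCat.of k))) (x : B.left) :
    Spec.map (CommRingCat.ofHom (scalAt B x)) = B.left.fromSpecStalk x ≫ B.hom :=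
  Spec.map_preimage _

theorem stalkMap_scalAt {B : Over (Spec (CommRingCat.of k))} (q : A ⟶ B) :
    (q.left.stalkMap (e0 A)).hom.comp (scalAt B (q.left (e0 A))) = scal A := by
  have h : Spec.map (CommRingCat.ofHom ((q.left.stalkMap (e0 A)).hom.comp (scalAt B (q.left (e0 A))))) =
      Spec.map (CommRingCat.ofHom (scal A)) := by
    rw [CommRingCat.ofHom_comp, Spec.map_comp, scalAt_spec, scal_spec, CommRingCat.ofHom_hom, ← Category.assoc,
      Scheme.SpecMap_stalkMap_fromSpecStalk, Category.assoc, Over.w]
  exact congrArg CommRingCat.Hom.hom (Spec.map_injective h)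

/-- A test point followed by a homomorphism is trivial exactly when the maximal ideal at the image dies. -/
theorem testPt_comp_eq_one {B : Over (Spec (CommRingCat.of k))} [GrpObj B] (q : A ⟶ B) [IsMonHom q] :
    testPt χ ≫ q = 1 ↔
      (maximalIdeal (B.left.presheaf.stalk (q.left (e0 A)))).map (q.left.stalkMap (e0 A)).hom ≤ RingHom.ker χ := by
  let φ : B.left.presheaf.stalk (q.left (e0 A)) →+* A.left.presheaf.stalk (e0 A) := (q.left.stalkMap (e0 A)).hom
  let ψ := (evUnit A).comp φ
  have h1 : (testPt χ ≫ q).left =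
      Spec.map (CommRingCat.ofHom (χ.comp φ)) ≫ B.left.fromSpecStalk (q.left (e0 A)) := spec_comp q χ
  have h2 : (1 : testObj χ ⟶ B).left =
      Spec.map (CommRingCat.ofHom ((χ.comp (scal A)).comp ψ)) ≫ B.left.fromSpecStalk (q.left (e0 A)) :=
    one_left_eq χ q
  have hlocal : maximalIdeal (B.left.presheaf.stalk (q.left (e0 A))) ≤ RingHom.ker ψ := fun b hb => by
    rw [RingHom.mem_ker, RingHom.comp_apply, ← RingHom.mem_ker, ker_evUnit]
    exact (mem_maximalIdeal _).2 fun hu => (mem_maximalIdeal b).1 hb (isUnit_of_map_unit φ b hu)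
  constructor
  · intro h
    rw [Ideal.map_le_iff_le_comap]
    intro b hb
    have h3 := congrArg Over.Hom.left h
    rw [h1, h2] at h3
    have h4 := RingHom.congr_fun (congrArg CommRingCat.Hom.hom (Spec.map_injective ((cancel_mono _).1 h3))) b
    rw [Ideal.mem_comap, RingHom.mem_ker]
    refine h4.trans ?_
    show χ (scal A (ψ b)) = 0
    rw [show ψ b = 0 from hlocal hb, map_zero, map_zero]
  · intro h
    refine Over.OverMorphism.ext ?_
    rw [h1, h2]
    refine congrArg (fun t => Spec.map (CommRingCat.ofHom t) ≫ B.left.fromSpecStalk (q.left (e0 A)))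
      (RingHom.ext fun b => ?_)
    let ιB : k →+* B.left.presheaf.stalk (q.left (e0 A)) := scalAt B (q.left (e0 A))
    have hφι : φ.comp ιB = scal A := stalkMap_scalAt q
    let l := ψ b
    have hψι : ψ (ιB l) = l := by
      show evUnit A ((φ.comp ιB) l) = l
      rw [hφι, ← RingHom.comp_apply, evUnit_scal, RingHom.id_apply]
    have hmem : b - ιB l ∈ maximalIdeal (B.left.presheaf.stalk (q.left (e0 A))) := by
      rw [mem_maximalIdeal, mem_nonunits_iff]
      intro hu
      have h5 := hu.map ψ
      rw [map_sub, hψι, sub_self] at h5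
      exact not_isUnit_zero h5
    have h6 := h (Ideal.mem_map_of_mem φ hmem)
    rw [RingHom.mem_ker, map_sub, map_sub, sub_eq_zero] at h6
    show χ (φ b) = χ (scal A l)
    rw [h6, ← RingHom.comp_apply φ ιB, hφι]

end AtUnit

end Groth.Agent.AVDualCx
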