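import Groth.Agent.LerayEuler.Main
import Groth.Agent.GrpOmega.Free
import Groth.Agent.FlatBC6.Main
import Groth.Agent.KFlatLib.Scheme.ProjLocFree
import Groth.Agent.VolLib.GenRank
import Groth.Agent.SlopeBound.Sect
import Groth.Agent.CurveCohLib.Rank
import Groth.Agent.AVTheta8.Vanish
import Groth.Agent.AVDualCx.Point

/-!
# The Euler characteristic of an exterior product of invertible modules
-/

noncomputable section

set_option autoImplicit false
set_option linter.style.haveILetI false
set_option linter.unusedSectionVars false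
set_option backward.isDefEq.respectTransparency false
set_option backward.isDefEq.respectTransparency.types false
set_option maxHeartbeats 1000000

universe u

open CategoryTheory CategoryTheory.Limits AlgebraicGeometry TopologicalSpace Opposite
open Groth.Agent Groth.Agent.H23
open scoped Groth.Agent.H23.PicMul

namespace Groth.Agent.AVDualCx

variable {k : Type u} [Field k]

/-- A finite locally free module on the spectrum of a field is free of some finite rank. -/
theorem exists_iso_free_spec {N : (Spec (CommRingCat.of k)).Modules} (hN : FlatMod.IsFinLocFree N) :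
    ∃ n : ℕ, Nonempty (N ≅ FlatMod.freeMod (Spec (CommRingCat.of k)) n) := by
  haveI : Unique ↥(Spec (CommRingCat.of k)) := inferInstanceAs (Unique (PrimeSpectrum k))
  obtain ⟨U, n, hU, ⟨φ⟩⟩ := hN default
  obtain rfl : U = ⊤ := top_le_iff.1 fun z _ => by rwa [Subsingleton.elim z default]
  let j := (Scheme.topIso (Spec (CommRingCat.of k))).inv
  have hj : j ≫ (⊤ : (Spec (CommRingCat.of k)).Opens).ι = 𝟙 _ := (Scheme.topIso _).inv_hom_id
  exact ⟨n, ⟨((Scheme.Modules.pullbackId _).app N).symm ≪≫ (Scheme.Modules.pullbackCongr hj).symm.app N ≪≫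
    ((Scheme.Modules.pullbackComp j _).app N).symm ≪≫
    (Scheme.Modules.pullback j).mapIso (((Scheme.Modules.restrictFunctorIsoPullback _).app N).symm ≪≫ φ) ≪≫
    FrB.pullbackFreeIso j n⟩⟩

/-- The Euler characteristic of the free module on a point. -/
theorem euler_free_spec (n : ℕ) :
    @Curv2.euler k _ (Spec (CommRingCat.of k)) ⟨𝟙 _⟩ (FlatMod.freeMod (Spec (CommRingCat.of k)) n) =
      (n : ℤ) * @Curv2.euler k _ (Spec (CommRingCat.of k)) ⟨𝟙 _⟩ (Coh.structureModule (Spec (CommRingCat.of k))) := by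
  letI : (Spec (CommRingCat.of k)).Over (Spec (CommRingCat.of k)) := ⟨𝟙 _⟩
  haveI : IsProper ((Spec (CommRingCat.of k)) ↘ Spec (CommRingCat.of k)) :=
    inferInstanceAs (IsProper (𝟙 (Spec (CommRingCat.of k))))
  exact SlopeBound.euler_freeMod (k := k) n

/-- The Euler characteristic of the point. -/
theorem euler_structure_spec :
    @Curv2.euler k _ (Spec (CommRingCat.of k)) ⟨𝟙 _⟩ (Coh.structureModule (Spec (CommRingCat.of k))) = 1 := by
  letI : (Spec (CommRingCat.of k)).Over (Spec (CommRingCat.of k)) := ⟨𝟙 _⟩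
  rw [Euler.euler_eq_sum k _ 1 fun i hi => by
    obtain ⟨j, rfl⟩ : ∃ j, i = j + 1 := ⟨i - 1, by omega⟩
    exact QCoh.subsingleton_HH_of_isAffine QCoh.isQCoh_structureModule j]
  rw [Finset.sum_range_one, pow_zero, _root_.one_mul]
  obtain ⟨e⟩ : Nonempty (Coh.HH (Spec (CommRingCat.of k)) (Coh.structureModule (Spec (CommRingCat.of k))) 0 ≃ₗ[k] k) := by
    obtain ⟨e0, he0⟩ := exists_equiv_sections (Coh.structureModule (Spec (CommRingCat.of k)))
    let ρ : Γ(Spec (CommRingCat.of k), ⊤) ≃+* k := (Scheme.ΓSpecIso (CommRingCat.of k)).commRingCatIsoToRingEquiv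
    refine ⟨AddEquiv.toLinearEquiv (e0.trans ρ.toAddEquiv) fun c x => ?_⟩
    show ρ (e0 (c • x)) = c * ρ (e0 x)
    rw [show e0 (c • x) = _ from he0 (Coh.toGlobal (𝟙 (Spec (CommRingCat.of k))) c) x]
    show ρ ((show Γ(Spec (CommRingCat.of k), ⊤) from Coh.toGlobal (𝟙 (Spec (CommRingCat.of k))) c) *
      (show Γ(Spec (CommRingCat.of k), ⊤) from e0 x)) = _
    rw [map_mul]
    congr 1
    rw [← RingEquiv.eq_symm_apply]
    rfl
  rw [e.finrank_eq, Module.finrank_self]
  rfl

variable (X Y : Over (Spec (CommRingCat.of k))) [IsProper X.hom] [IsProper Y.hom]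

/-- **Multiplicativity of the Euler characteristic.** -/
theorem euler_prod {F : X.left.Modules} (hF : PicF.IsInvertible F) {G : Y.left.Modules} (hG : PicF.IsInvertible G) :
    @Curv2.euler k _ (pullback X.hom Y.hom) ⟨pullback.snd X.hom Y.hom ≫ Y.hom⟩
        (CohB1.tensorMod ((Scheme.Modules.pullback (pullback.snd X.hom Y.hom)).obj G)
          ((Scheme.Modules.pullback (pullback.fst X.hom Y.hom)).obj F)) =
      @Curv2.euler k _ X.left ⟨X.hom⟩ F * @Curv2.euler k _ Y.left ⟨Y.hom⟩ G := by
  classical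
  let W := pullback X.hom Y.hom
  letI : W.Over (Spec (CommRingCat.of k)) := ⟨pullback.snd X.hom Y.hom ≫ Y.hom⟩
  letI : X.left.Over (Spec (CommRingCat.of k)) := ⟨X.hom⟩
  letI : Y.left.Over (Spec (CommRingCat.of k)) := ⟨Y.hom⟩
  letI : (Spec (CommRingCat.of k)).Over (Spec (CommRingCat.of k)) := ⟨𝟙 _⟩
  haveI : IsProper (W ↘ Spec (CommRingCat.of k)) := inferInstanceAs (IsProper (pullback.snd X.hom Y.hom ≫ Y.hom))
  haveI : IsProper (X.left ↘ Spec (CommRingCat.of k)) := ‹IsProper X.hom›
  haveI : IsProper (Y.left ↘ Spec (CommRingCat.of k)) := ‹IsProper Y.hom›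
  haveI : IsProper ((Spec (CommRingCat.of k)) ↘ Spec (CommRingCat.of k)) :=
    inferInstanceAs (IsProper (𝟙 (Spec (CommRingCat.of k))))
  haveI : HasInjectiveResolutions X.left.Modules := KFlatLib.hasInjectiveResolutions_modules
  haveI : HasInjectiveResolutions W.Modules := KFlatLib.hasInjectiveResolutions_modules
  haveI := CurveCohLib.isNoetherian_of_proper (k := k) (X := W)
  haveI := CurveCohLib.isNoetherian_of_proper (k := k) (X := X.left)
  haveI := CurveCohLib.isNoetherian_of_proper (k := k) (X := Y.left)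
  haveI hflatY : Flat Y.hom := inferInstance
  haveI : Flat X.hom := inferInstance
  let p₁ := pullback.fst X.hom Y.hom
  let f := pullback.snd X.hom Y.hom
  haveI : Flat p₁ := inferInstanceAs (Flat (pullback.fst X.hom Y.hom))
  haveI : PreservesFiniteLimits (Scheme.Modules.pullback p₁) := RGLib.Lim8.preservesFiniteLimits_pullback p₁
  haveI : LocallyOfFinitePresentation X.hom := inferInstance
  choose n hn using fun q => exists_iso_free_spec (AVTheta8.isFinLocFree_Rpush_field X.hom hF q)
  have hqF : Coh.IsQCoh F := QCoh.isQCoh_of_isFinLocFree (PullPush.isFinLocFree_of_isInvertible hF)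
  have hfree : ∀ q, Nonempty ((Coh.Rpush f q).obj ((Scheme.Modules.pullback p₁).obj F) ≅
      FlatMod.freeMod Y.left (n q)) := fun q => by
    haveI := FlatBC6.isIso_bcQ_flat (f := X.hom) (g := Y.hom) (f' := f) (g' := p₁)
      (IsPullback.of_hasPullback X.hom Y.hom) hqF q
    exact ⟨(asIso (CohBC.bcQ X.hom Y.hom f p₁ (IsPullback.of_hasPullback X.hom Y.hom).w q F)).symm ≪≫
      (Scheme.Modules.pullback Y.hom).mapIso (hn q).some ≪≫ FrB.pullbackFreeIso Y.hom (n q)⟩
  let M := CohB1.tensorMod ((Scheme.Modules.pullback f).obj G) ((Scheme.Modules.pullback p₁).obj F)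
  have hM : PicF.IsInvertible M :=
    PicMul.isInvertible_tensor (PicClLib.isInvertible_pullback _ hG) (PicClLib.isInvertible_pullback _ hF)
  have hterm : ∀ q, Curv2.euler k Y.left ((Coh.Rpush f q).obj M) = (n q : ℤ) * Curv2.euler k Y.left G := fun q => by
    obtain ⟨e⟩ := KFlatLib.nonempty_rpush_tensor_finLocFree f ((Scheme.Modules.pullback p₁).obj F) G
      (PullPush.isFinLocFree_of_isInvertible hG) q
    rw [← CurveCohLib.euler_congr (k := k) e, CurveCohLib.euler_congr (k := k)
      (show CohB1.tensorMod G ((Coh.Rpush f q).obj ((Scheme.Modules.pullback p₁).obj F)) ≅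
        (DCoh.tensorBi.obj G).obj (FlatMod.freeMod Y.left (n q)) from (DCoh.tensorBi.obj G).mapIso (hfree q).some)]
    obtain ⟨u⟩ : Nonempty (CohB1.tensorMod G (Coh.structureModule Y.left) ≅ G) :=
      PicMul.cl_eq_iff.1 ((PicMul.cl_tensor G (Coh.structureModule Y.left)).trans (_root_.mul_one _))
    have hfin : ∀ i, Module.Finite k (Coh.HH Y.left ((DCoh.tensorBi.obj G).obj (Coh.structureModule Y.left)) i) :=
      fun i => CurveCohLib.finite_HH (k := k) (X := Y.left)
        (AmpleVan.isCoh_invertible (PicMul.isInvertible_tensor hG InvX.isInvertible_structureModule)) i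
    rw [← CurveCohLib.euler_congr (k := k) u]
    unfold Curv2.euler
    rw [mul_finsum]
    refine finsum_congr fun i => ?_
    haveI := hfin i
    rw [VolLib.finrank_HH_free k (DCoh.tensorBi.obj G) (n q) i]
    push_cast
    show _ = (n q : ℤ) * ((-1 : ℤ) ^ i * (Module.finrank k
      (Coh.HH Y.left ((DCoh.tensorBi.obj G).obj (Coh.structureModule Y.left)) i) : ℤ))
    ring
  rw [LerayEuler.euler_eq k f rfl M (AmpleVan.isCoh_invertible hM)]
  have hX : Curv2.euler k X.left F = ∑ᶠ q : ℕ, (-1 : ℤ) ^ q * (n q : ℤ) := by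
    rw [LerayEuler.euler_eq k X.hom (Category.comp_id _) F (AmpleVan.isCoh_invertible hF)]
    refine finsum_congr fun q => congrArg _ ?_
    rw [CurveCohLib.euler_congr (k := k) (hn q).some, euler_free_spec, euler_structure_spec, _root_.mul_one]
  rw [hX, finsum_mul]
  refine finsum_congr fun q => ?_
  rw [hterm q, _root_.mul_assoc]

end Groth.Agent.AVDualCx
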