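import Groth.Agent.KFlatLib.Scheme.Pullback
import Groth.Agent.ZClosLib.Basic
import Groth.Agent.IntNum.Leading
import Groth.Agent.IntNum.Push
import Groth.Agent.AVEuler.Devis
import Groth.Agent.CohPullLib.Edge
import Groth.Agent.S0494
import Groth.Agent.RefX.Hom

/-!
# Modules supported at one point with residue field as stalk
-/

noncomputable section

set_option autoImplicit false
set_option linter.style.haveILetI false
set_option linter.unusedSectionVars false
set_option backward.isDefEq.respectTransparency false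
set_option backward.isDefEq.respectTransparency.types false
set_option maxHeartbeats 1000000

universe u

open CategoryTheory CategoryTheory.Limits AlgebraicGeometry TopologicalSpace Opposite IsLocalRing
open Groth.Agent

namespace Groth.Agent.AVDualCx

variable {X : Scheme.{u}}

theorem subsingleton_stalk_sky {y z : X} (hy : IsClosed ({y} : Set X)) (hne : z ≠ y)
    (N : ModuleCat.{u} (X.presheaf.stalk y)) :
    Subsingleton (((KFlatLib.sky y).obj N).presheaf.stalk z) := by
  let S := (KFlatLib.sky y).obj N
  refine subsingleton_of_forall_eq 0 fun w => ?_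
  obtain ⟨W, hW, s, rfl⟩ := TopCat.Presheaf.exists_germ_eq S.presheaf w
  let W' : X.Opens := W ⊓ ⟨{y}ᶜ, hy.isOpen_compl⟩
  have hz' : z ∈ W' := ⟨hW, hne⟩
  haveI : Subsingleton Γ(S, W') := ⟨fun a b => funext fun h => absurd rfl h.down.2⟩
  rw [← RefX.germ_res S (inf_le_left : W' ≤ W) hz', Subsingleton.elim (AModX.res S inf_le_left s) 0, map_zero]

/-- A module supported at a closed point is the skyscraper of its stalk. -/
theorem nonempty_iso_sky {M : X.Modules} {y : X} (hy : IsClosed ({y} : Set X))
    (h : ∀ z, z ≠ y → Subsingleton (M.presheaf.stalk z)) :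
    Nonempty (M ≅ (KFlatLib.sky y).obj ((DerSch.stalkFunctor X y).obj M)) := by
  let u : M ⟶ (KFlatLib.sky y).obj ((DerSch.stalkFunctor X y).obj M) := (KFlatLib.skyAdj y).unit.app M
  suffices hi : IsIso u from ⟨asIso u⟩
  refine ZClosLib.isIso_of_stalkMap_bijective u fun z => ?_
  by_cases hz : z = y
  · subst hz
    haveI : IsIso ((KFlatLib.skyAdj z).counit.app ((DerSch.stalkFunctor X z).obj M)) := by
      rw [ConcreteCategory.isIso_iff_bijective]
      let N := (DerSch.stalkFunctor X z).obj M
      have e : ∀ w, ((KFlatLib.skyAdj z).counit.app N).hom w = ((KFlatLib.skyStalkIso z).app N).hom.hom w := fun w => by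
        obtain ⟨W, hW, s, rfl⟩ := TopCat.Presheaf.exists_germ_eq ((KFlatLib.sky z).obj N).presheaf w
        show KFlatLib.ofSkyP z (𝟙 (KFlatLib.skyP z N)) (KFlatLib.germP (KFlatLib.skyP z N) W hW s) =
          KFlatLib.skyEval z N (KFlatLib.germP (KFlatLib.skyP z N) W hW s)
        rw [KFlatLib.ofSkyP_germ, KFlatLib.skyEval_germ]
        rfl
      rw [show ⇑((KFlatLib.skyAdj z).counit.app N).hom = ⇑((KFlatLib.skyStalkIso z).app N).hom.hom from funext e]
      exact ((KFlatLib.skyStalkIso z).app N).toLinearEquiv.bijective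
    haveI : IsIso ((DerSch.stalkFunctor X z).map u) := by
      haveI : IsIso ((DerSch.stalkFunctor X z).map u ≫
          (KFlatLib.skyAdj z).counit.app ((DerSch.stalkFunctor X z).obj M)) := by
        show IsIso ((DerSch.stalkFunctor X z).map ((KFlatLib.skyAdj z).unit.app M) ≫ _)
        rw [(KFlatLib.skyAdj z).left_triangle_components M]
        infer_instance
      exact IsIso.of_isIso_comp_right _ ((KFlatLib.skyAdj z).counit.app ((DerSch.stalkFunctor X z).obj M))
    have hb := ConcreteCategory.bijective_of_isIso ((DerSch.stalkFunctor X z).map u)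
    have e : ⇑(ConcreteCategory.hom (ZClosLib.stalkMap u z)) =
        ⇑(ConcreteCategory.hom ((DerSch.stalkFunctor X z).map u)) := by
      funext w
      obtain ⟨W, hW, s, rfl⟩ := TopCat.Presheaf.exists_germ_eq M.presheaf w
      exact (ZClosLib.stalkMap_germ u hW s).trans (DerSch.stalkFunctor_map_germ z u W hW s).symm
    rw [e]
    exact hb
  · haveI := h z hz
    haveI := subsingleton_stalk_sky hy hz ((DerSch.stalkFunctor X y).obj M)
    exact ⟨fun a b _ => Subsingleton.elim a b, fun w => ⟨0, Subsingleton.elim _ _⟩⟩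

/-- Two modules supported at a closed point with isomorphic stalks are isomorphic. -/
theorem nonempty_iso_of_stalk {M N : X.Modules} {y : X} (hy : IsClosed ({y} : Set X))
    (hM : ∀ z, z ≠ y → Subsingleton (M.presheaf.stalk z)) (hN : ∀ z, z ≠ y → Subsingleton (N.presheaf.stalk z))
    (e : M.presheaf.stalk y ≃ₗ[X.presheaf.stalk y] N.presheaf.stalk y) : Nonempty (M ≅ N) := by
  obtain ⟨a⟩ := nonempty_iso_sky hy hM
  obtain ⟨b⟩ := nonempty_iso_sky hy hN
  let e' : (DerSch.stalkFunctor X y).obj M ≅ (DerSch.stalkFunctor X y).obj N := e.toModuleIso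
  exact ⟨a ≪≫ (KFlatLib.sky y).mapIso e' ≪≫ b.symm⟩

variable {k : Type u} [Field k] (e : Spec (CommRingCat.of k) ⟶ X) [IsClosedImmersion e]

/-- The stalks of the direct image of a rational point. -/
theorem stalk_push_point :
    Nonempty (((Coh.push e).obj (Coh.structureModule (Spec (CommRingCat.of k)))).presheaf.stalk (e (closedPoint k))
      ≃ₗ[X.presheaf.stalk (e (closedPoint k))]
        X.presheaf.stalk (e (closedPoint k)) ⧸ maximalIdeal (X.presheaf.stalk (e (closedPoint k)))) ∧
    ∀ z, z ≠ e (closedPoint k) →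
      Subsingleton (((Coh.push e).obj (Coh.structureModule (Spec (CommRingCat.of k)))).presheaf.stalk z) := by
  haveI : IsIntegral (Spec (CommRingCat.of k)) := inferInstance
  haveI hsub : Subsingleton ↥(Spec (CommRingCat.of k)) := inferInstanceAs (Subsingleton (PrimeSpectrum k))
  have hgen : genericPoint (Spec (CommRingCat.of k)) = closedPoint k := Subsingleton.elim _ _
  constructor
  · have h1 := IntNum.lenAt_push_structure e
    rw [hgen] at h1
    let N := ((Coh.push e).obj (Coh.structureModule (Spec (CommRingCat.of k)))).presheaf.stalk (e (closedPoint k))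
    have h2 : Module.length (X.presheaf.stalk (e (closedPoint k))) N = 1 := by
      rw [IntNum.lenAt] at h1
      exact (ENat.toNat_eq_iff one_ne_zero).1 h1
    haveI : IsSimpleModule (X.presheaf.stalk (e (closedPoint k))) N := Module.length_eq_one_iff.1 h2
    obtain ⟨I, hI, ⟨l⟩⟩ := isSimpleModule_iff_quot_maximal.1 ‹IsSimpleModule (X.presheaf.stalk (e (closedPoint k))) N›
    obtain rfl : I = maximalIdeal (X.presheaf.stalk (e (closedPoint k))) := IsLocalRing.eq_maximalIdeal hI
    exact ⟨l⟩
  · intro z hz
    by_contra hn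
    haveI : IsLocallyNoetherian (Spec (CommRingCat.of k)) := inferInstance
    obtain ⟨w, hw⟩ := (QCohSupport (e := e)) hn
    exact hz (hw ▸ congrArg _ (Subsingleton.elim w (closedPoint k)))
where
  QCohSupport {Z : Scheme.{u}} {e : Z ⟶ X} [IsClosedImmersion e] :
      CohB1.support ((Coh.push e).obj (Coh.structureModule Z)) ⊆ Set.range e := by
    intro x hx
    by_contra hc
    refine hx (subsingleton_of_forall_eq 0 fun w => ?_)
    obtain ⟨W, hW, s, rfl⟩ := TopCat.Presheaf.exists_germ_eq ((Coh.push e).obj (Coh.structureModule Z)).presheaf w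
    let W' : X.Opens := W ⊓ ⟨(Set.range e)ᶜ, e.isClosedEmbedding.isClosed_range.isOpen_compl⟩
    have hx' : x ∈ W' := ⟨hW, hc⟩
    have hbot : e ⁻¹ᵁ W' = ⊥ := bot_unique fun z hz => hz.2 ⟨z, rfl⟩
    haveI : Subsingleton Γ((Coh.push e).obj (Coh.structureModule Z), W') := by
      show Subsingleton Γ(Z, e ⁻¹ᵁ W')
      rw [hbot]
      infer_instance
    rw [← RefX.germ_res _ (inf_le_left : W' ≤ W) hx',
      Subsingleton.elim (AModX.res ((Coh.push e).obj (Coh.structureModule Z)) inf_le_left s) 0, map_zero]

end Groth.Agent.AVDualCx
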