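import Groth.Agent.AVDualCx.Poincare
import Groth.Agent.AVDualCx.Point2
import Groth.Agent.AVDualCx.KunnethEuler
import Groth.Agent.AVEuler.Homog
import Groth.Agent.Lib.AVPicZero
import Groth.Agent.S0235
import Groth.Agent.CurveBC.FiniteDim
import Groth.Agent.S4716
import Groth.Agent.QCoh.DevissageP
import Groth.Agent.GrpOmega.Shear

/-!
# Euler characteristics of families concentrated at a point
-/

noncomputable section

set_option autoImplicit false
set_option linter.style.haveILetI false
set_option linter.unusedSectionVars false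
set_option backward.isDefEq.respectTransparency false
set_option backward.isDefEq.respectTransparency.types false
set_option maxHeartbeats 1000000

universe u

open CategoryTheory CategoryTheory.Limits MonoidalCategory CartesianMonoidalCategory MonObj AlgebraicGeometry TopologicalSpace Opposite IsLocalRing

namespace Groth.Agent.AVDualCx

open Groth.Agent Groth.Agent.H23 Groth.Agent.H23.TrivBasic
open scoped Groth.Agent.H23.PicMul

/-- Finite surjective morphisms preserve the dimension. -/
theorem dim_eq_of_finite_surjective {X Y : Scheme.{u}} (f : X ⟶ Y) [IsFinite f] [Surjective f]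
    [IsLocallyNoetherian X] [IsLocallyNoetherian Y] : topologicalKrullDim X = topologicalKrullDim Y := by
  refine le_antisymm ?_ (S4716.result f f.surjective (Or.inr f.isClosedMap))
  let g : IrreducibleCloseds X → IrreducibleCloseds Y := fun Z =>
    ⟨f '' (Z : Set X), Z.isIrreducible.image _ f.continuous.continuousOn, f.isClosedMap _ Z.isClosed⟩
  refine Order.krullDim_le_of_strictMono g fun A B hAB => ?_
  refine lt_of_le_of_ne (Set.image_mono (f := f) hAB.le) fun h => ?_
  obtain ⟨a, ha⟩ := QuasiSober.sober A.isIrreducible A.isClosed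
  obtain ⟨b, hb⟩ := QuasiSober.sober B.isIrreducible B.isClosed
  have hab : b ⤳ a := hb.specializes (hAB.le ha.mem)
  have hfb : f b ∈ f '' (A : Set X) :=
    (congrArg (fun Z : IrreducibleCloseds Y => (Z : Set Y)) h).ge ⟨b, hb.mem, rfl⟩
  obtain ⟨c, hc, hce⟩ := hfb
  have h1 : f a ⤳ f b := hce ▸ (ha.specializes hc).map f.continuous
  have he : f a = f b := (h1.antisymm (hab.map f.continuous)).eq
  exact hAB.ne (IrreducibleCloseds.ext (by
    have e := CurveBC.eq_of_specializes_fibre f hab he.symm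
    rw [← ha.def, ← hb.def, e]))

variable {k : Type u} [Field k]

/-- The Euler characteristic through a single direct image. -/
theorem euler_of_concentrated {W S : Scheme.{u}} [W.Over (Spec (CommRingCat.of k))] [S.Over (Spec (CommRingCat.of k))]
    [IsProper (W ↘ Spec (CommRingCat.of k))] [IsProper (S ↘ Spec (CommRingCat.of k))]
    [HasInjectiveResolutions W.Modules] (f : W ⟶ S)
    (hf : f ≫ (S ↘ Spec (CommRingCat.of k)) = W ↘ Spec (CommRingCat.of k)) {G : W.Modules} (hG : Coh.IsCoh G) {g : ℕ}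
    (h0 : ∀ q, q ≠ g → IsZero ((Coh.Rpush f q).obj G)) :
    Curv2.euler k W G = (-1 : ℤ) ^ g * Curv2.euler k S ((Coh.Rpush f g).obj G) := by
  rw [LerayEuler.euler_eq k f hf G hG]
  refine finsum_eq_single _ g fun q hq => ?_
  rw [Euler.euler_eq_sum k _ 0 fun i _ => Euler.subsingleton_HH_of_isZero (h0 q hq) i, Finset.sum_range_zero, mul_zero]

/-- Euler characteristics are invariant under pullback along isomorphisms. -/
theorem euler_pullback_iso {W W' : Scheme.{u}} [W.Over (Spec (CommRingCat.of k))] [W'.Over (Spec (CommRingCat.of k))]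
    (σ : W' ⟶ W) [IsIso σ] (hσ : σ ≫ (W ↘ Spec (CommRingCat.of k)) = W' ↘ Spec (CommRingCat.of k))
    {G : W.Modules} (hG : Coh.IsQCoh G) :
    Curv2.euler k W' ((Scheme.Modules.pullback σ).obj G) = Curv2.euler k W G := by
  rw [← IntNum.euler_push k σ hσ (QCoh.isQCoh_pullback σ hG)]
  haveI := AVTheta8.subsingleton_HH_pullback_iff.isIso_unit_of_isIso' σ G
  exact (CurveCohLib.euler_congr (k := k)
    (asIso ((Scheme.Modules.pullbackPushforwardAdjunction σ).unit.app G))).symm

/-- The Euler characteristic of the direct image of a rational point. -/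
theorem euler_push_point {S : Scheme.{u}} [S.Over (Spec (CommRingCat.of k))] (e : Spec (CommRingCat.of k) ⟶ S)
    [IsClosedImmersion e] (he : e ≫ (S ↘ Spec (CommRingCat.of k)) = 𝟙 _) :
    Curv2.euler k S ((Coh.push e).obj (Coh.structureModule (Spec (CommRingCat.of k)))) = 1 := by
  letI : (Spec (CommRingCat.of k)).Over (Spec (CommRingCat.of k)) := ⟨𝟙 _⟩
  rw [IntNum.euler_push k e he QCoh.isQCoh_structureModule]
  exact euler_structure_spec

variable [IsAlgClosed k] {A At : Over (Spec (CommRingCat.of k))} [GrpObj A] [IsProper A.hom]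
  [GeometricallyIntegral A.hom] [GrpObj At] [IsProper At.hom] [GeometricallyIntegral At.hom]
  {φ : ∀ T : Over (Spec (CommRingCat.of k)), PicF.Cl (PicF.XT A.hom T) → (T ⟶ At)}
  (hφ : AbDual.IsDualAV Scheme.fppfPrecoverage A At φ) {P : (A ⊗ At).left.Modules}

open Groth.Agent.AVPair Groth.Agent.AVDual

include hφ in
/-- **The direct images of a Poincaré module.** -/
theorem poincare_concentrated [HasInjectiveResolutions (A ⊗ At).left.Modules] (hP : PicF.IsInvertible P)
    (hξ : AbDual.IsPoincareCl A At φ (PicF.cl P)) {g : ℕ} (hg : topologicalKrullDim ↥A.left = g)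
    (hgt : (g : WithBot ℕ∞) ≤ topologicalKrullDim ↥At.left) :
    (∀ p, p ≠ g → IsZero ((Coh.Rpush (snd A At).left p).obj P)) ∧
      Nonempty ((Coh.Rpush (snd A At).left g).obj P ≅
        (Coh.push (1 : 𝟙_ (Over (Spec (CommRingCat.of k))) ⟶ At).left).obj
          (Coh.structureModule (Spec (CommRingCat.of k)))) := by
  haveI : LocallyOfFiniteType At.hom := inferInstance
  obtain ⟨h1, h2⟩ := poincare_axes hφ hξ
  let c : PicF.Cl (A ⊗ At).left := PicF.cl P
  have hc : PicF.IsInvertibleCl c := ⟨P, rfl, hP⟩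
  have hone : ∀ T : Over (Spec (CommRingCat.of k)),
      Triv ((Scheme.Modules.pullback (A ◁ (1 : T ⟶ At)).left).obj P) := fun T => by
    refine (triv_iff _).2 ?_
    rw [show A ◁ (1 : T ⟶ At) = fst A T ≫ lift (𝟙 A) (1 : A ⟶ At) from
      CartesianMonoidalCategory.hom_ext _ _ (by simp) (by simp [MonObj.comp_one]), ← pl_pl, h2, map_one]
  have hadd : ∀ b : 𝟙_ (Over (Spec (CommRingCat.of k))) ⟶ At,
      CubeAb.IsAdditive (PicF.cl ((Scheme.Modules.pullback (lift (𝟙 A) (toUnit A ≫ b)).left).obj P)) := fun b => by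
    show pl (fst A A * snd A A) (pl (lift (𝟙 A) (toUnit A ≫ b)) c) =
      pl (fst A A) (pl (lift (𝟙 A) (toUnit A ≫ b)) c) * pl (snd A A) (pl (lift (𝟙 A) (toUnit A ≫ b)) c)
    have hcomp : ∀ u : A ⊗ A ⟶ A, u ≫ lift (𝟙 A) (toUnit A ≫ b) = lift u (toUnit (A ⊗ A) ≫ b) := fun u => by
      rw [comp_lift, Category.comp_id, ← Category.assoc, toUnit_unique (u ≫ toUnit A) (toUnit _)]
    rw [pl_pl, pl_pl, pl_pl, hcomp, hcomp, hcomp, add_left hc h1 h2]
  have huniv : ∀ (T : Over (Spec (CommRingCat.of k))) (z : T ⟶ At),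
      Triv ((Scheme.Modules.pullback (A ◁ z).left).obj P) → z = 1 := fun T z hz => by
    have h := (triv_iff _).1 hz
    have e := phi_pl hφ z hξ.1
    rw [show pl (A ◁ z) (PicF.cl P) = 1 from h, phi_one hφ, hξ.2.1, Category.comp_id] at e
    exact e.symm
  obtain ⟨hz, ⟨l⟩, hz'⟩ := rpush_concentrated g hone hadd huniv hg hgt hP
  haveI : IsClosedImmersion (1 : 𝟙_ (Over (Spec (CommRingCat.of k))) ⟶ At).left :=
    isClosedImmersion_of_comp_eq_id At.hom _ (Over.w (1 : 𝟙_ (Over (Spec (CommRingCat.of k))) ⟶ At))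
  obtain ⟨⟨l'⟩, hz''⟩ := stalk_push_point (1 : 𝟙_ (Over (Spec (CommRingCat.of k))) ⟶ At).left
  exact ⟨hz, nonempty_iso_of_stalk (y := e0 At)
    (AVAmple.isClosed_pt (1 : 𝟙_ (Over (Spec (CommRingCat.of k))) ⟶ At)) hz' hz'' (l.trans l'.symm)⟩

include hφ in
/-- **The square of the Euler characteristic is the degree of the polarisation map.** -/
theorem euler_sq (hP : PicF.IsInvertible P) (hξ : AbDual.IsPoincareCl A At φ (PicF.cl P))
    {L L' : A.left.Modules} (hL : PicF.IsInvertible L) (hL' : PicF.cl L * PicF.cl L' = 1)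
    (lam : A ⟶ At) [IsFinite lam.left] [Flat lam.left] (d : ℕ) (hd : ∀ y, Scheme.Hom.finrank lam.left y = d)
    (hlam : pl (A ◁ lam) (PicF.cl P) = pl μ[A] (PicF.cl L) * pl (fst A A) (PicF.cl L') * pl (snd A A) (PicF.cl L')) :
    @Curv2.euler k _ A.left ⟨A.hom⟩ L ^ 2 = (d : ℤ) := by
  letI : A.left.Over (Spec (CommRingCat.of k)) := ⟨A.hom⟩
  letI : At.left.Over (Spec (CommRingCat.of k)) := ⟨At.hom⟩
  letI : (A ⊗ A).left.Over (Spec (CommRingCat.of k)) := ⟨(snd A A).left ≫ A.hom⟩
  letI : (A ⊗ At).left.Over (Spec (CommRingCat.of k)) := ⟨(snd A At).left ≫ At.hom⟩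
  haveI : IsProper (A.left ↘ Spec (CommRingCat.of k)) := ‹IsProper A.hom›
  haveI : IsProper (At.left ↘ Spec (CommRingCat.of k)) := ‹IsProper At.hom›
  haveI : IsIntegral A.left := GeometricallyIntegral.isIntegral_of_subsingleton A.hom
  haveI : IsIntegral At.left := GeometricallyIntegral.isIntegral_of_subsingleton At.hom
  haveI := CurveCohLib.isNoetherian_of_proper (k := k) (X := A.left)
  haveI := CurveCohLib.isNoetherian_of_proper (k := k) (X := At.left)
  haveI : HasInjectiveResolutions (A ⊗ A).left.Modules := KFlatLib.hasInjectiveResolutions_modules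
  haveI : HasInjectiveResolutions (A ⊗ At).left.Modules := KFlatLib.hasInjectiveResolutions_modules
  haveI : Surjective lam.left := Scheme.Hom.one_le_finrank_iff_surjective lam.left |>.1 fun y => by
    obtain ⟨x⟩ : Nonempty A.left := inferInstance
    show 1 ≤ _
    rw [hd y, ← hd (lam.left x)]
    exact Scheme.Hom.one_le_finrank_map lam.left x
  obtain ⟨g, hg⟩ : ∃ g : ℕ, topologicalKrullDim A.left = g :=
    ⟨_, VarDim.topologicalKrullDim_eq_deg_genericPoint A.hom⟩
  have hgt : topologicalKrullDim At.left = g := (dim_eq_of_finite_surjective lam.left).symm.trans hg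
  obtain ⟨hzero, ⟨iE⟩⟩ := poincare_concentrated hφ hP hξ hg hgt.ge
  let e : Spec (CommRingCat.of k) ⟶ At.left := (1 : 𝟙_ (Over (Spec (CommRingCat.of k))) ⟶ At).left
  have he : e ≫ At.hom = 𝟙 _ := Over.w (1 : 𝟙_ (Over (Spec (CommRingCat.of k))) ⟶ At)
  haveI : IsClosedImmersion e := isClosedImmersion_of_comp_eq_id At.hom e he
  let E := (Coh.push e).obj (Coh.structureModule (Spec (CommRingCat.of k)))
  -- base change along `lam`
  let f : (A ⊗ A).left ⟶ A.left := (snd A A).left
  let f' : (A ⊗ At).left ⟶ At.left := (snd A At).left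
  have sq : IsPullback (A ◁ lam).left f f' lam.left := EqvUnr.isPullback_whiskerLeft A lam
  haveI : IsProper f := inferInstanceAs (IsProper (pullback.snd A.hom A.hom))
  haveI : IsProper f' := inferInstanceAs (IsProper (pullback.snd A.hom At.hom))
  haveI : IsProper ((A ⊗ A).left ↘ Spec (CommRingCat.of k)) := inferInstanceAs (IsProper (f ≫ A.hom))
  haveI := CurveCohLib.isNoetherian_of_proper (k := k) (X := (A ⊗ A).left)
  haveI : Flat (A ◁ lam).left := MorphismProperty.of_isPullback (P := @Flat) sq.flip inferInstance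
  haveI : PreservesFiniteLimits (Scheme.Modules.pullback (A ◁ lam).left) :=
    RGLib.Lim8.preservesFiniteLimits_pullback _
  have hqP : Coh.IsQCoh P := QCoh.isQCoh_of_isFinLocFree (PullPush.isFinLocFree_of_isInvertible hP)
  let Q := (Scheme.Modules.pullback (A ◁ lam).left).obj P
  have hbc : ∀ q, Nonempty ((Coh.Rpush f q).obj Q ≅ (Scheme.Modules.pullback lam.left).obj ((Coh.Rpush f' q).obj P)) := fun q => by
    haveI := FlatBC6.isIso_bcQ_flat (f := f') (g := lam.left) (f' := f) (g' := (A ◁ lam).left) sq hqP q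
    exact ⟨(asIso (CohBC.bcQ f' lam.left f (A ◁ lam).left sq.w q P)).symm⟩
  -- the direct image is supported on a finite scheme
  let K := pullback e lam.left
  let i : K ⟶ A.left := pullback.snd e lam.left
  haveI : IsClosedImmersion i := inferInstanceAs (IsClosedImmersion (pullback.snd e lam.left))
  haveI : IsFinite (pullback.fst e lam.left) := inferInstanceAs (IsFinite (pullback.fst e lam.left))
  haveI : Flat (pullback.fst e lam.left) := inferInstanceAs (Flat (pullback.fst e lam.left))
  obtain ⟨b⟩ := AVEuler.nonempty_pullback_push e lam.left i (pullback.fst e lam.left)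
    (IsPullback.of_hasPullback e lam.left) QCoh.isQCoh_structureModule
  obtain ⟨o⟩ := PicClLib.nonempty_pullback_structureModule (pullback.fst e lam.left)
  let iK : (Scheme.Modules.pullback lam.left).obj E ≅ (Coh.push i).obj (Coh.structureModule K) :=
    b ≪≫ (Coh.push i).mapIso o
  have htw : Nonempty (CohB1.tensorMod ((Coh.push i).obj (Coh.structureModule K)) L ≅
      (Coh.push i).obj (Coh.structureModule K)) := by
    obtain ⟨V, hV, ⟨a⟩⟩ := S0235.result (pullback.fst e lam.left) ((Scheme.Modules.pullback i).obj L)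
      (PicClLib.isInvertible_pullback _ hL) (closedPoint k)
    haveI : Subsingleton ↥(Spec (CommRingCat.of k)) := inferInstanceAs (Subsingleton (PrimeSpectrum k))
    obtain rfl : V = ⊤ := top_le_iff.1 fun z _ => by rwa [Subsingleton.elim z (closedPoint k)]
    let W : K.Opens := pullback.fst e lam.left ⁻¹ᵁ ⊤
    let j : K ⟶ W.toScheme := (Scheme.topIso K).inv
    have hj : j ≫ W.ι = 𝟙 K := (Scheme.topIso K).inv_hom_id
    obtain ⟨o'⟩ := PicClLib.nonempty_pullback_structureModule j
    let t : (Scheme.Modules.pullback i).obj L ≅ Coh.structureModule K :=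
      ((Scheme.Modules.pullbackId _).app _).symm ≪≫ (Scheme.Modules.pullbackCongr hj).symm.app _ ≪≫
        ((Scheme.Modules.pullbackComp j W.ι).app _).symm ≪≫
        (Scheme.Modules.pullback j).mapIso (((Scheme.Modules.restrictFunctorIsoPullback W.ι).app _).symm ≪≫ a) ≪≫ o'
    obtain ⟨p⟩ := IntNum.push_tensor i (Coh.structureModule K) L
    obtain ⟨u⟩ : Nonempty (CohB1.tensorMod (Coh.structureModule K) (Coh.structureModule K) ≅ Coh.structureModule K) :=
      PicMul.cl_eq_iff.1 ((PicMul.cl_tensor _ _).trans (_root_.one_mul (1 : PicF.Cl K)))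
    exact ⟨p.symm ≪≫ (Coh.push i).mapIso (PicGrp.tensorModIso (Iso.refl _) t ≪≫ u)⟩
  -- twisting by the second factor
  let G := CohB1.tensorMod ((Scheme.Modules.pullback f).obj L) Q
  have hQ : PicF.IsInvertible Q := PicClLib.isInvertible_pullback _ hP
  have hGi : PicF.IsInvertible G := PicMul.isInvertible_tensor (PicClLib.isInvertible_pullback _ hL) hQ
  have hRG : ∀ q, Nonempty ((Coh.Rpush f q).obj G ≅ CohB1.tensorMod L ((Coh.Rpush f q).obj Q)) := fun q =>
    (KFlatLib.nonempty_rpush_tensor_finLocFree f Q L (PullPush.isFinLocFree_of_isInvertible hL) q).map Iso.symm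
  have hG1 : Curv2.euler k (A ⊗ A).left G = (-1 : ℤ) ^ g * d := by
    rw [euler_of_concentrated f rfl (AmpleVan.isCoh_invertible hGi) (g := g) fun q hq => by
      have h := (hzero q hq)
      have h' : IsZero ((Coh.Rpush f q).obj Q) :=
        ((Scheme.Modules.pullback lam.left).map_isZero h).of_iso (hbc q).some
      exact (((DCoh.tensorBi.obj L)).map_isZero h').of_iso (hRG q).some]
    congr 1
    rw [CurveCohLib.euler_congr (k := k) ((hRG g).some ≪≫
      PicGrp.tensorModIso (Iso.refl L) ((hbc g).some ≪≫ (Scheme.Modules.pullback lam.left).mapIso iE ≪≫ iK) ≪≫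
      (PicMul.cl_eq_iff.1 ((PicMul.cl_tensor _ _).trans ((_root_.mul_comm _ _).trans (PicMul.cl_tensor _ _).symm))).some ≪≫ htw.some ≪≫ iK.symm)]
    have hE : Coh.IsCoh E := QCoh.isCoh_push_structure e
    rw [AVEuler.euler_pullback lam d hd E hE]
    show (d : ℤ) * Curv2.euler k At.left E = d
    rw [euler_push_point e he, _root_.mul_one]
  -- the same class through the shear
  let σ := GrpOmega.shear A
  haveI : IsIso σ.hom.left := inferInstanceAs (IsIso ((Over.forget _).mapIso σ).hom)
  let B := CohB1.tensorMod ((Scheme.Modules.pullback f).obj L) ((Scheme.Modules.pullback (fst A A).left).obj L')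
  have hLi' : PicF.IsInvertible L' := by
    obtain ⟨D, hD, ⟨u⟩⟩ := H23.PicInv.exists_inverse hL
    have h2 : PicF.cl L * PicF.cl D = 1 := by
      rw [← PicMul.cl_tensor, PicMul.one_def]; exact PicMul.cl_eq_iff.2 ⟨u⟩
    exact PicMul.isInvertible_of_iso (PicMul.cl_eq_iff.1 ((PicMul.isUnit_cl hL).mul_left_cancel (h2.trans hL'.symm))).some hD
  have hB : PicF.IsInvertible B :=
    PicMul.isInvertible_tensor (PicClLib.isInvertible_pullback _ hL) (PicClLib.isInvertible_pullback _ hLi')
  have hGB : PicF.cl G = PicF.cl ((Scheme.Modules.pullback σ.hom.left).obj B) := by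
    show pl (snd A A) (PicF.cl L) * pl (A ◁ lam) (PicF.cl P) =
      pl σ.hom (pl (snd A A) (PicF.cl L) * pl (fst A A) (PicF.cl L'))
    rw [hlam, map_mul, pl_pl, pl_pl,
      show σ.hom ≫ snd A A = μ[A] by simp [σ, GrpOmega.shear, MonObj.mul_eq_mul],
      show σ.hom ≫ fst A A = fst A A by simp [σ, GrpOmega.shear]]
    have h0 : pl (snd A A) (PicF.cl L) * pl (snd A A) (PicF.cl L') = 1 := by rw [← map_mul, hL', map_one]
    calc _ = pl μ[A] (PicF.cl L) * pl (fst A A) (PicF.cl L') *
        (pl (snd A A) (PicF.cl L) * pl (snd A A) (PicF.cl L')) := by ac_rfl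
      _ = _ := by rw [h0, _root_.mul_one]
  have hG2 : Curv2.euler k (A ⊗ A).left G = Curv2.euler k A.left L' * Curv2.euler k A.left L := by
    rw [CurveCohLib.euler_congr (k := k) (PicMul.cl_eq_iff.1 hGB).some,
      euler_pullback_iso σ.hom.left (by
        show σ.hom.left ≫ (snd A A).left ≫ A.hom = (snd A A).left ≫ A.hom
        rw [show (snd A A).left ≫ A.hom = (A ⊗ A).hom from Over.w (snd A A)]
        exact Over.w σ.hom) (QCoh.isQCoh_of_isFinLocFree (PullPush.isFinLocFree_of_isInvertible hB))]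
    exact euler_prod A A hLi' hL
  have hL'e : (Curv2.euler k A.left L' : ℚ) = (-1 : ℚ) ^ g * (Curv2.euler k A.left L : ℚ) := by
    have h := AVEuler.euler_homogeneous hg hL hLi' hL' 0 1
    rw [CurveCohLib.euler_congr (k := k) (PicMul.cl_eq_iff.1 (show
      PicF.cl (CohB1.tensorMod (CohB1.tensorPow L 0) (CohB1.tensorPow L' 1)) = PicF.cl L' by
        rw [PicMul.cl_tensor, PicMul.cl_tensorPow, PicMul.cl_tensorPow, pow_zero, pow_one, _root_.one_mul])).some] at h
    simpa using h
  have h : ((-1 : ℚ) ^ g * (d : ℚ)) = (-1 : ℚ) ^ g * (Curv2.euler k A.left L : ℚ) ^ 2 := by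
    have h0 := congrArg (fun z : ℤ => (z : ℚ)) (hG1.symm.trans hG2)
    push_cast at h0
    rw [h0, hL'e]
    ring
  have h' := mul_left_cancel₀ (pow_ne_zero g (by norm_num : (-1 : ℚ) ≠ 0)) h
  exact_mod_cast h'.symm

end Groth.Agent.AVDualCx
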