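import Mathlib
import Groth.Agent.H1MinCx.Basic
import Groth.Agent.AssLib.Basic
import Groth.Agent.Koszul15.Basic

/-!
# The dual of a finite free complex with finite length homology over a local ring of depth at least its length

A complex of finite free modules in degrees `0, …, g` with rank one in degree `0` and finite length homology
dualises to a free resolution of a cyclic module `R ⧸ J`; for `J` generated by a regular sequence it has the
ranks of the Koszul complex.
-/

noncomputable section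

set_option autoImplicit false
set_option linter.style.haveILetI false
set_option linter.unusedSectionVars false
set_option backward.isDefEq.respectTransparency false
set_option backward.isDefEq.respectTransparency.types false
set_option maxHeartbeats 1000000

universe u

open CategoryTheory CategoryTheory.Limits IsLocalRing CochainComplex

namespace Groth.Agent.AVDualCx

variable {R : Type u} [CommRing R]

section Nullhomotopy

variable {X : ℤ → Type u} [∀ i, AddCommGroup (X i)] [∀ i, Module R (X i)]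
  (d : ∀ i, X i →ₗ[R] X (i + 1))

/-- An element killing all homology of a bounded complex of projectives has a null homotopic power. -/
theorem exists_null (hdd : ∀ i x, d (i + 1) (d i x) = 0) [∀ i, Module.Projective R (X i)] {g : ℤ}
    (hg : ∀ i, g < i → Subsingleton (X i)) {r : R}
    (hker : ∀ p (x : X (p + 1)), d (p + 1) x = 0 → ∃ y : X p, d p y = r • x) :
    ∀ n : ℕ, ∃ (e : ℕ) (h : ∀ p, X (p + 1) →ₗ[R] X p), ∀ p, g - n < p →
      r ^ e • (LinearMap.id : X (p + 1) →ₗ[R] X (p + 1)) = d p ∘ₗ h p + h (p + 1) ∘ₗ d (p + 1) := by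
  intro n
  induction n with
  | zero =>
    refine ⟨0, fun _ => 0, fun p hp => LinearMap.ext fun x => ?_⟩
    haveI := hg (p + 1) (by omega)
    exact Subsingleton.elim _ _
  | succ n ih =>
    obtain ⟨e, h, hh⟩ := ih
    let p := g - n
    let φ : X (p + 1) →ₗ[R] X (p + 1) := r ^ e • LinearMap.id - h (p + 1) ∘ₗ d (p + 1)
    have hφ : ∀ x, d (p + 1) (φ x) = 0 := fun x => by
      have h1 := LinearMap.congr_fun (hh (p + 1) (by omega)) (d (p + 1) x)
      simp only [LinearMap.smul_apply, LinearMap.id_apply, LinearMap.add_apply, LinearMap.comp_apply, hdd,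
        map_zero, add_zero] at h1
      simp only [φ, LinearMap.sub_apply, LinearMap.smul_apply, LinearMap.id_apply, LinearMap.comp_apply,
        map_sub, map_smul, ← h1, sub_self]
    obtain ⟨hp, hhp⟩ := Module.projective_lifting_property (d p).rangeRestrict
      ((r • φ).codRestrict (LinearMap.range (d p)) fun x => by
        obtain ⟨y, hy⟩ := hker p (φ x) (hφ x)
        exact ⟨y, hy⟩)
      (d p).surjective_rangeRestrict
    classical
    refine ⟨e + 1, Function.update (fun q => r • h q) p hp, fun q hq => ?_⟩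
    rcases eq_or_lt_of_le (show p ≤ q by omega) with rfl | hlt
    · rw [Function.update_self, Function.update_of_ne (by omega)]
      refine LinearMap.ext fun x => ?_
      have hx : d p (hp x) = r • φ x := congrArg Subtype.val (LinearMap.congr_fun hhp x)
      simp only [LinearMap.smul_apply, LinearMap.id_apply, LinearMap.add_apply, LinearMap.comp_apply, hx, φ,
        LinearMap.sub_apply, smul_sub, smul_smul, pow_succ']
      abel
    · rw [Function.update_of_ne (by omega), Function.update_of_ne (by omega)]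
      have h1 := hh q (by omega)
      rw [pow_succ', mul_smul, h1, smul_add, LinearMap.comp_smul, LinearMap.smul_comp]

end Nullhomotopy

section Compare

variable [IsLocalRing R] {F G : ℕ → Type u} [∀ i, AddCommGroup (F i)] [∀ i, Module R (F i)]
  [∀ i, AddCommGroup (G i)] [∀ i, Module R (G i)]

theorem surjective_of_comp_eq {M A B : Type u} [AddCommGroup M] [Module R M] [AddCommGroup A] [Module R A]
    [AddCommGroup B] [Module R B] [Module.Finite R B] (p : A →ₗ[R] M) (q : B →ₗ[R] M) (hp : Function.Surjective p)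
    (hq : LinearMap.ker q ≤ maximalIdeal R • ⊤) (u : A →ₗ[R] B) (hu : q ∘ₗ u = p) :
    Function.Surjective u := by
  refine LinearMap.range_eq_top.1 (top_le_iff.1
    (Submodule.le_of_le_smul_of_le_jacobson_bot Module.Finite.fg_top
      (IsLocalRing.maximalIdeal_le_jacobson _) fun b _ => ?_))
  obtain ⟨a, ha⟩ := hp (q b)
  rw [← hu, LinearMap.comp_apply] at ha
  have hb : b - u a ∈ LinearMap.ker q := by rw [LinearMap.mem_ker, map_sub, ha, sub_self]
  have e : b = u a + (b - u a) := by abel
  rw [e]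
  exact Submodule.add_mem _ (Submodule.mem_sup_left ⟨a, rfl⟩) (Submodule.mem_sup_right (hq hb))

/-- Minimal covers of the same module are isomorphic. -/
theorem exists_equiv_of_minimal {M A B : Type u} [AddCommGroup M] [Module R M] [AddCommGroup A] [Module R A]
    [AddCommGroup B] [Module R B] [Module.Finite R A] [Module.Free R A] [Module.Finite R B] [Module.Free R B]
    (p : A →ₗ[R] M) (q : B →ₗ[R] M) (hp : Function.Surjective p) (hq : Function.Surjective q)
    (hp' : LinearMap.ker p ≤ maximalIdeal R • ⊤) (hq' : LinearMap.ker q ≤ maximalIdeal R • ⊤) :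
    ∃ u : A ≃ₗ[R] B, q ∘ₗ u.toLinearMap = p := by
  obtain ⟨u, hu⟩ := Module.projective_lifting_property q p hq
  obtain ⟨v, hv⟩ := Module.projective_lifting_property p q hp
  have hus := surjective_of_comp_eq p q hp hq' u hu
  have hvs := surjective_of_comp_eq q p hq hp' v hv
  have hvu : Function.Bijective (v ∘ₗ u) :=
    OrzechProperty.bijective_of_surjective_endomorphism _ (hvs.comp hus)
  exact ⟨LinearEquiv.ofBijective u ⟨Function.Injective.of_comp (f := v) hvu.1, hus⟩, hu⟩

variable (d : ∀ i, F (i + 1) →ₗ[R] F i) (d' : ∀ i, G (i + 1) →ₗ[R] G i)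

/-- Minimal free resolutions of the same module have the same ranks. -/
theorem finrank_eq_of_minimal [∀ i, Module.Finite R (F i)] [∀ i, Module.Free R (F i)]
    [∀ i, Module.Finite R (G i)] [∀ i, Module.Free R (G i)]
    (e₀ : F 0 ≃ₗ[R] G 0) (h₀ : (LinearMap.range (d 0)).map e₀.toLinearMap = LinearMap.range (d' 0))
    (hd : ∀ i, LinearMap.ker (d i) = LinearMap.range (d (i + 1)))
    (hd' : ∀ i, LinearMap.ker (d' i) = LinearMap.range (d' (i + 1)))
    (hm : ∀ i, LinearMap.range (d i) ≤ maximalIdeal R • ⊤)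
    (hm' : ∀ i, LinearMap.range (d' i) ≤ maximalIdeal R • ⊤) (i : ℕ) :
    Module.finrank R (F i) = Module.finrank R (G i) := by
  suffices h : ∃ φ : F i ≃ₗ[R] G i, (LinearMap.range (d i)).map φ.toLinearMap = LinearMap.range (d' i) by
    obtain ⟨φ, -⟩ := h
    exact φ.finrank_eq
  induction i with
  | zero => exact ⟨e₀, h₀⟩
  | succ i ih =>
    obtain ⟨φ, hφ⟩ := ih
    let p : F (i + 1) →ₗ[R] LinearMap.range (d' i) :=
      (φ.toLinearMap ∘ₗ d i).codRestrict _ fun x => hφ ▸ ⟨d i x, ⟨x, rfl⟩, rfl⟩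
    let q : G (i + 1) →ₗ[R] LinearMap.range (d' i) := (d' i).rangeRestrict
    have hp : Function.Surjective p := fun y => by
      have hy : (y : G i) ∈ (LinearMap.range (d i)).map φ.toLinearMap := hφ.symm ▸ y.2
      obtain ⟨_, ⟨x, rfl⟩, hx⟩ := hy
      exact ⟨x, Subtype.ext hx⟩
    have hkp : LinearMap.ker p = LinearMap.range (d (i + 1)) := by
      rw [← hd i]
      ext x
      simp [p]
    have hkq : LinearMap.ker q = LinearMap.range (d' (i + 1)) := by
      rw [← hd' i]
      exact LinearMap.ker_rangeRestrict _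
    obtain ⟨u, hu⟩ := exists_equiv_of_minimal p q hp (d' i).surjective_rangeRestrict
      (hkp ▸ hm (i + 1)) (hkq ▸ hm' (i + 1))
    refine ⟨u, ?_⟩
    rw [← hkp, ← hkq, ← hu]
    exact LinearMap.ker_comp u.toLinearMap q ▸ Submodule.map_comap_eq_of_surjective u.surjective _

end Compare

section Dual

variable (P : CochainComplex (ModuleCat.{u} R) ℤ)

/-- The dual complex. -/
def dualCx : ChainComplex (ModuleCat.{u} R) ℕ :=
  ChainComplex.of (fun i => ModuleCat.of R (Module.Dual R (P.X i)))
    (fun i => ModuleCat.ofHom (P.d (i : ℤ) ((i + 1 : ℕ) : ℤ)).hom.dualMap) (fun i => by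
      ext φ : 2
      refine LinearMap.ext fun x => ?_
      show φ ((P.d ((i : ℕ) : ℤ) ((i + 1 : ℕ) : ℤ) ≫ P.d ((i + 1 : ℕ) : ℤ) ((i + 1 + 1 : ℕ) : ℤ)).hom x) = 0
      rw [P.d_comp_d]
      exact map_zero φ)

/-- The ideal of coefficients of the image of a vector under the first differential. -/
def dualIdeal (e : P.X 0) : Ideal R := LinearMap.range (Module.Dual.eval R (P.X 1) ((P.d 0 1).hom e))

variable {P}

theorem dualIdeal_le_iff [Module.Finite R (P.X 1)] [Module.Free R (P.X 1)] (e : P.X 0) (I : Ideal R) :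
    dualIdeal P e ≤ I ↔
      ((P.d 0 1).hom e) ⊗ₜ[R] (Ideal.Quotient.mk I 1) = (0 : TensorProduct R (P.X 1) (R ⧸ I)) := by
  classical
  let b := Module.Free.chooseBasis R (P.X 1)
  let E := TensorProduct.equivFinsuppOfBasisLeft b (N := R ⧸ I)
  rw [← E.map_eq_zero_iff]
  constructor
  · intro h
    refine Finsupp.ext fun j => ?_
    rw [TensorProduct.equivFinsuppOfBasisLeft_apply_tmul_apply, Finsupp.zero_apply, Algebra.smul_def, map_one, mul_one,
      Ideal.Quotient.algebraMap_eq, Ideal.Quotient.eq_zero_iff_mem]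
    exact h ⟨b.coord j, rfl⟩
  · rintro h _ ⟨φ, rfl⟩
    show φ ((P.d 0 1).hom e) ∈ I
    rw [← b.sum_repr ((P.d 0 1).hom e), map_sum]
    refine I.sum_mem fun j _ => ?_
    rw [map_smul, smul_eq_mul]
    refine I.mul_mem_right _ ?_
    have hj := congrArg (fun F => F j) h
    rwa [TensorProduct.equivFinsuppOfBasisLeft_apply_tmul_apply, Finsupp.zero_apply, Algebra.smul_def, map_one, mul_one,
      Ideal.Quotient.algebraMap_eq, Ideal.Quotient.eq_zero_iff_mem] at hj

variable [IsLocalRing R] [IsNoetherianRing R]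

/-- Hypotheses: finite free in degrees `0, …, g`, minimal, homology killed by powers of the maximal ideal. -/
structure Good (P : CochainComplex (ModuleCat.{u} R) ℤ) (g : ℕ) : Prop where
  free : ∀ i, Module.Finite R (P.X i) ∧ Module.Free R (P.X i)
  bdd : ∀ i : ℤ, i < 0 ∨ (g : ℤ) < i → Subsingleton (P.X i)
  min : ∀ i (x : P.X i), (P.d i (i + 1)).hom x ∈ maximalIdeal R • (⊤ : Submodule R (P.X (i + 1)))
  kill : ∀ r ∈ maximalIdeal R, ∀ p, ∃ N : ℕ, ∀ x : P.X (p + 1), (P.d (p + 1) (p + 1 + 1)).hom x = 0 →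
    ∃ y : P.X p, (P.d p (p + 1)).hom y = r ^ N • x

theorem Good.exists_null {g : ℕ} (hP : Good P g) {r : R} (hr : r ∈ maximalIdeal R) :
    ∃ (e : ℕ) (h : ∀ p, P.X (p + 1) →ₗ[R] P.X p), ∀ p : ℤ, -2 ≤ p →
      r ^ e • (LinearMap.id : P.X (p + 1) →ₗ[R] P.X (p + 1)) =
        (P.d p (p + 1)).hom ∘ₗ h p + h (p + 1) ∘ₗ (P.d (p + 1) (p + 1 + 1)).hom := by
  choose N hN using hP.kill r hr
  let M := ((Finset.Icc (-2 : ℤ) g).sup N)
  haveI : ∀ i, Module.Projective R (P.X i) := fun i => haveI := (hP.free i).2; Module.Projective.of_free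
  obtain ⟨e, h, hh⟩ := AVDualCx.exists_null (X := fun i => P.X i) (fun i => (P.d i (i + 1)).hom)
    (fun i x => by
      rw [← ConcreteCategory.comp_apply, P.d_comp_d]
      rfl) (g := (g : ℤ)) (fun i hi => hP.bdd i (Or.inr hi)) (r := r ^ M) (fun p x hx => by
      by_cases hp : p ∈ Finset.Icc (-2 : ℤ) g
      · obtain ⟨y, hy⟩ := hN p x hx
        refine ⟨r ^ (M - N p) • y, ?_⟩
        rw [map_smul, hy, smul_smul, ← pow_add, Nat.sub_add_cancel (Finset.le_sup (f := N) hp)]
      · haveI := hP.bdd (p + 1) (by rw [Finset.mem_Icc] at hp; omega)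
        exact ⟨0, Subsingleton.elim _ _⟩) (g + 3)
  exact ⟨M * e, h, fun p hp => by rw [pow_mul]; exact hh p (by omega)⟩

theorem Good.exists_null' {g : ℕ} (hP : Good P g) {r : R} (hr : r ∈ maximalIdeal R) :
    ∃ (n : ℕ) (H : ∀ p q, P.X p →ₗ[R] P.X q), ∀ q p s : ℤ, q + 1 = p → p + 1 = s → -1 ≤ p → ∀ v : P.X p,
      r ^ n • v = (P.d q p).hom (H p q v) + H s p ((P.d p s).hom v) := by
  obtain ⟨n, h, hh⟩ := hP.exists_null hr
  refine ⟨n, fun p q => if e : q + 1 = p then e ▸ h q else 0, ?_⟩
  rintro q p s rfl rfl hp v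
  simp only [dif_pos rfl]
  exact LinearMap.congr_fun (hh q (by omega)) v

theorem Good.exists_pow_le {g : ℕ} (hP : Good P g) (e : P.X 0) (c : P.X 0 →ₗ[R] R) (hc : c e = 1) :
    ∃ N : ℕ, maximalIdeal R ^ N ≤ dualIdeal P e := by
  refine Ideal.exists_pow_le_of_le_radical_of_fg (fun r hr => ?_) (IsNoetherian.noetherian _)
  obtain ⟨n, H, hh⟩ := hP.exists_null' hr
  haveI : Subsingleton (P.X (-1)) := hP.bdd _ (Or.inl (by omega))
  have h1 := congrArg c (hh (-1) 0 1 (by omega) (by omega) (by omega) e)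
  rw [Subsingleton.elim (H 0 (-1) e) 0, map_zero, zero_add, map_smul, hc, smul_eq_mul, mul_one] at h1
  exact ⟨n, h1 ▸ ⟨c ∘ₗ H 1 0, rfl⟩⟩

theorem Good.dual_exact {g : ℕ} (hP : Good P g) (hdepth : LocCoh.depth R R = g) (i : ℕ) :
    LinearMap.ker (P.d (i : ℤ) ((i + 1 : ℕ) : ℤ)).hom.dualMap =
      LinearMap.range (P.d ((i + 1 : ℕ) : ℤ) ((i + 1 + 1 : ℕ) : ℤ)).hom.dualMap := by
  let D := dualCx P
  have hfree : ∀ j, Module.Free R (D.X j) ∧ Module.Finite R (D.X j) := fun j => by
    haveI := (hP.free (j : ℤ)).1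
    haveI := (hP.free (j : ℤ)).2
    exact ⟨inferInstanceAs (Module.Free R (Module.Dual R (P.X (j : ℤ)))),
      inferInstanceAs (Module.Finite R (Module.Dual R (P.X (j : ℤ))))⟩
  have hbd : ∀ j, g < j → IsZero (D.X j) := fun j hj => by
    haveI := hP.bdd (j : ℤ) (Or.inr (by omega))
    exact ModuleCat.isZero_of_subsingleton (ModuleCat.of R (Module.Dual R (P.X (j : ℤ))))
  have hd : ∀ j, D.d (j + 1) j = ModuleCat.ofHom (P.d (j : ℤ) ((j + 1 : ℕ) : ℤ)).hom.dualMap := fun j => by
    dsimp only [D, dualCx, ChainComplex.of]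
    exact ChainComplex.of_d _ _ j
  have hfl : ∀ j, IsFiniteLength R (D.homology j) := fun j => by
    haveI := (hfree j).2
    haveI : Module.Finite R (D.cycles j) :=
      Module.Finite.of_injective (D.iCycles j).hom ((ModuleCat.mono_iff_injective _).1 inferInstance)
    haveI : Module.Finite R (D.homology j) :=
      Module.Finite.of_surjective (D.homologyπ j).hom ((ModuleCat.epi_iff_surjective _).1 inferInstance)
    rcases subsingleton_or_nontrivial (D.homology j) with hs | hn
    · exact IsFiniteLength.of_subsingleton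
    suffices hk : maximalIdeal R ≤ (Module.annihilator R (D.homology j)).radical by
      obtain ⟨n, hn⟩ := Ideal.exists_pow_le_of_le_radical_of_fg hk (IsNoetherian.noetherian _)
      exact AssLib.isFiniteLength_of_pow_le_annihilator R _ hn
    intro r hr
    obtain ⟨n, H, hh⟩ := hP.exists_null' hr
    refine ⟨n, Module.mem_annihilator.2 fun c => ?_⟩
    obtain ⟨z, rfl⟩ := (ModuleCat.epi_iff_surjective (D.homologyπ j)).1 inferInstance c
    let x : Module.Dual R (P.X (j : ℤ)) := (D.iCycles j).hom z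
    have hz : (D.d j (j - 1)).hom ((D.iCycles j).hom z) = 0 := by
      rw [← ConcreteCategory.comp_apply, D.iCycles_d]
      rfl
    have key : ∀ v : P.X (j : ℤ), r ^ n • x v =
        x (H ((j + 1 : ℕ) : ℤ) (j : ℤ) ((P.d (j : ℤ) ((j + 1 : ℕ) : ℤ)).hom v)) := by
      intro v
      have hv : ∀ (q : ℤ) (w : P.X q), q + 1 = (j : ℤ) → x ((P.d q (j : ℤ)).hom w) = 0 := fun q w hq => by
        cases j with
        | zero =>
          haveI := hP.bdd q (Or.inl (by simp at hq; omega))
          rw [Subsingleton.elim w 0, map_zero, map_zero]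
        | succ j =>
          obtain rfl : q = (j : ℤ) := by push_cast at hq; omega
          rw [Nat.add_sub_cancel, hd j] at hz
          exact LinearMap.congr_fun hz w
      have e := congrArg x (hh ((j : ℤ) - 1) (j : ℤ) ((j + 1 : ℕ) : ℤ) (by omega) (by push_cast; omega) (by omega) v)
      rwa [map_smul, map_add, hv _ _ (by omega), zero_add] at e
    let y : D.X (j + 1) := show Module.Dual R (P.X ((j + 1 : ℕ) : ℤ)) from x ∘ₗ H ((j + 1 : ℕ) : ℤ) (j : ℤ)
    have hy : (D.toCycles (j + 1) j).hom y = r ^ n • z := by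
      refine (ModuleCat.mono_iff_injective (D.iCycles j)).1 inferInstance ?_
      rw [map_smul, ← ConcreteCategory.comp_apply, D.toCycles_i, hd j]
      exact LinearMap.ext fun v => (key v).symm
    rw [← map_smul, ← hy, ← ConcreteCategory.comp_apply, D.toCycles_comp_homologyπ]
    rfl
  have hex := H1MinCx.exactAt_of_lt D g g hbd hfree hdepth hfl (i + 1) (by omega)
  rw [HomologicalComplex.exactAt_iff' D (i + 1 + 1) (i + 1) i (by simp) (by simp),
    ShortComplex.moduleCat_exact_iff_range_eq_ker] at hex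
  have hex' : LinearMap.range (D.d (i + 1 + 1) (i + 1)).hom = LinearMap.ker (D.d (i + 1) i).hom := hex
  rw [hd i, hd (i + 1)] at hex'
  exact hex'.symm

end Dual

section Koszul

variable [IsLocalRing R]

local notation "K(" fs ")" => CohIII.koszulCx (ModuleCat.of R R) fs

theorem koszul_rank : ∀ (fs : List R) (i : ℕ),
    Module.Finite R ((K(fs)).X (-(i : ℤ))) ∧ Module.Free R ((K(fs)).X (-(i : ℤ))) ∧
      Module.finrank R ((K(fs)).X (-(i : ℤ))) = fs.length.choose i := by
  intro fs
  induction fs with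
  | nil =>
    intro i
    cases i with
    | zero =>
      let e := (HomologicalComplex.singleObjXSelf (ComplexShape.up ℤ) 0 (ModuleCat.of R R)).toLinearEquiv
      exact ⟨Module.Finite.equiv e.symm, Module.Free.of_equiv e.symm,
        e.finrank_eq.trans (Module.finrank_self R)⟩
    | succ i =>
      haveI := ModuleCat.subsingleton_of_isZero (Koszul15.isZero_X (ModuleCat.of R R) [] (-((i + 1 : ℕ) : ℤ))
        (by simp))
      exact ⟨inferInstance, inferInstance, by rw [Module.finrank_zero_of_subsingleton]; simp⟩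
  | cons f fs ih =>
    intro i
    let φ := f • 𝟙 K(fs)
    let e := (HomologicalComplex.homotopyCofiber.XIsoBiprod φ (-(i : ℤ)) (-(i : ℤ) + 1) rfl ≪≫
      ModuleCat.biprodIsoProd _ _).toLinearEquiv
    obtain ⟨h1, h2, h3⟩ := ih i
    cases i with
    | zero =>
      haveI := ModuleCat.subsingleton_of_isZero (Koszul15.isZero_X (ModuleCat.of R R) fs (-((0 : ℕ) : ℤ) + 1)
        (by simp))
      refine ⟨Module.Finite.equiv e.symm, Module.Free.of_equiv e.symm, e.finrank_eq.trans ?_⟩
      rw [Module.finrank_prod, Module.finrank_zero_of_subsingleton, h3]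
      simp
    | succ i =>
      obtain ⟨k1, k2, k3⟩ := ih i
      have hidx : (-((i + 1 : ℕ) : ℤ) + 1) = -(i : ℤ) := by push_cast; omega
      rw [← hidx] at k1 k2 k3
      refine ⟨Module.Finite.equiv e.symm, Module.Free.of_equiv e.symm, e.finrank_eq.trans ?_⟩
      rw [Module.finrank_prod, k3, h3, List.length_cons, Nat.choose_succ_succ']

theorem koszul_min : ∀ (fs : List R), (∀ f ∈ fs, f ∈ maximalIdeal R) → ∀ (n m : ℤ) (x : (K(fs)).X n),
    ((K(fs)).d n m).hom x ∈ maximalIdeal R • (⊤ : Submodule R ((K(fs)).X m)) := by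
  intro fs
  induction fs with
  | nil =>
    intro _ n m x
    rw [show (K(([] : List R))).d n m = 0 from HomologicalComplex.single_obj_d _ _ _ _ _]
    exact zero_mem _
  | cons f fs ih =>
    intro hfs n m x
    by_cases hnm : n + 1 = m
    swap
    · rw [(K(f :: fs)).shape n m hnm]
      exact zero_mem _
    subst hnm
    let φ := f • 𝟙 K(fs)
    have ih' := ih fun a ha => hfs a (List.mem_cons_of_mem _ ha)
    have hmap : ∀ {A B : ModuleCat.{u} R} (g : A ⟶ B) {a : A}, a ∈ maximalIdeal R • (⊤ : Submodule R A) →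
        g.hom a ∈ maximalIdeal R • (⊤ : Submodule R B) := fun g a ha => by
      have : g.hom a ∈ Submodule.map g.hom (maximalIdeal R • (⊤ : Submodule R _)) := ⟨a, ha, rfl⟩
      rw [Submodule.map_smul''] at this
      exact Submodule.smul_mono le_rfl le_top this
    have e := CochainComplex.mappingCone.id_X φ (n + 1) (n + 1 + 1) rfl
    have hx : ((K(f :: fs)).d n (n + 1)).hom x =
        ((mappingCone.fst φ).1.v (n + 1) (n + 1 + 1) rfl ≫ (mappingCone.inl φ).v (n + 1 + 1) (n + 1) (by omega)).hom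
            (((mappingCone φ).d n (n + 1)).hom x) +
          ((mappingCone.snd φ).v (n + 1) (n + 1) (add_zero _) ≫ (mappingCone.inr φ).f (n + 1)).hom
            (((mappingCone φ).d n (n + 1)).hom x) :=
      (ConcreteCategory.congr_hom e (((mappingCone φ).d n (n + 1)).hom x)).symm
    rw [hx]
    refine Submodule.add_mem _ ?_ ?_
    · rw [ModuleCat.hom_comp, LinearMap.comp_apply]
      refine hmap _ (a := _) ?_
      rw [← LinearMap.comp_apply, ← ModuleCat.hom_comp]
      show (((mappingCone φ).d n (n + 1)) ≫ (mappingCone.fst φ).1.v (n + 1) (n + 1 + 1) rfl).hom x ∈ _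
      rw [mappingCone.d_fst_v φ n (n + 1) (n + 1 + 1) rfl rfl]
      exact Submodule.neg_mem _ (ih' _ _ _)
    · rw [ModuleCat.hom_comp, LinearMap.comp_apply]
      refine hmap _ (a := _) ?_
      rw [← LinearMap.comp_apply, ← ModuleCat.hom_comp]
      rw [mappingCone.d_snd_v φ n (n + 1) rfl]
      refine Submodule.add_mem _ ?_ (ih' _ _ _)
      exact Submodule.smul_mem_smul (hfs f List.mem_cons_self) trivial

end Koszul

section Ranks

variable [IsLocalRing R] [IsNoetherianRing R] {P : CochainComplex (ModuleCat.{u} R) ℤ}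

/-- **The ranks are binomial coefficients.** -/
theorem Good.finrank_eq_choose {g : ℕ} (hP : Good P g) (hdepth : LocCoh.depth R R = g)
    (e₀ : P.X 0 ≃ₗ[R] R) (xs : List R) (hreg : RingTheory.Sequence.IsWeaklyRegular R xs)
    (hxs : Ideal.ofList xs = dualIdeal P (e₀.symm 1)) (hm : ∀ f ∈ xs, f ∈ maximalIdeal R) (i : ℕ) :
    Module.finrank R (P.X (i : ℤ)) = xs.length.choose i := by
  let K := CohIII.koszulCx (ModuleCat.of R R) xs
  haveI : ∀ j : ℕ, Module.Finite R (P.X (j : ℤ)) := fun j => (hP.free _).1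
  haveI : ∀ j : ℕ, Module.Free R (P.X (j : ℤ)) := fun j => (hP.free _).2
  haveI : ∀ j : ℕ, Module.Finite R (K.X (-(j : ℤ))) := fun j => (koszul_rank xs j).1
  haveI : ∀ j : ℕ, Module.Free R (K.X (-(j : ℤ))) := fun j => (koszul_rank xs j).2.1
  let dK : ∀ j : ℕ, K.X (-((j + 1 : ℕ) : ℤ)) →ₗ[R] K.X (-(j : ℤ)) := fun j => (K.d _ _).hom
  let eD : Module.Dual R (P.X ((0 : ℕ) : ℤ)) ≃ₗ[R] R :=
    e₀.symm.dualMap.trans (LinearMap.ringLmapEquivSelf R R R)
  obtain ⟨π, hπ, hker⟩ := Koszul15.exists_top (ModuleCat.of R R) xs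
  obtain ⟨-, -, hK0⟩ := koszul_rank xs 0
  -- a rank one free module mapping onto `R ⧸ J`
  let b : Module.Basis (Fin 1) R (K.X (-((0 : ℕ) : ℤ))) :=
    Module.finBasisOfFinrankEq R _ (by rw [hK0, Nat.choose_zero_right])
  let eK : K.X (-((0 : ℕ) : ℤ)) ≃ₗ[R] R := b.equivFun.trans (LinearEquiv.funUnique (Fin 1) R R)
  have hJtop : Ideal.ofList xs ≠ ⊤ := fun h => (maximalIdeal.isMaximal R).ne_top
    (top_le_iff.1 (h ▸ (Ideal.span_le.2 hm : Ideal.ofList xs ≤ maximalIdeal R)))
  have hKJ : (LinearMap.range (dK 0)).map eK.toLinearMap = Ideal.ofList xs := by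
    have hr : LinearMap.range (dK 0) = LinearMap.ker π := hker.symm
    rw [hr]
    have hw : ∀ t : R, π (eK.symm t) = t • π (eK.symm 1) := fun t =>
      (congrArg π ((congrArg eK.symm (mul_one t).symm).trans (eK.symm.map_smul t 1))).trans (π.map_smul t _)
    obtain ⟨c, hc⟩ := Submodule.Quotient.mk_surjective _ (π (eK.symm 1))
    obtain ⟨y, hy⟩ := hπ (Submodule.Quotient.mk 1)
    let J : Submodule R R := Ideal.ofList xs • ⊤
    have hJ : J = Ideal.ofList xs := by simp [J, Ideal.mul_top]
    have hcu : IsUnit c := by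
      by_contra hcn
      refine hJtop (top_le_iff.1 ?_)
      have h1 : π (eK.symm (eK y)) = Submodule.Quotient.mk 1 := by rw [LinearEquiv.symm_apply_apply, hy]
      rw [hw, ← hc, ← Submodule.Quotient.mk_smul] at h1
      have h2 : (eK y) • c - 1 ∈ J := (Submodule.Quotient.eq J).1 h1
      rw [hJ] at h2
      have hu : IsUnit ((eK y) • c - 1) := by
        by_contra hn
        have hcm : (eK y) • c ∈ maximalIdeal R :=
          Ideal.mul_mem_left _ _ ((IsLocalRing.mem_maximalIdeal c).2 hcn)
        have := Ideal.sub_mem _ hcm ((IsLocalRing.mem_maximalIdeal _).2 hn)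
        rw [sub_sub_cancel] at this
        exact (maximalIdeal.isMaximal R).ne_top ((Ideal.eq_top_iff_one _).2 this)
      exact (Ideal.eq_top_of_isUnit_mem _ h2 hu).ge
    ext t
    constructor
    · rintro ⟨v, hv, rfl⟩
      have h1 : π (eK.symm (eK v)) = 0 := by rw [LinearEquiv.symm_apply_apply]; exact hv
      rw [hw, ← hc, ← Submodule.Quotient.mk_smul] at h1
      have h2 : (eK v) • c ∈ J := (Submodule.Quotient.mk_eq_zero J).1 h1
      rw [hJ] at h2
      exact (Ideal.mul_unit_mem_iff_mem _ hcu).1 h2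
    · intro ht
      refine ⟨eK.symm t, ?_, eK.apply_symm_apply t⟩
      show π (eK.symm t) = 0
      rw [hw, ← hc, ← Submodule.Quotient.mk_smul, Submodule.Quotient.mk_eq_zero]
      show t • c ∈ J
      rw [hJ]
      exact Ideal.mul_mem_right _ _ ht
  have hPJ : (LinearMap.range (P.d ((0 : ℕ) : ℤ) ((0 + 1 : ℕ) : ℤ)).hom.dualMap).map eD.toLinearMap =
      dualIdeal P (e₀.symm 1) := by
    rw [dualIdeal, ← LinearMap.range_comp]
    rfl
  have hKexact : ∀ j : ℕ, LinearMap.ker (dK j) = LinearMap.range (dK (j + 1)) := fun j => by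
    have hz := Koszul15.isZero_homology_of_isWeaklyRegular xs (ModuleCat.of R R) hreg
      (-((j + 1 : ℕ) : ℤ)) (by push_cast; omega)
    rw [← HomologicalComplex.exactAt_iff_isZero_homology,
      HomologicalComplex.exactAt_iff' K (-((j + 1 + 1 : ℕ) : ℤ)) (-((j + 1 : ℕ) : ℤ)) (-(j : ℤ))
        (by simp; omega) (by simp), ShortComplex.moduleCat_exact_iff_range_eq_ker] at hz
    exact hz.symm
  have hmD : ∀ j : ℕ, LinearMap.range (P.d (j : ℤ) ((j + 1 : ℕ) : ℤ)).hom.dualMap ≤
      maximalIdeal R • (⊤ : Submodule R (Module.Dual R (P.X (j : ℤ)))) := by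
    rintro j _ ⟨φ, rfl⟩
    let bj := Module.Free.chooseBasis R (P.X (j : ℤ))
    classical
    rw [← bj.sum_dual_apply_smul_coord ((P.d (j : ℤ) ((j + 1 : ℕ) : ℤ)).hom.dualMap φ)]
    refine Submodule.sum_mem _ fun a _ => Submodule.smul_mem_smul ?_ trivial
    have h1 : φ ((P.d (j : ℤ) ((j + 1 : ℕ) : ℤ)).hom (bj a)) ∈
        Submodule.map φ (maximalIdeal R • (⊤ : Submodule R (P.X ((j : ℤ) + 1)))) :=
      ⟨_, hP.min (j : ℤ) (bj a), rfl⟩
    rw [Submodule.map_smul''] at h1
    have h2 := (Submodule.smul_mono (le_refl (maximalIdeal R)) (le_top (α := Submodule R R))) h1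
    rwa [smul_eq_mul, Ideal.mul_top] at h2
  have h := finrank_eq_of_minimal (F := fun j : ℕ => Module.Dual R (P.X (j : ℤ))) (G := fun j : ℕ => K.X (-(j : ℤ)))
    (fun j => (P.d (j : ℤ) ((j + 1 : ℕ) : ℤ)).hom.dualMap) dK (eD.trans eK.symm)
    (by
      rw [LinearEquiv.coe_trans, Submodule.map_comp, hPJ, ← hxs, ← hKJ, ← Submodule.map_comp,
        LinearEquiv.symm_comp, Submodule.map_id])
    (fun j => hP.dual_exact hdepth j) hKexact hmD
    (fun j => by rintro _ ⟨x, rfl⟩; exact koszul_min xs hm _ _ x) i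
  rw [Module.finrank_linearMap, Module.finrank_self, mul_one] at h
  rw [h]
  exact (koszul_rank xs i).2.2

end Ranks

end Groth.Agent.AVDualCx
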