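import Groth.Agent.AVDualCx.BC
import Groth.Agent.AVTheta8.FiniteSupp
import Groth.Agent.QCoh.PullStalk
import Groth.Agent.FlatBC6.Main
import Groth.Agent.FibDim.BaseField

/-!
# Poincaré modules over any field: direct images and cohomology
-/

noncomputable section

set_option autoImplicit false
set_option linter.style.haveILetI false
set_option linter.unusedSectionVars false
set_option backward.isDefEq.respectTransparency false
set_option backward.isDefEq.respectTransparency.types false
set_option maxHeartbeats 1000000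

universe u

open CategoryTheory CategoryTheory.Limits MonoidalCategory CartesianMonoidalCategory MonObj AlgebraicGeometry TopologicalSpace Opposite IsLocalRing
open scoped TensorProduct

namespace Groth.Agent.AVDualCx

open Groth.Agent Groth.Agent.H23

/-- A module which becomes simple after a faithfully flat extension is simple. -/
theorem isSimpleModule_of_tensor {R R' : Type u} [CommRing R] [CommRing R'] [Algebra R R']
    [Module.FaithfullyFlat R R'] (N : Type u) [AddCommGroup N] [Module R N]
    [hs : IsSimpleModule R' (R' ⊗[R] N)] : IsSimpleModule R N := by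
  haveI : Nontrivial N := by
    by_contra hn
    rw [not_nontrivial_iff_subsingleton] at hn
    haveI : Nontrivial (R' ⊗[R] N) := IsSimpleModule.nontrivial R' _
    exact not_subsingleton (R' ⊗[R] N) inferInstance
  rw [isSimpleModule_iff]
  refine { eq_bot_or_eq_top := fun U => ?_ }
  rcases IsSimpleOrder.eq_bot_or_eq_top (LinearMap.range (U.subtype.baseChange R')) with h | h
  · left
    haveI : Subsingleton (R' ⊗[R] U) := by
      refine subsingleton_of_forall_eq 0 fun x => ?_
      refine (Module.Flat.lTensor_preserves_injective_linearMap (M := R') U.subtype U.subtype_injective) ?_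
      rw [map_zero]
      have hx : U.subtype.baseChange R' x ∈ LinearMap.range (U.subtype.baseChange R') := ⟨x, rfl⟩
      rw [h] at hx
      exact hx
    haveI := Module.FaithfullyFlat.lTensor_reflects_triviality R R' U
    exact Submodule.eq_bot_iff _ |>.2 fun x hx => congrArg Subtype.val (Subsingleton.elim (⟨x, hx⟩ : U) 0)
  · right
    haveI : Subsingleton (R' ⊗[R] (N ⧸ U)) := by
      refine subsingleton_of_forall_eq 0 fun x => ?_
      obtain ⟨y, rfl⟩ := LinearMap.lTensor_surjective R' (U.mkQ_surjective) x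
      obtain ⟨z, hz⟩ := LinearMap.range_eq_top.1 h y
      rw [← hz, LinearMap.baseChange_eq_ltensor, ← LinearMap.comp_apply, ← LinearMap.lTensor_comp,
        show U.mkQ ∘ₗ U.subtype = 0 by ext ⟨x, hx⟩; simpa using hx, LinearMap.lTensor_zero, LinearMap.zero_apply]
    haveI := Module.FaithfullyFlat.lTensor_reflects_triviality R R' (N ⧸ U)
    exact Submodule.Quotient.subsingleton_iff.1 inferInstance

variable {X S : Scheme.{u}}

/-- The image of a rational point under a closed immersion is closed. -/
theorem isClosed_range_point {k : Type u} [Field k] (e : Spec (CommRingCat.of k) ⟶ X) [IsClosedImmersion e] :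
    IsClosed ({e (closedPoint k)} : Set X) := by
  haveI : Subsingleton ↥(Spec (CommRingCat.of k)) := inferInstanceAs (Subsingleton (PrimeSpectrum k))
  have h := e.isClosedEmbedding.isClosed_range
  rwa [show Set.range e = {e (closedPoint k)} from Set.eq_singleton_iff_unique_mem.2
    ⟨⟨_, rfl⟩, by rintro _ ⟨a, rfl⟩; rw [Subsingleton.elim a (closedPoint k)]⟩] at h


/-- Cohomology through direct images supported at one closed point. -/
theorem subsingleton_HH_of_concentrated (f : X ⟶ S) [HasInjectiveResolutions X.Modules] {F : X.Modules}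
    {y : S} (hy : IsClosed ({y} : Set S))
    (hsupp : ∀ q z, z ≠ y → Subsingleton (((Coh.Rpush f q).obj F).presheaf.stalk z))
    {g : ℕ} (hg : ∀ q, q ≠ g → IsZero ((Coh.Rpush f q).obj F)) (i : ℕ) (hi : i ≠ g) :
    Subsingleton (Coh.HH X F i) := by
  let T : Set S := {y}
  have hTc : ∀ x ∈ T, IsClosed ({x} : Set S) := fun x hx => by rw [Set.mem_singleton_iff.1 hx]; exact hy
  have hfl : ∀ q, QCoh.IsFlasqueMod ((Coh.Rpush f q).obj F) := fun q =>
    AVTheta8.isFlasqueMod_of_finite (Set.finite_singleton y) hTc fun V hV => by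
      refine subsingleton_of_forall_eq 0 fun s => TopCat.Presheaf.section_ext
        (⟨((Coh.Rpush f q).obj F).presheaf, ((Coh.Rpush f q).obj F).isSheaf⟩ : TopCat.Sheaf _ _) V s 0 fun x hx => ?_
      haveI := hsupp q x fun e => Set.disjoint_left.1 hV hx e
      exact Subsingleton.elim _ _
  have hiso : ∀ q, Nonempty ((CohTop.Rpush f.base q).obj (Coh.toAb F) ≅ Coh.toAb ((Coh.Rpush f q).obj F)) := by
    intro q
    cases q with
    | zero =>
      obtain ⟨e⟩ := QCoh.nonempty_RpushAb_zero_iso f F
      haveI := QCoh.preservesFiniteLimits_push f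
      exact ⟨e ≪≫ ((SheafOfModules.toSheaf S.ringCatSheaf).mapIso
        ((Scheme.Modules.pushforward f).rightDerivedZeroIsoSelf.app F).symm)⟩
    | succ n =>
      obtain ⟨e₁⟩ := QCoh.nonempty_RpushAb_iso f F n
      obtain ⟨e₂⟩ := QCoh.nonempty_Rpush_iso f F n
      exact ⟨e₁ ≪≫ ((SheafOfModules.toSheaf S.ringCatSheaf).mapIso e₂.symm)⟩
  obtain ⟨e⟩ := S0494.result f.base (Coh.toAb F) (fun p q => by
    obtain ⟨j⟩ := hiso q
    haveI := LerayEuler.subsingleton_HH_flasque (hfl q) p
    exact AVTheta8.isZero_Rpush_of_finite_support.subsingleton_H_of_iso j.symm (p + 1) this) i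
  obtain ⟨j⟩ := hiso i
  have hz : IsZero (((CohTop.Rpush f.base i).obj (Coh.toAb F)).obj.obj (op ⊤)) :=
    Functor.map_isZero ((evaluation _ AddCommGrpCat.{u}).obj (op (⊤ : TopologicalSpace.Opens S)))
      ((sheafToPresheaf _ _).map_isZero
        (((SheafOfModules.toSheaf S.ringCatSheaf).map_isZero (hg i hi)).of_iso j))
  haveI := AddCommGrpCat.subsingleton_of_isZero hz
  exact e.toEquiv.subsingleton

variable {k : Type u} [Field k] {A At : Over (Spec (CommRingCat.of k))} [GrpObj A] [IsProper A.hom]
  [GeometricallyIntegral A.hom] [GrpObj At] [IsProper At.hom] [GeometricallyIntegral At.hom]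
  {φ : ∀ T : Over (Spec (CommRingCat.of k)), PicF.Cl (PicF.XT A.hom T) → (T ⟶ At)}
  (hφ : AbDual.IsDualAV Scheme.fppfPrecoverage A At φ) {P : (A ⊗ At).left.Modules}

include hφ in
/-- **The direct images of a Poincaré module over any field.** -/
theorem poincare_concentrated_field [HasInjectiveResolutions (A ⊗ At).left.Modules] (hP : PicF.IsInvertible P)
    (hξ : AbDual.IsPoincareCl A At φ (PicF.cl P)) {g : ℕ} (hg : topologicalKrullDim A.left = g) :
    (∀ p, p ≠ g → IsZero ((Coh.Rpush (snd A At).left p).obj P)) ∧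
      Nonempty ((Coh.Rpush (snd A At).left g).obj P ≅
        (Coh.push (1 : 𝟙_ (Over (Spec (CommRingCat.of k))) ⟶ At).left).obj
          (Coh.structureModule (Spec (CommRingCat.of k)))) := by
  let k' := AlgebraicClosure k
  let q : Spec (CommRingCat.of k') ⟶ Spec (CommRingCat.of k) := Spec.map (CommRingCat.ofHom (algebraMap k k'))
  haveI : IsAffineHom q := isAffineHom_of_isAffine q
  haveI : Surjective q := ⟨fun x => ⟨closedPoint k', Subsingleton.elim _ _⟩⟩
  haveI : Flat q := Flat.SpecMap_iff.2 (by
    show (algebraMap k k').Flat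
    rw [RingHom.flat_algebraMap_iff]
    infer_instance)
  haveI : IsProper (Red.bc q At).hom := (BcComp.isAV_bc q At).1
  haveI : GeometricallyIntegral (Red.bc q At).hom := (BcComp.isAV_bc q At).2
  haveI : IsProper (Red.bc q A).hom := (BcComp.isAV_bc q A).1
  haveI : GeometricallyIntegral (Red.bc q A).hom := (BcComp.isAV_bc q A).2
  haveI : IsLocallyNoetherian (Red.bc q A).left := LocallyOfFiniteType.isLocallyNoetherian (Red.bc q A).hom
  haveI : HasInjectiveResolutions (Red.bc q A ⊗ Red.bc q At).left.Modules := KFlatLib.hasInjectiveResolutions_modules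
  have hg' : topologicalKrullDim (Red.bc q A).left = g := by
    rw [← hg]
    haveI : LocallyOfFiniteType (Red.bc q A).hom := inferInstance
    haveI : Subsingleton ↥(Spec (CommRingCat.of k)) := inferInstanceAs (Subsingleton (PrimeSpectrum k))
    haveI : Subsingleton ↥(Spec (CommRingCat.of k')) := inferInstanceAs (Subsingleton (PrimeSpectrum k'))
    exact FibDim.topologicalKrullDim_baseChange (IsPullback.of_hasPullback A.hom q)
  obtain ⟨hz, ⟨l⟩, hz'⟩ := bc_concentrated q hφ hP hξ hg'
  let f : (A ⊗ At).left ⟶ At.left := (snd A At).left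
  haveI : IsProper f := inferInstanceAs (IsProper (pullback.snd A.hom At.hom))
  haveI : IsLocallyNoetherian At.left := LocallyOfFiniteType.isLocallyNoetherian At.hom
  haveI : CompactSpace At.left := QuasiCompact.compactSpace_of_compactSpace At.hom
  let p := prj q At
  haveI : Flat p := inferInstanceAs (Flat (pullback.fst At.hom q))
  haveI : Surjective p := inferInstanceAs (Surjective (pullback.fst At.hom q))
  have sq := isPullback_prj₂_snd q A At
  haveI : Flat (prj₂ q A At) := MorphismProperty.of_isPullback (P := @Flat) sq.flip inferInstance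
  haveI : PreservesFiniteLimits (Scheme.Modules.pullback (prj₂ q A At)) :=
    RGLib.Lim8.preservesFiniteLimits_pullback _
  have hqP : Coh.IsQCoh P := QCoh.isQCoh_of_isFinLocFree (PullPush.isFinLocFree_of_isInvertible hP)
  have hqR : ∀ j, Coh.IsQCoh ((Coh.Rpush f j).obj P) := fun j => FlatBC6.isQCoh_Rpush f hqP j
  have hbc : ∀ j, Nonempty ((Scheme.Modules.pullback p).obj ((Coh.Rpush f j).obj P) ≅
      (Coh.Rpush (snd (Red.bc q A) (Red.bc q At)).left j).obj (bcMod q P)) := fun j => by
    haveI := FlatBC6.isIso_bcQ_flat (f := f) (g := p) (f' := (snd (Red.bc q A) (Red.bc q At)).left)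
      (g' := prj₂ q A At) sq hqP j
    exact ⟨asIso (CohBC.bcQ f p (snd (Red.bc q A) (Red.bc q At)).left (prj₂ q A At) sq.w j P)⟩
  have hzero : ∀ j, j ≠ g → IsZero ((Coh.Rpush f j).obj P) := fun j hj =>
    RGLib.GenPSheaf.isZero_of_pullback (fun _ : Unit => p) (fun _ => inferInstance)
      (fun y => ⟨(), p.surjective y⟩) (hqR j) fun _ => (hz j hj).of_iso (hbc j).some
  refine ⟨hzero, ?_⟩
  let E := (Coh.Rpush f g).obj P
  let E' := (Coh.Rpush (snd (Red.bc q A) (Red.bc q At)).left g).obj (bcMod q P)
  let eA : 𝟙_ (Over (Spec (CommRingCat.of k))) ⟶ At := 1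
  have he0 : p (e0 (Red.bc q At)) = eA.left (closedPoint k) := by
    show ((1 : 𝟙_ (Over (Spec (CommRingCat.of k'))) ⟶ Red.bc q At).left ≫ prj q At) (closedPoint k') = _
    rw [one_prj]
    show (η[At].left) _ = ((toUnit _ ≫ η[At] : 𝟙_ (Over (Spec (CommRingCat.of k))) ⟶ At)).left _
    rw [toUnit_unique (toUnit (𝟙_ (Over (Spec (CommRingCat.of k))))) (𝟙 _), Category.id_comp]
    exact congrArg _ (Subsingleton.elim _ _)
  have hstalk : ∀ z', Nonempty (E'.presheaf.stalk z' ≃ₗ[(Red.bc q At).left.presheaf.stalk z']
      ((Scheme.Modules.pullback p).obj E).presheaf.stalk z') := fun z' =>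
    ⟨((DerSch.stalkFunctor _ z').mapIso (hbc g).some.symm).toLinearEquiv⟩
  have hsupp : ∀ z, z ≠ eA.left (closedPoint k) → Subsingleton (E.presheaf.stalk z) := fun z hne => by
    obtain ⟨z', rfl⟩ := p.surjective z
    haveI := hz' z' fun h => hne (h ▸ he0)
    obtain ⟨a⟩ := hstalk z'
    letI : Algebra (At.left.presheaf.stalk (p z')) ((Red.bc q At).left.presheaf.stalk z') := (p.stalkMap z').hom.toAlgebra
    haveI : Module.Flat (At.left.presheaf.stalk (p z')) ((Red.bc q At).left.presheaf.stalk z') := Flat.stalkMap p z'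
    haveI : IsLocalHom (algebraMap (At.left.presheaf.stalk (p z')) ((Red.bc q At).left.presheaf.stalk z')) :=
      inferInstanceAs (IsLocalHom (p.stalkMap z').hom)
    haveI : Module.FaithfullyFlat (At.left.presheaf.stalk (p z')) ((Red.bc q At).left.presheaf.stalk z') :=
      Module.FaithfullyFlat.of_flat_of_isLocalHom
    obtain ⟨b⟩ := QCoh.nonempty_pullStalkEquiv p (hqR g) z'
    haveI := (a.trans b).symm.toEquiv.subsingleton
    exact Module.FaithfullyFlat.lTensor_reflects_triviality (At.left.presheaf.stalk (p z'))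
      ((Red.bc q At).left.presheaf.stalk z') _
  have hsimple : IsSimpleModule (At.left.presheaf.stalk (p (e0 (Red.bc q At))))
      (E.presheaf.stalk (p (e0 (Red.bc q At)))) := by
    let z' := e0 (Red.bc q At)
    obtain ⟨a⟩ := hstalk z'
    letI : Algebra (At.left.presheaf.stalk (p z')) ((Red.bc q At).left.presheaf.stalk z') := (p.stalkMap z').hom.toAlgebra
    haveI : Module.Flat (At.left.presheaf.stalk (p z')) ((Red.bc q At).left.presheaf.stalk z') := Flat.stalkMap p z'
    haveI : IsLocalHom (algebraMap (At.left.presheaf.stalk (p z')) ((Red.bc q At).left.presheaf.stalk z')) :=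
      inferInstanceAs (IsLocalHom (p.stalkMap z').hom)
    haveI : Module.FaithfullyFlat (At.left.presheaf.stalk (p z')) ((Red.bc q At).left.presheaf.stalk z') :=
      Module.FaithfullyFlat.of_flat_of_isLocalHom
    obtain ⟨b⟩ := QCoh.nonempty_pullStalkEquiv p (hqR g) z'
    haveI : IsSimpleModule ((Red.bc q At).left.presheaf.stalk z')
        ((Red.bc q At).left.presheaf.stalk z' ⊗[At.left.presheaf.stalk (p z')] E.presheaf.stalk (p z')) :=
      haveI : IsSimpleModule ((Red.bc q At).left.presheaf.stalk z')
          ((Red.bc q At).left.presheaf.stalk z' ⧸ maximalIdeal ((Red.bc q At).left.presheaf.stalk z')) :=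
        isSimpleModule_iff_quot_maximal.2 ⟨_, maximalIdeal.isMaximal _, ⟨LinearEquiv.refl _ _⟩⟩
      IsSimpleModule.congr ((a.trans b).symm.trans l)
    exact isSimpleModule_of_tensor (R' := (Red.bc q At).left.presheaf.stalk z') _
  haveI : IsClosedImmersion eA.left := isClosedImmersion_of_comp_eq_id At.hom _ (Over.w eA)
  obtain ⟨⟨l'⟩, hpt⟩ := stalk_push_point eA.left
  have hcl : IsClosed ({eA.left (closedPoint k)} : Set At.left) := isClosed_range_point eA.left
  rw [he0] at hsimple
  obtain ⟨I, hI, ⟨l₀⟩⟩ := isSimpleModule_iff_quot_maximal.1 hsimple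
  obtain rfl : I = maximalIdeal _ := IsLocalRing.eq_maximalIdeal hI
  exact nonempty_iso_of_stalk hcl hsupp hpt (l₀.trans l'.symm)

include hφ in
/-- **The cohomology of a Poincaré module over any field.** -/
theorem poincare_cohomology [HasInjectiveResolutions (A ⊗ At).left.Modules] (hP : PicF.IsInvertible P)
    (hξ : AbDual.IsPoincareCl A At φ (PicF.cl P)) {g : ℕ} (hg : topologicalKrullDim A.left = g) :
    (∀ i, i ≠ g → Subsingleton (Coh.HH (A ⊗ At).left P i)) ∧
      @Module.finrank k (Coh.HH (A ⊗ At).left P g) _ _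
        (@Coh.moduleOver k _ (A ⊗ At).left ⟨(fst A At).left ≫ A.hom⟩ P g) = 1 := by
  obtain ⟨hzero, ⟨iE⟩⟩ := poincare_concentrated_field hφ hP hξ hg
  let f : (A ⊗ At).left ⟶ At.left := (snd A At).left
  haveI : IsProper f := inferInstanceAs (IsProper (pullback.snd A.hom At.hom))
  let eA : 𝟙_ (Over (Spec (CommRingCat.of k))) ⟶ At := 1
  haveI : IsClosedImmersion eA.left := isClosedImmersion_of_comp_eq_id At.hom _ (Over.w eA)
  obtain ⟨⟨l'⟩, hpt⟩ := stalk_push_point eA.left
  have hcl : IsClosed ({eA.left (closedPoint k)} : Set At.left) := isClosed_range_point eA.left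
  have hsupp : ∀ j z, z ≠ eA.left (closedPoint k) → Subsingleton (((Coh.Rpush f j).obj P).presheaf.stalk z) := by
    intro j z hz
    by_cases hj : j = g
    · subst hj
      haveI : Subsingleton ((DerSch.stalkFunctor At.left z).obj
          ((Coh.push eA.left).obj (Coh.structureModule (Spec (CommRingCat.of k))))) := hpt z hz
      exact ((DerSch.stalkFunctor _ z).mapIso iE).toLinearEquiv.toEquiv.subsingleton
    · exact ModuleCat.subsingleton_of_isZero (Functor.map_isZero (DerSch.stalkFunctor _ z) (hzero j hj))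
  have hvan : ∀ i, i ≠ g → Subsingleton (Coh.HH (A ⊗ At).left P i) :=
    subsingleton_HH_of_concentrated f hcl hsupp hzero
  refine ⟨hvan, ?_⟩
  letI : (A ⊗ At).left.Over (Spec (CommRingCat.of k)) := ⟨(fst A At).left ≫ A.hom⟩
  letI : At.left.Over (Spec (CommRingCat.of k)) := ⟨At.hom⟩
  haveI : IsProper (At.left ↘ Spec (CommRingCat.of k)) := ‹IsProper At.hom›
  haveI : IsProper (pullback.fst A.hom At.hom) := inferInstance
  haveI : IsProper ((A ⊗ At).left ↘ Spec (CommRingCat.of k)) :=
    inferInstanceAs (IsProper (pullback.fst A.hom At.hom ≫ A.hom))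
  have h1 : Curv2.euler k (A ⊗ At).left P = (-1 : ℤ) ^ g := by
    haveI := CurveCohLib.isNoetherian_of_proper (k := k) (X := (A ⊗ At).left)
    rw [euler_of_concentrated (k := k) (S := At.left) f (show f ≫ At.hom = (fst A At).left ≫ A.hom from pullback.condition.symm)
      (AmpleVan.isCoh_invertible hP) hzero, CurveCohLib.euler_congr (k := k) iE,
      euler_push_point eA.left (Over.w eA), _root_.mul_one]
  rw [Euler.euler_eq_sum k P (g + 1) (fun i hi => hvan i (by omega)),
    Finset.sum_eq_single g (fun i _ hi => by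
      haveI := hvan i hi
      rw [Module.finrank_zero_of_subsingleton, Nat.cast_zero, mul_zero]) (fun h => absurd (Finset.self_mem_range_succ g) h)] at h1
  exact_mod_cast (mul_eq_left₀ (pow_ne_zero g (by norm_num : (-1 : ℤ) ≠ 0))).1 h1

end Groth.Agent.AVDualCx
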