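import Groth.Agent.LineDesc.RelPic
import Groth.Agent.Lib.AVPicZero
import Groth.Agent.Lib.PicZeroPrim
import Groth.Agent.Lib.AVAmple
import Groth.Agent.GrpSchLib.AntiAffine

/-!
# Existence of a Poincaré module over an algebraically closed field
-/

noncomputable section

set_option autoImplicit false
set_option linter.style.haveILetI false
set_option linter.unusedSectionVars false
set_option backward.isDefEq.respectTransparency false
set_option backward.isDefEq.respectTransparency.types false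
set_option maxHeartbeats 1000000

universe u

open CategoryTheory CategoryTheory.Limits MonoidalCategory CartesianMonoidalCategory MonObj AlgebraicGeometry TopologicalSpace

namespace Groth.Agent.AVDualCx

open Groth.Agent Groth.Agent.LineDesc Groth.Agent.LineDesc.Rig Groth.Agent.AVPair Groth.Agent.AVDual
open scoped Groth.Agent.H23.PicMul

variable {k : Type u} [Field k] {A At : Over (Spec (CommRingCat.of k))} [GrpObj A] [IsProper A.hom]
  [Smooth A.hom] [GeometricallyConnected A.hom] [GrpObj At] [IsProper At.hom]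
  {φ : ∀ T : Over (Spec (CommRingCat.of k)), PicF.Cl (PicF.XT A.hom T) → (T ⟶ At)}
  (hφ : AbDual.IsDualAV Scheme.fppfPrecoverage A At φ)

include hφ in
/-- A `Pic⁰` class has a rigidified representative with the same point. -/
theorem exists_rigid {T : Over (Spec (CommRingCat.of k))} {c : PicF.Cl (PicF.XT A.hom T)}
    (hc : AbDual.IsPicZeroCl A.hom T c) :
    ∃ d : PicF.Cl (PicF.XT A.hom T), AbDual.IsPicZeroCl A.hom T d ∧
      PicF.pullCl (PicF.secT A.hom η[A].left (Over.w η[A]) T) d = 1 ∧ φ T d = φ T c := by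
  let s := PicF.secT A.hom η[A].left (Over.w η[A]) T
  obtain ⟨M, hM, hMi⟩ := PicClLib.isInvertibleCl_pullCl s (AbDualBase.pz_invertible hc)
  obtain ⟨D, hD, e⟩ := H23.PicInv.exists_inverse hMi
  have e' := (PicGrp.cl_eq_cl_iff _ _).2 e
  rw [H23.PicMul.cl_tensor] at e'
  have hMD : PicF.cl M * PicF.cl D = 1 := e'
  refine ⟨c * PicF.pullCl (PicF.XTproj A.hom T) (PicF.cl D), ?_, ?_, ?_⟩
  · rw [_root_.mul_comm]
    exact PicZeroPrim.pz_base_mul ⟨D, rfl, hD⟩ hc
  · rw [H23.PicMul.pullCl_mul, PicClLib.pullCl_comp, secT_snd, PicClLib.pullCl_id, ← hM, hMD]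
  · exact AVDual.phi_twist hφ ⟨D, rfl, hD⟩ hc

variable [IsAlgClosed k] [GeometricallyIntegral At.hom]

include hφ in
/-- **A Poincaré module exists.** -/
theorem exists_poincare :
    ∃ P : (PicF.XT A.hom At).Modules, PicF.IsInvertible P ∧ AbDual.IsPoincareCl A At φ (PicF.cl P) := by
  haveI : GeometricallyIntegral A.hom := AVDual.geometricallyIntegral_of_smooth A
  haveI : IsCommMonObj A := isCommMonObj_of_isProper_of_geometricallyIntegral A
  have ha : ∀ (Z : Scheme.{u}) (z : Z ⟶ Spec (CommRingCat.of k)),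
      Function.Bijective (pullback.snd A.hom z).appTop := fun Z z =>
    GrpSchLib.AntiAffine.bijective_appTop_snd (H23.Rigid.bijective_appTop A.hom) z
  obtain ⟨R, hR, hRe⟩ := hφ.relPic.locallySurjective At (𝟙 At)
  obtain ⟨Ui, ui, hui, hfl, hfp, hsu⟩ := exists_small_cover hR
  haveI := hfl
  haveI := hfp
  haveI := hsu
  have hpc : ∀ t : At.left, ∃ d : PicF.Cl (PicF.XT A.hom (AbDual.ovr At (ui t))),
      AbDual.IsPicZeroCl A.hom _ d ∧ PicF.pullCl (PicF.secT A.hom η[A].left (Over.w η[A]) _) d = 1 ∧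
        φ _ d = AbDual.ovrHom At (ui t) := fun t => by
    obtain ⟨c, hc, hφc⟩ := hRe (ui t) (hui t)
    obtain ⟨d, hd, hd1, hd2⟩ := exists_rigid hφ hc
    exact ⟨d, hd, hd1, hd2.trans (hφc.trans (Category.comp_id _))⟩
  choose d hdz hd1 hd using hpc
  let U := Sigma.desc ui
  obtain ⟨M, hM, hMd⟩ := exists_invertible_of_disjoint (fun t => PicF.XTmap A.hom (pieceι ui t))
    (cover_pieces ui) (disjoint_pieces ui) d (fun t => AbDualBase.pz_invertible (hdz t))
  have htriv : PicF.pullCl (PicF.secT A.hom η[A].left (Over.w η[A]) (U1 U)) (PicF.cl M) = 1 := by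
    refine cl_eq_of_disjoint (fun t => Sigma.ι Ui t) (fun p => ?_)
      (fun t t' h => disjoint_opensRange_sigmaι Ui t t' h)
      (L := (Scheme.Modules.pullback (PicF.secT A.hom η[A].left (Over.w η[A]) (U1 U))).obj M)
      (M := Coh.structureModule _) fun t => ?_
    · obtain ⟨⟨t, z⟩, hz⟩ := (sigmaMk Ui).surjective p
      rw [sigmaMk_mk] at hz
      exact ⟨t, z, hz⟩
    · show PicF.pullCl (pieceι ui t).left (PicF.pullCl _ (PicF.cl M)) = _
      rw [← secT_pullCl, hMd, ← H23.PicMul.one_def, H23.PicMul.pullCl_one]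
      exact hd1 t
  let cV : PicF.Rig A.hom η[A].left (Over.w η[A]) (U1 U) := ⟨PicF.cl M, ⟨M, rfl, hM⟩, htriv⟩
  have hglue : PicF.pullCl (PicF.XTmap A.hom (p1 U)) cV.1 = PicF.pullCl (PicF.XTmap A.hom (p2 U)) cV.1 := by
    refine cl_eq_of_disjoint (fun q => PicF.XTmap A.hom (piece₂ ui q)) (cover_pieces₂ ui) (disjoint_pieces₂ ui)
      (L := (Scheme.Modules.pullback (PicF.XTmap A.hom (p1 U))).obj M)
      (M := (Scheme.Modules.pullback (PicF.XTmap A.hom (p2 U))).obj M) fun q => ?_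
    show PicF.pullCl _ (PicF.pullCl (PicF.XTmap A.hom (p1 U)) (PicF.cl M)) =
      PicF.pullCl _ (PicF.pullCl (PicF.XTmap A.hom (p2 U)) (PicF.cl M))
    rw [pullCl_XTmap_comp, pullCl_XTmap_comp, piece₂_p1, piece₂_p2, ← pullCl_XTmap_comp, ← pullCl_XTmap_comp,
      hMd, hMd]
    let g₁ := AbDual.ovrHom (AbDual.ovr At (ui q.1)) (pullback.fst (ui q.1) (ui q.2))
    let g₂ := piece₂snd ui q
    refine PicZeroPrim.eq_of_phi hφ (AbDualBase.pz_xtMap g₁ (hdz q.1)) (AbDualBase.pz_xtMap g₂ (hdz q.2)) ?_ ?_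
    · rw [hφ.relPic.natural _ _ g₁ _ (hdz q.1), hφ.relPic.natural _ _ g₂ _ (hdz q.2), hd, hd]
      exact Over.OverMorphism.ext pullback.condition
    · rw [secT_pullCl, secT_pullCl, hd1, hd1, H23.PicMul.pullCl_one, H23.PicMul.pullCl_one]
  obtain ⟨c, hc⟩ := exists_rig ha U cV hglue
  obtain ⟨P, hPc, hP⟩ := c.2.1
  -- pieces of the descended class
  have hpiece : ∀ t, PicF.pullCl (PicF.XTmap A.hom (AbDual.ovrHom At (ui t))) c.1 = d t := fun t => by
    rw [← pieceι_ovrHom, ← pullCl_XTmap_comp]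
    show PicF.pullCl _ (PicF.pullCl (cov U) c.1) = _
    rw [hc, hMd]
  -- the class on the slice at the unit
  let e : 𝟙_ (Over (Spec (CommRingCat.of k))) ⟶ At := 1
  obtain ⟨t, hpt⟩ : ∃ t, ∃ y : 𝟙_ (Over (Spec (CommRingCat.of k))) ⟶ AbDual.ovr At (ui t),
      y ≫ AbDual.ovrHom At (ui t) = e := by
    let pt : ↥(Spec (CommRingCat.of k)) := IsLocalRing.closedPoint k
    obtain ⟨z, hz⟩ := U.surjective (e.left pt)
    haveI : LocallyOfFiniteType (U ≫ At.hom) := inferInstance
    haveI : JacobsonSpace ↥(∐ Ui) := LocallyOfFiniteType.jacobsonSpace (U ≫ At.hom)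
    obtain ⟨w, hw, hwc⟩ := nonempty_inter_closedPoints (Z := U ⁻¹' {e.left pt}) ⟨z, hz⟩
      ((AVAmple.isClosed_pt e).preimage U.continuous).isLocallyClosed
    obtain ⟨⟨t, w'⟩, hw'⟩ := (sigmaMk Ui).surjective w
    rw [sigmaMk_mk] at hw'
    have hwc' : IsClosed ({w'} : Set (Ui t)) := by
      have h : Sigma.ι Ui t ⁻¹' {w} = {w'} := by
        ext a
        simp only [Set.mem_preimage, Set.mem_singleton_iff, ← hw']
        exact ⟨fun h => (Sigma.ι Ui t).isOpenEmbedding.injective h, fun h => h ▸ rfl⟩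
      exact h ▸ (mem_closedPoints_iff.1 hwc).preimage (Sigma.ι Ui t).continuous
    haveI : LocallyOfFiniteType (ui t ≫ At.hom) := by
      rw [show ui t ≫ At.hom = Sigma.ι Ui t ≫ U ≫ At.hom by
        rw [← Category.assoc, show Sigma.ι Ui t ≫ U = ui t from colimit.ι_desc _ _]]
      infer_instance
    refine ⟨t, Over.homMk (pointOfClosedPoint (ui t ≫ At.hom) w' hwc') (pointOfClosedPoint_comp _ _ _),
      Over.OverMorphism.ext (ext_of_apply_closedPoint_eq At.hom ((Category.assoc _ _ _).trans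
        (pointOfClosedPoint_comp (ui t ≫ At.hom) w' hwc')) (Over.w e) ?_)⟩
    show ui t (pointOfClosedPoint (ui t ≫ At.hom) w' hwc' _) = e.left pt
    rw [pointOfClosedPoint_apply, ← hw, ← hw', ← Scheme.Hom.comp_apply, colimit.ι_desc]
    rfl
  obtain ⟨y, hy⟩ := hpt
  have hslice : pl (A ◁ e) c.1 = 1 := by
    have h1 : pl (A ◁ e) c.1 = pl (A ◁ y) (d t) := by
      rw [← hy, ← hpiece t, MonoidalCategory.whiskerLeft_comp, ← pl_pl]
      rfl
    rw [h1]
    refine PicZeroPrim.eq_of_phi hφ (AVDual.pz_pl y (hdz t)) (AVDual.pz_one A _) ?_ ?_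
    · rw [AVDual.phi_one hφ]
      exact (hφ.relPic.natural _ _ y _ (hdz t)).trans ((congrArg (y ≫ ·) (hd t)).trans hy)
    · show PicF.pullCl _ (PicF.pullCl (PicF.XTmap A.hom y) (d t)) = PicF.pullCl _ 1
      rw [secT_pullCl, hd1, H23.PicMul.pullCl_one, H23.PicMul.pullCl_one]
  have hz : AbDual.IsPicZeroCl A.hom At c.1 := by
    refine AVDual.pz_of_slice e c.2.1 ?_
    rw [← lift_whiskerLeft, ← pl_pl, hslice, map_one]
  refine ⟨P, hP, hPc.symm ▸ hz, ?_, hPc.symm ▸ c.2.2⟩
  rw [hPc]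
  refine Over.OverMorphism.ext ?_
  haveI : Epi U := Flat.epi_of_flat_of_surjective _
  rw [← cancel_epi U]
  refine Sigma.hom_ext _ _ fun t => ?_
  have h1 : pieceι ui t ≫ AbDual.ovrHom At U ≫ φ At c.1 = pieceι ui t ≫ AbDual.ovrHom At U := by
    rw [← Category.assoc, pieceι_ovrHom, ← hφ.relPic.natural _ _ _ _ hz, hpiece, hd]
  have h2 := congrArg CommaMorphism.left h1
  rw [Over.id_left, Category.comp_id]
  exact h2

end Groth.Agent.AVDualCx
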