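import Groth.Agent.AVDualCx.Local
import Groth.Agent.CohPullLib.ModelFibre
import Groth.Agent.GrpdLib.InvOpen
import Groth.Agent.QCoh.RpushStalk

/-!
# The minimal complex of a family whose cohomology is concentrated at one point of the base
-/

noncomputable section

set_option autoImplicit false
set_option linter.style.haveILetI false
set_option linter.unusedSectionVars false
set_option backward.isDefEq.respectTransparency false
set_option backward.isDefEq.respectTransparency.types false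
set_option maxRecDepth 4000
set_option maxHeartbeats 1000000

universe u

open CategoryTheory CategoryTheory.Limits AlgebraicGeometry TopologicalSpace Opposite IsLocalRing

namespace Groth.Agent.AVDualCx

open Groth.Agent.QCoh Groth.Agent.CohPullLib

variable {X S : Scheme.{u}} {f : X ⟶ S} [IsProper f] {F : X.Modules} {V : S.Opens} {hV : IsAffineOpen V}
  {Q : ChainComplex (ModuleCat.{u} Γ(S, V)) ℤ}

/-- A model computes the cohomology of every affine base change. -/
theorem nonempty_of_isPullback (hF : Coh.IsQCoh F) (hQ : IsModel f F hV Q) {C : Type u} [CommRing C]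
    (φ : Γ(S, V) →+* C) {Z : Scheme.{u}} {i : Z ⟶ X} {π : Z ⟶ Spec (CommRingCat.of C)}
    (sq : IsPullback i π f (Spec.map (CommRingCat.ofHom φ) ≫ hV.fromSpec)) (p : ℕ) :
    letI := modHH (Coh.toGlobal π) ((Scheme.Modules.pullback i).obj F) p
    Nonempty (Coh.HH Z ((Scheme.Modules.pullback i).obj F) p ≃ₗ[C] (CohIII.bcCx φ Q).homology (-(p : ℤ))) := by
  letI : (f ⁻¹ᵁ V).toScheme.Over (Spec (CommRingCat.of Γ(S, V))) := ⟨secπ f hV le_rfl⟩
  letI : Z.Over (Spec (CommRingCat.of C)) := ⟨π⟩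
  have hpb := isPullback_secπ f hV
  let g : Z ⟶ (f ⁻¹ᵁ V).toScheme :=
    hpb.lift i (π ≫ Spec.map (CommRingCat.ofHom φ)) (by rw [Category.assoc]; exact sq.w)
  have hg : g ≫ (f ⁻¹ᵁ V).ι = i := hpb.lift_fst _ _ _
  have hsq : IsPullback g π (secπ f hV le_rfl) (Spec.map (CommRingCat.ofHom φ)) :=
    IsPullback.of_right (by rw [hg]; exact sq) (hpb.lift_snd _ _ _) hpb
  haveI : CompactSpace (f ⁻¹ᵁ V).toScheme :=
    isCompact_iff_compactSpace.1 (f.isCompact_preimage hV.isCompact)
  haveI : (f ⁻¹ᵁ V).toScheme.IsSeparated := ⟨by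
    haveI : IsAffine V.toScheme := hV
    rw [← Limits.terminal.comp_from (f.resLE V (f ⁻¹ᵁ V) le_rfl)]
    infer_instance⟩
  let F' := (Scheme.Modules.pullback i).obj F
  let ψ : (Scheme.Modules.pullback g).obj (F.restrict (f ⁻¹ᵁ V).ι) ≅ F' :=
    (Scheme.Modules.pullback g).mapIso ((Scheme.Modules.restrictFunctorIsoPullback _).app F) ≪≫
      (Scheme.Modules.pullbackComp g (f ⁻¹ᵁ V).ι).app F ≪≫ (Scheme.Modules.pullbackCongr hg).app F
  obtain ⟨e⟩ := hQ.2.2.2.2 p
  obtain ⟨e'⟩ := exists_tfun_bc φ g hsq (isQCoh_restrict _ hF) ψ Q _ p e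
  obtain ⟨l⟩ := nonempty_linearEquiv_HH (A := C) (F := F') (isQCoh_pullback _ hF) p _ e'
  exact ⟨l.trans (FlatCxLib.tUnitIso (P := CohIII.bcCx φ Q) (-(p : ℤ))).toLinearEquiv⟩

/-- Where the functor of degree `p` vanishes, a model vanishes on a basic open. -/
theorem exists_basicOpen_vanishing (hF : Coh.IsQCoh F) (hQ : IsModel f F hV Q) (p : ℕ) {z : S} (hz : z ∈ V)
    (hvan : VanAt f F p z) : ∃ (h : Γ(S, V)), z ∈ S.basicOpen h ∧
      ∀ N, IsZero ((CohIII.TFun (CohIII.bcCx (S.presheaf.map (homOfLE (S.basicOpen_le h)).op).hom Q)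
        (-(p : ℤ))).obj N) := by
  obtain ⟨V', hV', P', hz', hP', h0⟩ := hvan
  obtain ⟨h, hh, hzh⟩ := hV.exists_basicOpen_le (V := V') ⟨z, hz'⟩ hz
  refine ⟨h, hzh, fun N => ?_⟩
  exact hP'.isZero_of_le hF p h0 hh (hQ.of_le hF (hV.basicOpen h) (S.basicOpen_le h)) N

/-- **The package at a point where the cohomology of the family is concentrated.** -/
theorem exists_stalk_package [IsLocallyNoetherian S] [LocallyOfFinitePresentation f] (hF : Coh.IsQCoh F)
    (hfp : CohB1.IsFP F) (hfl : FlatMod.IsFlatOver f F) {s : S} (hs : IsClosed ({s} : Set S)) (U : S.Opens)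
    (hsU : s ∈ U) (hvan : ∀ z ∈ U, z ≠ s → ∀ p, VanAt f F p z) {g : ℕ}
    (hdim : ∀ p, g < p → CohIII.fiberRank f F p s = 0) :
    ∃ P : CochainComplex (ModuleCat.{u} (S.presheaf.stalk s)) ℤ, Good P g ∧
      (∀ (K : Type u) [Field K] (ψ : S.presheaf.stalk s →+* K)
          (_ : RingHom.ker ψ = maximalIdeal (S.presheaf.stalk s)) (Z : Scheme.{u}) (i : Z ⟶ X)
          (π : Z ⟶ Spec (CommRingCat.of K))
          (_ : IsPullback i π f (Spec.map (CommRingCat.ofHom ψ) ≫ S.fromSpecStalk s)) (p : ℕ),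
        Module.finrank (S.presheaf.stalk s) (P.X (p : ℤ)) =
          @Module.finrank K (Coh.HH Z ((Scheme.Modules.pullback i).obj F) p) _ _
            (modHH (Coh.toGlobal π) ((Scheme.Modules.pullback i).obj F) p)) ∧
      (∀ [HasInjectiveResolutions X.Modules] (p : ℕ),
        Nonempty (((Coh.Rpush f p).obj F).presheaf.stalk s ≃ₗ[S.presheaf.stalk s] P.homology (p : ℤ))) ∧
      ∀ (e₀ : P.X 0 ≃ₗ[S.presheaf.stalk s] S.presheaf.stalk s) (I : Ideal (S.presheaf.stalk s))
          (_ : ∃ n : ℕ, maximalIdeal (S.presheaf.stalk s) ^ n ≤ I) (Z : Scheme.{u}) (i : Z ⟶ X)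
          (π : Z ⟶ Spec (CommRingCat.of (S.presheaf.stalk s ⧸ I)))
          (_ : IsPullback i π f (Spec.map (CommRingCat.ofHom (Ideal.Quotient.mk I)) ≫ S.fromSpecStalk s)),
        letI := modHH (Coh.toGlobal π) ((Scheme.Modules.pullback i).obj F) 0
        (dualIdeal P (e₀.symm 1) ≤ I → ∃ z : Coh.HH Z ((Scheme.Modules.pullback i).obj F) 0,
            ∀ c : S.presheaf.stalk s ⧸ I, c • z = 0 → c = 0) ∧
          ((∀ c : S.presheaf.stalk s ⧸ I,
              (∀ z : Coh.HH Z ((Scheme.Modules.pullback i).obj F) 0, c • z = 0) → c = 0) →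
            dualIdeal P (e₀.symm 1) ≤ I) := by
  obtain ⟨V, hV, Q, hsV, hVU, hQ⟩ := exists_isModel_nhd (f := f) hF hfp hfl hsU
  let R := S.presheaf.stalk s
  letI algR : Algebra Γ(S, V) R := S.presheaf.algebra_section_stalk ⟨s, hsV⟩
  haveI hloc : IsLocalization.AtPrime R (hV.primeIdealOf ⟨s, hsV⟩).asIdeal := hV.isLocalization_stalk ⟨s, hsV⟩
  haveI : IsNoetherianRing R := inferInstance
  let x := hV.primeIdealOf ⟨s, hsV⟩
  haveI hxmax : x.asIdeal.IsMaximal := hV.primeIdealOf_isMaximal_of_isClosed _ hs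
  have hx : (maximalIdeal R).comap (algebraMap Γ(S, V) R) = x.asIdeal :=
    IsLocalization.AtPrime.comap_maximalIdeal R x.asIdeal
  have hφ : Spec.map (CommRingCat.ofHom (algebraMap Γ(S, V) R)) ≫ hV.fromSpec = S.fromSpecStalk s :=
    hV.fromSpecStalk_eq_fromSpecStalk hsV
  have hTpos : ∀ q : ℤ, 0 < q → CohIII.dRank Q q x = 0 := fun q hq => by
    obtain ⟨e⟩ := nonempty_bcT_iso Q (algebraMap Γ(S, V) x.asIdeal.ResidueField) q
    haveI : Subsingleton (CohIII.T (CohIII.bcCx (algebraMap Γ(S, V) x.asIdeal.ResidueField) Q) q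
        (ModuleCat.of x.asIdeal.ResidueField x.asIdeal.ResidueField)) :=
      AddCommGrpCat.subsingleton_of_isZero ((Functor.map_isZero (forget₂ _ AddCommGrpCat.{u})
        (hQ.2.2.2.1 q hq _)).of_iso (e.app _))
    haveI : Subsingleton ((CohIII.bcCx (algebraMap Γ(S, V) x.asIdeal.ResidueField) Q).homology q) :=
      (FlatCxLib.tUnitIso (P := CohIII.bcCx (algebraMap Γ(S, V) x.asIdeal.ResidueField) Q) q).toLinearEquiv.symm.toEquiv.subsingleton
    exact Module.finrank_zero_of_subsingleton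
  obtain ⟨P, hP, hrank, hH, hJ⟩ := exists_package (R := R) (g := g) Q x hx hQ.1 hQ.2.1 hQ.2.2.1
    (fun q hq => by
      rcases hq with hq | hq
      · obtain ⟨p, rfl⟩ : ∃ p : ℕ, q = -(p : ℤ) := ⟨q.natAbs, by omega⟩
        rw [← hQ.fiberRank_eq hF p hsV]
        exact hdim p (by omega)
      · exact hTpos q hq)
    (fun y hy q => by
      let y' : PrimeSpectrum Γ(S, V) := PrimeSpectrum.comap (algebraMap Γ(S, V) R) y
      let z := hV.fromSpec y'
      have hzV : z ∈ V := by
        rw [← SetLike.mem_coe, ← hV.range_fromSpec]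
        exact ⟨y', rfl⟩
      have hy' : hV.primeIdealOf ⟨z, hzV⟩ = y' :=
        hV.fromSpec.isOpenEmbedding.injective (hV.fromSpec_primeIdealOf _)
      have hzs : z ≠ s := fun hzs => hy (by
        have h1 : y' = x := hy'.symm.trans (congrArg hV.primeIdealOf (Subtype.ext hzs))
        have h2 : y.asIdeal.comap (algebraMap Γ(S, V) R) = x.asIdeal := congrArg PrimeSpectrum.asIdeal h1
        rw [← IsLocalization.map_comap x.asIdeal.primeCompl R y.asIdeal]
        exact (congrArg (Ideal.map (algebraMap Γ(S, V) R)) h2).trans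
          (IsLocalization.AtPrime.map_eq_maximalIdeal x.asIdeal R))
      rcases lt_or_ge 0 q with hq | hq
      · refine ⟨Γ(S, V), inferInstance, RingHom.id _, (algebraMap R _).comp (algebraMap Γ(S, V) R),
          fun b => rfl, fun N => ?_⟩
        exact isZero_bc _ _ _ (hQ.2.2.2.1 q hq) N
      obtain ⟨p, rfl⟩ : ∃ p : ℕ, q = -(p : ℤ) := ⟨q.natAbs, by omega⟩
      obtain ⟨h, hzh, h0⟩ := exists_basicOpen_vanishing hF hQ p hzV (hvan z (hVU hzV) hzs p)
      haveI := hV.isLocalization_basicOpen h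
      have hu : IsUnit (((algebraMap R (Localization.AtPrime y.asIdeal)).comp (algebraMap Γ(S, V) R)) h) := by
        refine IsLocalization.map_units (Localization.AtPrime y.asIdeal)
          (⟨algebraMap Γ(S, V) R h, fun hmem => ?_⟩ : y.asIdeal.primeCompl)
        exact (GrpdLib.mem_basicOpen_iff_notMem hV h ⟨z, hzV⟩).1 hzh (by rw [hy']; exact hmem)
      refine ⟨Γ(S, S.basicOpen h), inferInstance, (S.presheaf.map (homOfLE (S.basicOpen_le h)).op).hom,
        IsLocalization.Away.lift h hu, fun b => ?_, h0⟩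
      exact IsLocalization.Away.lift_eq h hu b)
  refine ⟨P, hP, fun K _ ψ hψ Z i π sq p => ?_, @fun _ p => ?_, fun e₀ I hI Z i π sq => ?_⟩
  rotate_left
  · let X₁ := pullback f (S.fromSpecStalk s)
    letI : X₁.Over (Spec (CommRingCat.of R)) := ⟨pullback.snd f (S.fromSpecStalk s)⟩
    have sq : IsPullback (pullback.fst f (S.fromSpecStalk s)) (pullback.snd f (S.fromSpecStalk s)) f
        (S.fromSpecStalk s) := IsPullback.of_hasPullback _ _
    obtain ⟨a⟩ := nonempty_stalk_HH f hF s p X₁ (pullback.fst f (S.fromSpecStalk s)) sq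
    obtain ⟨b⟩ := nonempty_of_isPullback hF hQ (algebraMap Γ(S, V) R) (by rw [hφ]; exact sq) p
    exact ⟨a.trans (b.trans ((hH (p : ℤ)).some.toLinearEquiv.symm))⟩
  rotate_left
  · let φ := ψ.comp (algebraMap Γ(S, V) R)
    have hφK : Spec.map (CommRingCat.ofHom φ) ≫ hV.fromSpec =
        Spec.map (CommRingCat.ofHom ψ) ≫ S.fromSpecStalk s := by
      rw [← hφ, ← Spec.map_comp_assoc]
      rfl
    obtain ⟨l⟩ := nonempty_of_isPullback hF hQ φ (by rw [hφK]; exact sq) p
    have hker : RingHom.ker φ = x.asIdeal := by rw [← RingHom.comap_ker, hψ, hx]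
    letI := modHH (Coh.toGlobal π) ((Scheme.Modules.pullback i).obj F) p
    rw [hrank, ← finrank_bc_eq_dRank φ Q x hker]
    exact l.finrank_eq.symm
  let φ := (Ideal.Quotient.mk I).comp (algebraMap Γ(S, V) R)
  have hφI : Spec.map (CommRingCat.ofHom φ) ≫ hV.fromSpec =
      Spec.map (CommRingCat.ofHom (Ideal.Quotient.mk I)) ≫ S.fromSpecStalk s := by
    rw [← hφ, ← Spec.map_comp_assoc]
    rfl
  have hsurj : Function.Surjective φ := fun c => by
    obtain ⟨r, rfl⟩ := Ideal.Quotient.mk_surjective c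
    obtain ⟨n, hn⟩ := hI
    obtain ⟨b, t, rfl⟩ := IsLocalization.exists_mk'_eq x.asIdeal.primeCompl r
    have hco : Ideal.span {(t : Γ(S, V))} ⊔ x.asIdeal ^ n = ⊤ := by
      refine Ideal.sup_pow_eq_top ?_
      rw [sup_comm]
      refine hxmax.out.2 _ (lt_of_le_of_ne le_sup_left fun h => t.2 ?_)
      show (t : Γ(S, V)) ∈ x.asIdeal; exact (Ideal.mem_sup_right (Ideal.mem_span_singleton_self _) : (t : Γ(S, V)) ∈ x.asIdeal ⊔ _) |> (h.ge ·)
    obtain ⟨u, hu, e, he, hue⟩ := Submodule.mem_sup.1 (hco.ge (Submodule.mem_top (x := (1 : Γ(S, V)))))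
    obtain ⟨w, rfl⟩ := Ideal.mem_span_singleton'.1 hu
    have he' : φ e = 0 := Ideal.Quotient.eq_zero_iff_mem.2 (hn (by
      have h1 := Ideal.mem_map_of_mem (algebraMap Γ(S, V) R) he
      rw [Ideal.map_pow] at h1
      exact Ideal.pow_right_mono (Ideal.map_le_iff_le_comap.2 hx.ge) n h1))
    refine ⟨b * w, ?_⟩
    have h1 : φ w * φ t = 1 := by rw [← map_mul, ← map_one φ, ← hue, map_add, he', add_zero]
    have h2 : φ b = (Ideal.Quotient.mk I) (IsLocalization.mk' R b t) * φ t := by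
      show (Ideal.Quotient.mk I) (algebraMap Γ(S, V) R b) = _
      rw [← IsLocalization.mk'_spec R b t, map_mul]
      rfl
    rw [map_mul, h2, mul_assoc, mul_comm (φ t), h1, mul_one]
  obtain ⟨h1, h2⟩ := hJ e₀ I hsurj
  obtain ⟨l⟩ := nonempty_of_isPullback hF hQ φ (by rw [hφI]; exact sq) 0
  letI := modHH (Coh.toGlobal π) ((Scheme.Modules.pullback i).obj F) 0
  refine ⟨fun hle => ?_, fun hf => h2 fun c hc => hf c fun z => l.injective ?_⟩
  · obtain ⟨z, hz⟩ := h1 hle
    exact ⟨l.symm z, fun c hc => hz c (l.symm.injective (by rw [map_smul, map_zero]; exact hc))⟩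
  · rw [map_smul, map_zero]
    exact hc _

end Groth.Agent.AVDualCx
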