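import Groth.Agent.H9Misc.DRingMinimal
import Groth.Agent.FlatCxLib.Structure
import Groth.Prelude.Def_ega3

/-!
# Minimal models of complexes of finite free modules, with natural comparison of tensor functors
-/

noncomputable section

set_option autoImplicit false
set_option linter.style.haveILetI false
set_option linter.unusedSectionVars false
set_option backward.isDefEq.respectTransparency false
set_option backward.isDefEq.respectTransparency.types false

universe u

open CategoryTheory CategoryTheory.Limits MonoidalCategory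

attribute [local instance] HasDerivedCategory.standard

namespace Groth.Agent.AVDualCx

open Groth.Agent.H9Misc

variable {R : Type u} [CommRing R]

/-- A homotopy equivalence induces a natural isomorphism of the tensor homology functors. -/
def tfunIsoOfHomotopyEquiv {P L : CochainComplex (ModuleCat.{u} R) ℤ} (e : HomotopyEquiv P L) (p : ℤ) :
    CohIII.TFun P p ≅ CohIII.TFun L p :=
  NatIso.ofComponents
    (fun M => ((tensorRight M).mapHomotopyEquiv e).toHomologyIso p)
    (fun {M N} g => by
      change HomologicalComplex.homologyMap (CohIII.tensorMap P g) p ≫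
          HomologicalComplex.homologyMap (((tensorRight N).mapHomologicalComplex _).map e.hom) p =
        HomologicalComplex.homologyMap (((tensorRight M).mapHomologicalComplex _).map e.hom) p ≫
          HomologicalComplex.homologyMap (CohIII.tensorMap L g) p
      rw [← HomologicalComplex.homologyMap_comp, ← HomologicalComplex.homologyMap_comp]
      exact congrArg (HomologicalComplex.homologyMap · p)
        ((NatTrans.mapHomologicalComplex ((tensoringRight (ModuleCat.{u} R)).map g)
          (ComplexShape.up ℤ)).naturality e.hom).symm)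

/-- Bounded above complexes of projectives isomorphic in the derived category are homotopy equivalent. -/
theorem nonempty_homotopyEquiv_of_toD {P Q : CochainComplex (ModuleCat.{u} R) ℤ} (b c : ℤ)
    [P.IsStrictlyLE b] [Q.IsStrictlyLE c] [∀ i, Projective (P.X i)] [∀ i, Projective (Q.X i)]
    (α : DerivedCategory.Q.obj P ≅ DerivedCategory.Q.obj Q) : Nonempty (HomotopyEquiv P Q) := by
  haveI := CochainComplex.isKProjective_of_projective P b
  haveI := CochainComplex.isKProjective_of_projective Q c
  let q := HomotopyCategory.quotient (ModuleCat.{u} R) (ComplexShape.up ℤ)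
  let e := DerivedCategory.quotientCompQhIso (ModuleCat.{u} R)
  obtain ⟨v', hv⟩ := (CochainComplex.IsKProjective.Qh_map_bijective P (q.obj Q)).2
    (e.hom.app P ≫ α.hom ≫ e.inv.app Q)
  obtain ⟨w', hw⟩ := (CochainComplex.IsKProjective.Qh_map_bijective Q (q.obj P)).2
    (e.hom.app Q ≫ α.inv ≫ e.inv.app P)
  obtain ⟨v, rfl⟩ := q.map_surjective v'
  obtain ⟨w, rfl⟩ := q.map_surjective w'
  have h1 : q.map (v ≫ w) = q.map (𝟙 P) :=
    (CochainComplex.IsKProjective.Qh_map_bijective P (q.obj P)).1 (by
      rw [Functor.map_comp, Functor.map_comp, hv, hw, CategoryTheory.Functor.map_id,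
        CategoryTheory.Functor.map_id]
      simp only [Category.assoc, Iso.inv_hom_id_app_assoc, Iso.hom_inv_id_assoc, Iso.hom_inv_id_app]
      rfl)
  have h2 : q.map (w ≫ v) = q.map (𝟙 Q) :=
    (CochainComplex.IsKProjective.Qh_map_bijective Q (q.obj Q)).1 (by
      rw [Functor.map_comp, Functor.map_comp, hv, hw, CategoryTheory.Functor.map_id,
        CategoryTheory.Functor.map_id]
      simp only [Category.assoc, Iso.inv_hom_id_app_assoc, Iso.inv_hom_id_assoc, Iso.hom_inv_id_app]
      rfl)
  exact ⟨{ hom := v, inv := w, homotopyHomInvId := HomotopyCategory.homotopyOfEq _ _ h1,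
           homotopyInvHomId := HomotopyCategory.homotopyOfEq _ _ h2 }⟩

variable [IsLocalRing R]

/-- The dimension of the homology of the reduction of a complex to the residue field. -/
def redRank (L : CochainComplex (ModuleCat.{u} R) ℤ) (i : ℤ) : ℕ :=
  Module.finrank (IsLocalRing.ResidueField R) ((CohIII.bcCx (IsLocalRing.residue R) L).homology i)

/-- Bounded above complexes of free modules isomorphic in the derived category have the same reduced ranks. -/
theorem redRank_congr {P L : DRing.Cx R} {b c : ℤ} (hb : DRing.VanishesAbove P b) (hc : DRing.VanishesAbove L c)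
    (hP : DRing.TermwiseFiniteFree P) (hL : DRing.TermwiseFiniteFree L) (e : DRing.toD P ≅ DRing.toD L) (i : ℤ) :
    redRank P i = redRank L i := by
  haveI := DRingLBase.hasLBaseChange (IsLocalRing.residue R)
  obtain ⟨e1⟩ := DRingMinimal.nonempty_homology_iso (K := DRing.toD L) hb hP e i
  obtain ⟨e2⟩ := DRingMinimal.nonempty_homology_iso (K := DRing.toD L) hc hL (Iso.refl _) i
  exact (e1.trans e2.symm).finrank_eq

/-- **Minimal models.** -/
theorem exists_min [IsNoetherianRing R] (L : CochainComplex (ModuleCat.{u} R) ℤ) (b : ℤ)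
    (hb : ∀ i, b < i → IsZero (L.X i)) (hL : ∀ i, Module.Finite R (L.X i) ∧ Module.Free R (L.X i)) :
    ∃ P : CochainComplex (ModuleCat.{u} R) ℤ,
      (∀ i, Module.Finite R (P.X i) ∧ Module.Free R (P.X i)) ∧
      (∀ i, Module.finrank R (P.X i) = redRank L i) ∧
      (∀ i (x : P.X i), (P.d i (i + 1)).hom x ∈ IsLocalRing.maximalIdeal R • (⊤ : Submodule R (P.X (i + 1)))) ∧
      ∀ p, Nonempty (CohIII.TFun P p ≅ CohIII.TFun L p) := by
  haveI := DRingLBase.hasLBaseChange (IsLocalRing.residue R)
  obtain ⟨-, -, P, hP⟩ := DRingMinimal.exists_minimal (K := DRing.toD L) ⟨L, b, hb, hL, ⟨Iso.refl _⟩⟩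
  obtain ⟨⟨c, hc⟩, hP', ⟨e⟩⟩ := id hP
  refine ⟨P, fun i => ⟨(hP' i).2.1, (hP' i).1⟩, fun i => ?_, fun i x => hP.d_mem i x, fun p => ?_⟩
  · obtain ⟨e2⟩ := DRingMinimal.nonempty_homology_iso (K := DRing.toD L) hb hL (Iso.refl _) i
    rw [(hP' i).2.2]
    exact e2.finrank_eq.symm
  haveI : P.IsStrictlyLE c := (CochainComplex.isStrictlyLE_iff _ _).2 fun i hi => hc i hi
  haveI : L.IsStrictlyLE b := (CochainComplex.isStrictlyLE_iff _ _).2 fun i hi => hb i hi
  haveI : ∀ i, Projective (P.X i) := fun i =>
    haveI := (hP' i).1; (IsProjective.iff_projective _).1 Module.Projective.of_free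
  haveI : ∀ i, Projective (L.X i) := fun i =>
    haveI := (hL i).2; (IsProjective.iff_projective _).1 Module.Projective.of_free
  obtain ⟨h⟩ := nonempty_homotopyEquiv_of_toD c b e
  exact ⟨tfunIsoOfHomotopyEquiv h p⟩

end Groth.Agent.AVDualCx
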