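import Groth.Agent.AVDualCx.Core
import Groth.Agent.AVDualCx.Minimal
import Groth.Agent.CohPullLib.Model
import Groth.Agent.QCoh.LocalExchange

/-!
# The minimal complex at a point of a model whose cohomology is supported at that point
-/

noncomputable section

set_option autoImplicit false
set_option linter.style.haveILetI false
set_option linter.unusedSectionVars false
set_option backward.isDefEq.respectTransparency false
set_option backward.isDefEq.respectTransparency.types false
set_option maxHeartbeats 1000000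

universe u

open CategoryTheory CategoryTheory.Limits IsLocalRing MonoidalCategory
open scoped TensorProduct

namespace Groth.Agent.AVDualCx

section Up

variable {A : Type u} [CommRing A]

/-- A chain complex in cohomological indexing. -/
def upCx (L : ChainComplex (ModuleCat.{u} A) ℤ) : CochainComplex (ModuleCat.{u} A) ℤ where
  X i := L.X (-i)
  d i j := L.d (-i) (-j)
  shape i j h := L.shape _ _ fun h' => h (by simp only [ComplexShape.up_Rel, ComplexShape.down_Rel] at *; lia)
  d_comp_d' i j k _ _ := L.d_comp_d _ _ _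

theorem nonempty_tfun_upCx (L : ChainComplex (ModuleCat.{u} A) ℤ) (q : ℤ) :
    Nonempty (CohIII.TFun (upCx L) q ≅ CohIII.TFun L (-q)) := by
  let φ : QCoh.FlatModel.tensorFunctor (upCx L) ⋙
        HomologicalComplex.shortComplexFunctor' _ (ComplexShape.up ℤ) (q - 1) q (q + 1) ≅
      QCoh.FlatModel.tensorFunctor L ⋙
        HomologicalComplex.shortComplexFunctor' _ (ComplexShape.down ℤ) (-(q - 1)) (-q) (-(q + 1)) :=
    NatIso.ofComponents (fun M => ShortComplex.isoMk (Iso.refl _) (Iso.refl _) (Iso.refl _)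
      ((Category.id_comp _).trans (Category.comp_id _).symm) ((Category.id_comp _).trans (Category.comp_id _).symm))
      fun g => by ext <;> rfl
  let a := HomologicalComplex.homologyFunctorIso' (ModuleCat.{u} A) (ComplexShape.up ℤ) (q - 1) q (q + 1)
    (by simp) (by simp)
  let b := HomologicalComplex.homologyFunctorIso' (ModuleCat.{u} A) (ComplexShape.down ℤ) (-(q - 1)) (-q) (-(q + 1))
    (by simp; lia) (by simp; lia)
  exact ⟨(QCoh.FlatModel.tIso (upCx L) q).symm ≪≫ Functor.isoWhiskerLeft _ a ≪≫ (Functor.associator _ _ _).symm ≪≫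
    Functor.isoWhiskerRight φ _ ≪≫ Functor.associator _ _ _ ≪≫ Functor.isoWhiskerLeft _ b.symm ≪≫
    QCoh.FlatModel.tIso L (-q)⟩

/-- The tensor functor at the ring is the homology. -/
def tUnitIsoUp {P : CochainComplex (ModuleCat.{u} A) ℤ} (q : ℤ) :
    CohIII.T P q (ModuleCat.of A A) ≅ P.homology q :=
  (HomologicalComplex.homologyFunctor _ _ q).mapIso
    ((NatIso.mapHomologicalComplex (MonoidalCategory.rightUnitorNatIso (ModuleCat.{u} A)) _).app P ≪≫
      (Functor.mapHomologicalComplexIdIso _ _).app P)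

theorem nonempty_homology_upCx (L : ChainComplex (ModuleCat.{u} A) ℤ) (q : ℤ) :
    Nonempty ((upCx L).homology q ≅ L.homology (-q)) :=
  ⟨((HomologicalComplex.homologyFunctorIso' (ModuleCat.{u} A) (ComplexShape.up ℤ) (q - 1) q (q + 1)
      (by simp) (by simp)).app (upCx L)) ≪≫
    (ShortComplex.homologyFunctor _).mapIso (ShortComplex.isoMk (Iso.refl _) (Iso.refl _) (Iso.refl _)
      ((Category.id_comp _).trans (Category.comp_id _).symm)
      ((Category.id_comp _).trans (Category.comp_id _).symm)) ≪≫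
    ((HomologicalComplex.homologyFunctorIso' (ModuleCat.{u} A) (ComplexShape.down ℤ) (-(q - 1)) (-q) (-(q + 1))
      (by simp; lia) (by simp; lia)).app L).symm⟩

variable {B C : Type u} [CommRing B] [CommRing C]

/-- Extension of scalars in two steps. -/
def bcCompIso {ι : Type} {c : ComplexShape ι} (φ : A →+* B) (ψ : B →+* C)
    (P : HomologicalComplex (ModuleCat.{u} A) c) :
    CohIII.bcCx (ψ.comp φ) P ≅ CohIII.bcCx ψ (CohIII.bcCx φ P) :=
  HomologicalComplex.Hom.isoOfComponents (fun n => (ModuleCat.extendScalarsComp φ ψ).app (P.X n))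
    fun a b _ => ((ModuleCat.extendScalarsComp φ ψ).hom.naturality (P.d a b)).symm

theorem redRank_upCx [IsLocalRing B] (φ : A →+* B) (Q : ChainComplex (ModuleCat.{u} A) ℤ) (x : PrimeSpectrum A)
    (hx : (maximalIdeal B).comap φ = x.asIdeal) (i : ℤ) :
    redRank (upCx (CohIII.bcCx φ Q)) i = CohIII.dRank Q (-i) x := by
  let e : CohIII.bcCx (residue B) (upCx (CohIII.bcCx φ Q)) ≅ upCx (CohIII.bcCx (residue B) (CohIII.bcCx φ Q)) :=
    HomologicalComplex.Hom.isoOfComponents (fun _ => Iso.refl _)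
      fun a b _ => (Category.id_comp _).trans (Category.comp_id _).symm
  obtain ⟨u⟩ := nonempty_homology_upCx (CohIII.bcCx (residue B) (CohIII.bcCx φ Q)) i
  have hker : RingHom.ker ((residue B).comp φ) = x.asIdeal := by
    rw [← RingHom.comap_ker, IsLocalRing.ker_residue, hx]
  rw [← QCoh.finrank_bc_eq_dRank ((residue B).comp φ) Q x hker (-i)]
  exact ((HomologicalComplex.homologyFunctor _ _ i).mapIso e ≪≫ u ≪≫
    (HomologicalComplex.homologyFunctor _ _ (-i)).mapIso (bcCompIso φ (residue B) Q).symm).toLinearEquiv.finrank_eq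

theorem exists_equiv_bc {ι : Type} {c : ComplexShape ι} (φ : A →+* B)
    (P : HomologicalComplex (ModuleCat.{u} A) c) (p : ι) (M : ModuleCat.{u} B) :
    ∃ E : (CohIII.T (CohIII.bcCx φ P) p M : Type u) ≃+
        (CohIII.T P p ((ModuleCat.restrictScalars φ).obj M) : Type u),
      ∀ (a : A) x, E (φ a • x) = a • E x := by
  obtain ⟨e⟩ := QCoh.nonempty_bcT_iso P φ p
  let g : ∀ _a : A, M ⟶ M := fun a => ModuleCat.ofHom (φ a • LinearMap.id : M →ₗ[B] M)
  let E : (CohIII.T (CohIII.bcCx φ P) p M : Type u) ≃+ (CohIII.T P p ((ModuleCat.restrictScalars φ).obj M) : Type u) :=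
    (e.app M).addCommGroupIsoToAddEquiv
  refine ⟨E, fun a x => ?_⟩
  rw [← QCoh.tfun_map_smul p M (φ a) x]
  refine (ConcreteCategory.congr_hom (e.hom.naturality (g a)) x).trans ?_
  rw [← QCoh.tfun_map_smul p ((ModuleCat.restrictScalars φ).obj M) a]
  rfl

/-- An isomorphism from an additive bijection respecting scalars. -/
def mkIso {A' : Type u} [CommRing A'] {M N : ModuleCat.{u} A'} (e : M ≃+ N) (h : ∀ (a : A') (x : M), e (a • x) = a • e x) :
    M ≅ N :=
  (AddEquiv.toLinearEquiv e h).toModuleIso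

end Up

section Loc

variable {R : Type u} [CommRing R]

/-- A boundary after localisation is a boundary up to a multiple. -/
theorem exists_smul_mem_range (S : Submonoid R) {Rp : Type u} [CommRing Rp] [Algebra R Rp] [IsLocalization S Rp]
    {M N : Type u} [AddCommGroup M] [Module R M] [AddCommGroup N] [Module R N] (d : M →ₗ[R] N) (x : N)
    (h : x ⊗ₜ[R] (1 : Rp) ∈ LinearMap.range (d.rTensor Rp)) : ∃ s ∈ S, s • x ∈ LinearMap.range d := by
  obtain ⟨y, hy⟩ := h
  let fM := TensorProduct.mk R Rp M 1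
  let fN := TensorProduct.mk R Rp N 1
  haveI : IsLocalizedModule S fM := (isLocalizedModule_iff_isBaseChange S Rp _).2 (TensorProduct.isBaseChange R M Rp)
  haveI : IsLocalizedModule S fN := (isLocalizedModule_iff_isBaseChange S Rp _).2 (TensorProduct.isBaseChange R N Rp)
  obtain ⟨⟨m, s⟩, hms⟩ := IsLocalizedModule.surj S fM (TensorProduct.comm R M Rp y)
  have hc : ∀ z, TensorProduct.comm R N Rp (d.rTensor Rp z) = d.lTensor Rp (TensorProduct.comm R M Rp z) := fun z => by
    induction z using TensorProduct.induction_on with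
    | zero => simp
    | add a b ha hb => simp only [map_add, ha, hb]
    | tmul a b => rfl
  have h1 : fN ((s : R) • x) = fN (d m) := by
    have h2 := congrArg (d.lTensor Rp) hms
    rw [Submonoid.smul_def, map_smul, ← hc, hy] at h2
    rw [map_smul]
    exact h2
  obtain ⟨t, ht⟩ := IsLocalizedModule.exists_of_eq (S := S) h1
  refine ⟨(t : R) * s, S.mul_mem t.2 s.2, (t : R) • m, ?_⟩
  rw [map_smul, mul_smul]
  exact ht.symm

end Loc

section Package

variable {B : Type u} [CommRing B] {R : Type u} [CommRing R] [IsLocalRing R] [IsNoetherianRing R] [Algebra B R]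

/-- The homology of a minimal complex with vanishing localisations is killed by powers of the maximal ideal. -/
theorem kill_of_localization (P : CochainComplex (ModuleCat.{u} R) ℤ)
    (h : ∀ 𝔭 : PrimeSpectrum R, 𝔭.asIdeal ≠ maximalIdeal R → ∀ p,
      IsZero (CohIII.T P p (ModuleCat.of R (Localization.AtPrime 𝔭.asIdeal)))) (r : R) (hr : r ∈ maximalIdeal R)
    (p : ℤ) (x : P.X (p + 1)) (hx : (P.d (p + 1) (p + 1 + 1)).hom x = 0) :
    ∃ N : ℕ, ∃ y : P.X p, (P.d p (p + 1)).hom y = r ^ N • x := by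
  let I : Ideal R := Submodule.comap (LinearMap.toSpanSingleton R (P.X (p + 1)) x) (LinearMap.range (P.d p (p + 1)).hom)
  suffices hI : r ∈ I.radical by
    obtain ⟨N, y, hy⟩ := hI
    exact ⟨N, y, hy⟩
  rw [Ideal.radical_eq_sInf, Ideal.mem_sInf]
  rintro q ⟨hIq, hq⟩
  by_contra hrq
  let 𝔭 : PrimeSpectrum R := ⟨q, hq⟩
  have hne : q ≠ maximalIdeal R := fun e => hrq (e ▸ hr)
  let Rp := Localization.AtPrime q
  have hex := h 𝔭 hne (p + 1)
  rw [← HomologicalComplex.exactAt_iff_isZero_homology,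
    HomologicalComplex.exactAt_iff' _ p (p + 1) (p + 1 + 1) (by simp) (by simp),
    ShortComplex.moduleCat_exact_iff] at hex
  obtain ⟨y, hy⟩ := hex (x ⊗ₜ[R] (1 : Rp)) (by
    show ((P.d (p + 1) (p + 1 + 1)).hom.rTensor Rp) (x ⊗ₜ[R] 1) = 0
    rw [LinearMap.rTensor_tmul, hx, TensorProduct.zero_tmul])
  obtain ⟨s, hs, hsx⟩ := exists_smul_mem_range q.primeCompl (P.d p (p + 1)).hom x ⟨y, hy⟩
  exact hs (hIq (show LinearMap.toSpanSingleton R (P.X (p + 1)) x s ∈ _ from hsx))

/-- Faithfulness of the degree zero homology modulo an ideal. -/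
theorem dualIdeal_le_iff_faithful (P : CochainComplex (ModuleCat.{u} R) ℤ) [Subsingleton (P.X (-1))]
    [Module.Finite R (P.X 1)] [Module.Free R (P.X 1)] (e₀ : P.X 0 ≃ₗ[R] R) (I : Ideal R) :
    (dualIdeal P (e₀.symm 1) ≤ I → ∃ x : CohIII.T P 0 (ModuleCat.of R (R ⧸ I)), ∀ a : R, a • x = 0 → a ∈ I) ∧
      ((∀ a : R, (∀ x : CohIII.T P 0 (ModuleCat.of R (R ⧸ I)), a • x = 0) → a ∈ I) →
        dualIdeal P (e₀.symm 1) ≤ I) := by
  let e := e₀.symm 1
  let K := CohIII.tensorObj P (ModuleCat.of R (R ⧸ I))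
  haveI : Subsingleton (K.X (-1)) := subsingleton_of_forall_eq 0 fun z => by
    change (P.X (-1) ⊗[R] (R ⧸ I)) at z
    show (z : P.X (-1) ⊗[R] (R ⧸ I)) = 0
    induction z using TensorProduct.induction_on with
    | zero => rfl
    | add a b ha hb => rw [ha, hb, add_zero]
    | tmul a b => rw [Subsingleton.elim a 0, TensorProduct.zero_tmul]
  haveI : IsIso (K.homologyπ 0) := K.isIso_homologyπ (-1) 0 (by simp)
    ((ModuleCat.isZero_of_subsingleton (K.X (-1))).eq_of_src _ _)
  let π := (asIso (K.homologyπ 0)).toLinearEquiv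
  have hinj : Function.Injective (K.iCycles 0).hom := (ModuleCat.mono_iff_injective _).1 inferInstance
  constructor
  · intro hJ
    have hd : ((P.d 0 1).hom.rTensor (R ⧸ I)) (e ⊗ₜ[R] (Ideal.Quotient.mk I 1)) = 0 := by
      rw [LinearMap.rTensor_tmul]
      exact (dualIdeal_le_iff e I).1 hJ
    let z : K.cycles 0 := K.cyclesMk (e ⊗ₜ[R] (Ideal.Quotient.mk I 1) : P.X 0 ⊗[R] (R ⧸ I)) 1 (by simp) hd
    have hz : (K.iCycles 0).hom z = (e ⊗ₜ[R] (Ideal.Quotient.mk I 1) : P.X 0 ⊗[R] (R ⧸ I)) :=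
      K.i_cyclesMk _ _ _ _
    refine ⟨π z, fun a ha => ?_⟩
    have h1 : a • z = 0 := π.injective (by rw [map_smul, map_zero]; exact ha)
    have h2 := congrArg (fun w => TensorProduct.lid R (R ⧸ I) (e₀.toLinearMap.rTensor (R ⧸ I) ((K.iCycles 0).hom w))) h1
    simp only [map_smul, map_zero, hz] at h2
    change a • TensorProduct.lid R (R ⧸ I) (e₀.toLinearMap.rTensor (R ⧸ I) (e ⊗ₜ[R] Ideal.Quotient.mk I 1)) = 0 at h2
    rw [LinearMap.rTensor_tmul, TensorProduct.lid_tmul, LinearEquiv.coe_coe, LinearEquiv.apply_symm_apply, one_smul,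
      Algebra.smul_def, map_one, mul_one] at h2
    exact (Ideal.Quotient.eq_zero_iff_mem).1 h2
  · intro h
    rintro a ⟨φ, rfl⟩
    refine h _ fun x => ?_
    obtain ⟨z, rfl⟩ := π.surjective x
    rw [← map_smul, map_eq_zero_iff _ π.injective]
    refine hinj ?_
    rw [map_smul, map_zero]
    have hz : ((P.d 0 1).hom.rTensor (R ⧸ I)) ((K.iCycles 0).hom z) = 0 := by
      show (K.d 0 1).hom ((K.iCycles 0).hom z) = 0
      rw [← ConcreteCategory.comp_apply, K.iCycles_d]
      rfl
    generalize (K.iCycles 0).hom z = w at hz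
    change (P.X 0 ⊗[R] (R ⧸ I)) at w
    obtain ⟨c, rfl⟩ : ∃ c, e ⊗ₜ[R] c = w := by
      refine ⟨TensorProduct.lid R (R ⧸ I) (e₀.toLinearMap.rTensor (R ⧸ I) w), ?_⟩
      clear hz
      induction w using TensorProduct.induction_on with
      | zero => simp
      | add u v hu hv =>
        simp only [map_add, TensorProduct.tmul_add]
        rw [hu, hv]
      | tmul u v =>
        rw [LinearMap.rTensor_tmul, TensorProduct.lid_tmul, TensorProduct.tmul_smul, TensorProduct.smul_tmul',
          ← LinearEquiv.map_smul, smul_eq_mul, mul_one, LinearEquiv.coe_coe, LinearEquiv.symm_apply_apply]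
    rw [LinearMap.rTensor_tmul] at hz
    have h3 := congrArg (fun u => TensorProduct.lid R (R ⧸ I) (φ.rTensor (R ⧸ I) u)) hz
    simp only [LinearMap.rTensor_tmul, TensorProduct.lid_tmul, map_zero] at h3
    rw [← TensorProduct.tmul_smul]
    change φ ((P.d 0 1).hom e) • c = 0 at h3
    exact (congrArg (e ⊗ₜ[R] ·) h3).trans (TensorProduct.tmul_zero _ _)

variable (Q : ChainComplex (ModuleCat.{u} B) ℤ)

/-- **The local package.** -/
theorem exists_package {g : ℕ} (x : PrimeSpectrum B) (hx : (maximalIdeal R).comap (algebraMap B R) = x.asIdeal)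
    (hfin : ∀ i, Module.Finite B (Q.X i)) (hfree : ∀ i, Module.Free B (Q.X i))
    (hc : ∃ c : ℤ, ∀ i, i < c → IsZero (Q.X i))
    (hhi : ∀ q : ℤ, q < -(g : ℤ) ∨ 0 < q → CohIII.dRank Q q x = 0)
    (hvan : ∀ y : PrimeSpectrum R, y.asIdeal ≠ maximalIdeal R → ∀ q : ℤ,
      ∃ (B' : Type u) (_ : CommRing B') (j : B →+* B') (ψ : B' →+* Localization.AtPrime y.asIdeal),
        (∀ b, ψ (j b) = algebraMap R (Localization.AtPrime y.asIdeal) (algebraMap B R b)) ∧
        ∀ N, IsZero ((CohIII.TFun (CohIII.bcCx j Q) q).obj N)) :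
    ∃ P : CochainComplex (ModuleCat.{u} R) ℤ, Good P g ∧
      (∀ i, Module.finrank R (P.X i) = CohIII.dRank Q (-i) x) ∧
      (∀ i, Nonempty (P.homology i ≅ (CohIII.bcCx (algebraMap B R) Q).homology (-i))) ∧
      ∀ (e₀ : P.X 0 ≃ₗ[R] R) (I : Ideal R),
        Function.Surjective ((Ideal.Quotient.mk I).comp (algebraMap B R)) →
        (dualIdeal P (e₀.symm 1) ≤ I →
          ∃ z : (CohIII.bcCx ((Ideal.Quotient.mk I).comp (algebraMap B R)) Q).homology 0,
            ∀ c : R ⧸ I, c • z = 0 → c = 0) ∧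
        ((∀ c : R ⧸ I,
          (∀ z : (CohIII.bcCx ((Ideal.Quotient.mk I).comp (algebraMap B R)) Q).homology 0, c • z = 0) → c = 0) →
          dualIdeal P (e₀.symm 1) ≤ I) := by
  let φ := algebraMap B R
  let Q' := CohIII.bcCx φ Q
  obtain ⟨c, hc⟩ := hc
  obtain ⟨P, hP1, hP2, hP3, hP4⟩ := exists_min (upCx Q') (-c)
    (fun i hi => Functor.map_isZero (ModuleCat.extendScalars φ) (hc (-i) (by omega)))
    (fun i => ⟨QCoh.finite_bcCx_X_aux Q φ hfin (-i), by
      letI := φ.toAlgebra
      haveI := hfree (-i)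
      exact inferInstanceAs (Module.Free R (R ⊗[B] Q.X (-i)))⟩)
  have hrank : ∀ i, Module.finrank R (P.X i) = CohIII.dRank Q (-i) x := fun i =>
    (hP2 i).trans (redRank_upCx φ Q x hx i)
  have hbdd : ∀ i : ℤ, i < 0 ∨ (g : ℤ) < i → Subsingleton (P.X i) := fun i hi => by
    haveI := (hP1 i).1
    haveI := (hP1 i).2
    let b := Module.Free.chooseBasis R (P.X i)
    haveI : IsEmpty (Module.Free.ChooseBasisIndex R (P.X i)) := Fintype.card_eq_zero_iff.1
      ((Module.finrank_eq_card_chooseBasisIndex R (P.X i)).symm.trans ((hrank i).trans (hhi (-i) (by omega))))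
    exact b.repr.toEquiv.subsingleton
  have eT := fun p => (hP4 p).some
  have eU := fun p => (nonempty_tfun_upCx Q' p).some
  have hloc : ∀ 𝔭 : PrimeSpectrum R, 𝔭.asIdeal ≠ maximalIdeal R → ∀ p,
      IsZero (CohIII.T P p (ModuleCat.of R (Localization.AtPrime 𝔭.asIdeal))) := fun 𝔭 h𝔭 p => by
    let Rp := Localization.AtPrime 𝔭.asIdeal
    obtain ⟨B', _, j, ψ, hψ, hz⟩ := hvan 𝔭 h𝔭 (-p)
    refine IsZero.of_iso ?_ ((eT p).app _ ≪≫ (eU p).app _)
    obtain ⟨e1⟩ := QCoh.nonempty_bcT_iso Q φ (-p)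
    obtain ⟨e2⟩ := QCoh.nonempty_bcT_iso Q j (-p)
    let Mh : ModuleCat.{u} B' := (ModuleCat.restrictScalars ψ).obj (ModuleCat.of Rp Rp)
    let l : (ModuleCat.restrictScalars φ).obj (ModuleCat.of R Rp) ≅ (ModuleCat.restrictScalars j).obj Mh :=
      mkIso
        { toFun := fun z => z, invFun := fun z => z, left_inv := fun _ => rfl, right_inv := fun _ => rfl,
          map_add' := fun _ _ => rfl }
        fun b z => by
            show (φ b) • (show Rp from z) = ψ (j b) * (show Rp from z)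
            rw [hψ, Algebra.smul_def]
    haveI : Subsingleton ((CohIII.TFun Q' (-p)).obj (ModuleCat.of R (Localization.AtPrime 𝔭.asIdeal))) :=
      AddCommGrpCat.subsingleton_of_isZero ((Functor.map_isZero (forget₂ _ AddCommGrpCat.{u}) (hz Mh)).of_iso
        (e1.app _ ≪≫ (CohIII.TFun Q (-p) ⋙ forget₂ _ AddCommGrpCat.{u}).mapIso l ≪≫ (e2.app Mh).symm))
    exact ModuleCat.isZero_of_subsingleton _
  refine ⟨P, ⟨hP1, hbdd, hP3, fun r hr p => ?_⟩, hrank, fun i =>
    ⟨(tUnitIsoUp (P := P) i).symm ≪≫ (eT i).app _ ≪≫ tUnitIsoUp (P := upCx Q') i ≪≫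
      (nonempty_homology_upCx Q' i).some⟩, fun e₀ I hI => ?_⟩
  · haveI := (hP1 (p + 1)).1
    let Z := LinearMap.ker (P.d (p + 1) (p + 1 + 1)).hom
    obtain ⟨s, hs⟩ : Z.FG := IsNoetherian.noetherian Z
    have hk : ∀ z ∈ Z, ∃ N, ∃ y : P.X p, (P.d p (p + 1)).hom y = r ^ N • z := fun z hz =>
      kill_of_localization P hloc r hr p z hz
    choose N hN using hk
    classical
    let M := s.attach.sup fun z => N z.1 (hs ▸ Submodule.subset_span z.2)
    refine ⟨M, fun z hz => ?_⟩
    have hle : Z ≤ (LinearMap.range (P.d p (p + 1)).hom).comap (r ^ M • LinearMap.id) := by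
      rw [← hs, Submodule.span_le]
      intro z hz
      obtain ⟨y, hy⟩ := hN z (hs ▸ Submodule.subset_span hz)
      refine ⟨r ^ (M - N z (hs ▸ Submodule.subset_span hz)) • y, ?_⟩
      rw [map_smul, hy, smul_smul, ← pow_add,
        Nat.sub_add_cancel (Finset.le_sup (f := fun z : {z // z ∈ s} => N z.1 (hs ▸ Submodule.subset_span z.2))
          (Finset.mem_attach s ⟨z, hz⟩))]
      rfl
    exact hle hz
  haveI : Subsingleton (P.X (-1)) := hbdd _ (Or.inl (by omega))
  haveI := (hP1 1).1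
  haveI := (hP1 1).2
  obtain ⟨hfa, hfb⟩ := dualIdeal_le_iff_faithful P e₀ I
  let C := R ⧸ I
  let φC := (Ideal.Quotient.mk I).comp φ
  obtain ⟨eQ⟩ : Nonempty ((ModuleCat.restrictScalars φ).obj (ModuleCat.of R C) ≅
      (ModuleCat.restrictScalars φC).obj (ModuleCat.of C C)) :=
    ⟨mkIso
      { toFun := fun z => z, invFun := fun z => z, left_inv := fun _ => rfl, right_inv := fun _ => rfl,
        map_add' := fun _ _ => rfl }
      fun b z => by
        show (φ b) • (show C from z) = φC b * (show C from z)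
        rw [Algebra.smul_def]
        rfl⟩
  let i1 := ((eT 0).app (ModuleCat.of R C) ≪≫ (eU 0).app (ModuleCat.of R C)).toLinearEquiv
  obtain ⟨E1, hE1⟩ := exists_equiv_bc φ Q (-0) (ModuleCat.of R C)
  let i2 := ((CohIII.TFun Q (-0)).mapIso eQ).toLinearEquiv
  obtain ⟨E2, hE2⟩ := exists_equiv_bc φC Q (-0) (ModuleCat.of C C)
  let i3 := (FlatCxLib.tUnitIso (P := CohIII.bcCx φC Q) (-0)).toLinearEquiv
  obtain ⟨E, hE⟩ : ∃ E : (CohIII.T P 0 (ModuleCat.of R C) : Type u) ≃+ ((CohIII.bcCx φC Q).homology 0 : Type u),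
      ∀ b x, E (φ b • x) = φC b • E x := by
    refine ⟨(((i1.toAddEquiv.trans E1).trans i2.toAddEquiv).trans E2.symm).trans i3.toAddEquiv, fun b x => ?_⟩
    show i3 (E2.symm (i2 (E1 (i1 (φ b • x))))) = φC b • i3 (E2.symm (i2 (E1 (i1 x))))
    rw [← map_smul]
    refine congrArg i3 (E2.injective ?_)
    rw [E2.apply_symm_apply, hE2, E2.apply_symm_apply]
    refine Eq.trans (congrArg i2 ?_) (i2.map_smul b _)
    exact (congrArg E1 (i1.map_smul _ _)).trans (hE1 b _)
  have hI' : ∀ a : R, ∃ b : B, φ b - a ∈ I ∧ φC b = Ideal.Quotient.mk I a := fun a => by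
    obtain ⟨b, hb⟩ := hI (Ideal.Quotient.mk I a)
    exact ⟨b, Ideal.Quotient.eq.1 hb, hb⟩
  have hmod : ∀ a b, φ b - a ∈ I → ∀ x : CohIII.T P 0 (ModuleCat.of R C), φ b • x = a • x := fun a b hmem x => by
    have h0 : ((φ b - a) • LinearMap.id : C →ₗ[R] C) = (0 : R) • LinearMap.id := LinearMap.ext fun z => by
      show (φ b - a) • z = (0 : R) • z
      rw [zero_smul, Algebra.smul_def, Ideal.Quotient.algebraMap_eq, Ideal.Quotient.eq_zero_iff_mem.2 hmem,
        zero_mul]
    rw [← sub_eq_zero, ← sub_smul, ← QCoh.tfun_map_smul 0 (ModuleCat.of R C) (φ b - a) x, h0,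
      QCoh.tfun_map_smul 0 (ModuleCat.of R C) (0 : R) x, zero_smul]
  constructor
  · intro hJ
    obtain ⟨x, hx⟩ := hfa hJ
    refine ⟨E x, fun c hc => ?_⟩
    obtain ⟨b, rfl⟩ := hI c
    have h1 : φ b • x = 0 := E.injective ((hE b x).trans (hc.trans (map_zero E).symm))
    exact Ideal.Quotient.eq_zero_iff_mem.2 (hx _ h1)
  · intro h
    refine hfb fun a ha => ?_
    obtain ⟨b, hmem, hb⟩ := hI' a
    refine Ideal.Quotient.eq_zero_iff_mem.1 (h _ fun z => ?_)
    obtain ⟨x, rfl⟩ := E.surjective z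
    rw [← hb, ← hE, hmod a b hmem, ha, map_zero]

end Package

end Groth.Agent.AVDualCx
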