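import Groth.Agent.AVDualCx.Point
import Groth.Agent.H23.EqvUnr
import Groth.Agent.ThetaLib.KLExists
import Groth.Agent.ThetaLib.Scalar

/-!
# The Mumford family of an invertible module on an abelian variety
-/

noncomputable section

set_option autoImplicit false
set_option linter.style.haveILetI false
set_option linter.unusedSectionVars false
set_option backward.isDefEq.respectTransparency false
set_option backward.isDefEq.respectTransparency.types false
set_option maxHeartbeats 1000000

universe u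

open CategoryTheory CategoryTheory.Limits MonoidalCategory CartesianMonoidalCategory MonObj AlgebraicGeometry TopologicalSpace Opposite IsLocalRing

namespace Groth.Agent.AVDualCx

open Groth.Agent Groth.Agent.H23 Groth.Agent.H23.TrivBasic Groth.Agent.AVCube
open scoped Groth.Agent.H23.PicMul

variable {k : Type u} [Field k] [IsAlgClosed k] {A : Over (Spec (CommRingCat.of k))} [GrpObj A] [IsProper A.hom]
  [GeometricallyIntegral A.hom] {L : A.left.Modules} (hL : PicF.IsInvertible L)

/-- The class of the Mumford family on `A × T` of a point with values in `T`. -/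
def mumCl {T : Over (Spec (CommRingCat.of k))} (z : T ⟶ A) : (PicF.Cl (A ⊗ T).left)ˣ :=
  pc hL (fst A T * (snd A T ≫ z)) / (pc hL (fst A T) * pc hL (snd A T ≫ z))

theorem exists_family : ∃ M : (A ⊗ A).left.Modules, PicF.IsInvertible M ∧
    ∀ (T : Over (Spec (CommRingCat.of k))) (z : T ⟶ A),
      PicF.cl ((Scheme.Modules.pullback (A ◁ z).left).obj M) = (mumCl hL z : PicF.Cl (A ⊗ T).left) := by
  let u : (PicF.Cl (A ⊗ A).left)ˣ := mumCl hL (𝟙 A)
  obtain ⟨M, hMcl, hM⟩ : PicF.IsInvertibleCl (u : PicF.Cl (A ⊗ A).left) := by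
    have inv (f : A ⊗ A ⟶ A) : PicF.IsInvertibleCl (pc hL f : PicF.Cl (A ⊗ A).left) :=
      PicClLib.isInvertibleCl_pullCl f.left ⟨L, rfl, hL⟩
    simp only [u, mumCl, div_eq_mul_inv, mul_inv, Units.val_mul]
    repeat' apply PicMul.isInvertibleCl_mul
    all_goals first | exact inv _ | exact AVTheta8.isInvertibleCl_units (inv _)
  refine ⟨M, hM, fun T z => ?_⟩
  show PicMul.pullHom (A ◁ z).left (PicF.cl M) = _
  rw [hMcl, AVTheta8.F_units]
  simp only [u, mumCl, map_div, map_mul, pull_pc, MonObj.comp_mul, whiskerLeft_fst, Category.comp_id,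
    whiskerLeft_snd, whiskerLeft_fst_assoc, whiskerLeft_snd_assoc]

theorem mumfordTriv_iff {T : Over (Spec (CommRingCat.of k))} (z : T ⟶ A) :
    ThetaGrp.IsMumfordTriv A L z ↔ ∃ N : T.left.Modules, PicF.IsInvertible N ∧
      (mumCl hL z : PicF.Cl (A ⊗ T).left) = PicF.pullCl (snd A T).left (PicF.cl N) := by
  have hμ : fst A T * (snd A T ≫ z) = (A ◁ z) ≫ μ[A] := by
    rw [← ThetaGrp.transl_fst, KLBasic.transl_fst_eq]
  have hdecomp : ∀ c : PicF.Cl (A ⊗ T).left, (mumCl hL z : PicF.Cl (A ⊗ T).left) = c ↔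
      c * (pc hL (fst A T) : PicF.Cl (A ⊗ T).left) * (pc hL (snd A T ≫ z) : PicF.Cl (A ⊗ T).left) =
        (pc hL (fst A T * (snd A T ≫ z)) : PicF.Cl (A ⊗ T).left) := fun c => by
    rw [_root_.mul_assoc, ← Units.val_mul, mumCl, div_eq_mul_inv, Units.val_mul]
    exact ⟨fun h => by rw [← h, Units.inv_mul_cancel_right], fun h => by rw [← h, Units.mul_inv_cancel_right]⟩
  refine exists_congr fun N => and_congr_right fun _ => ?_
  rw [hdecomp, AgPol.IsLambdaSheaf, ← PicGrp.cl_eq_cl_iff, PicMul.cl_tensor, PicMul.cl_tensor, hμ]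
  rfl

/-- Over a local base the Mumford condition is triviality of the family. -/
theorem mumfordTriv_iff_eq_one {T : Over (Spec (CommRingCat.of k))} {C : Type u} [CommRing C] [IsLocalRing C]
    (hT : T.left = Spec (CommRingCat.of C)) (z : T ⟶ A) :
    ThetaGrp.IsMumfordTriv A L z ↔ (mumCl hL z : PicF.Cl (A ⊗ T).left) = 1 := by
  rw [mumfordTriv_iff hL z]
  refine ⟨fun ⟨N, hN, h⟩ => ?_, fun h => ⟨Coh.structureModule T.left, InvX.isInvertible_structureModule, ?_⟩⟩
  · rw [h]
    have h1 : PicF.cl N = 1 := by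
      obtain ⟨l, h, w⟩ := T
      change l = _ at hT
      subst hT
      exact trivial_of_isLocalRing hN
    rw [h1]
    exact PicMul.pullCl_one _
  · rw [h]
    exact (PicMul.pullCl_one _).symm

theorem mumCl_toUnit (a : 𝟙_ (Over (Spec (CommRingCat.of k))) ⟶ A) :
    Units.map (PicMul.pullHom (lift (𝟙 A) (toUnit A)).left :
      PicF.Cl (A ⊗ 𝟙_ (Over (Spec (CommRingCat.of k)))).left →* PicF.Cl A.left) (mumCl hL a) =
        AVTheta8.delta hL a := by
  simp only [mumCl, map_div, map_mul, pull_pc, MonObj.comp_mul, lift_fst, lift_snd_assoc]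
  rw [AVTheta8.pc_const hL, _root_.mul_one]
  rfl

/-- The rational points of `K(L)` are the fixed points. -/
theorem mumfordTriv_pt_iff (a : 𝟙_ (Over (Spec (CommRingCat.of k))) ⟶ A) :
    ThetaGrp.IsMumfordTriv A L a ↔ AVTheta8.delta hL a = 1 := by
  rw [mumfordTriv_iff_eq_one hL (C := k) rfl a]
  let σ := lift (𝟙 A) (toUnit A)
  have hσ : IsIso σ.left := by
    refine ⟨(fst A (𝟙_ (Over (Spec (CommRingCat.of k))))).left, ?_, ?_⟩
    · rw [← Over.comp_left, lift_fst, Over.id_left]
    · rw [← Over.comp_left, show fst A (𝟙_ _) ≫ σ = 𝟙 _ from CartesianMonoidalCategory.hom_ext _ _ (by simp [σ])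
        (toUnit_unique _ _), Over.id_left]
  constructor
  · intro h
    rw [← mumCl_toUnit hL a, show mumCl hL a = 1 from Units.ext h, map_one]
  · intro h
    have h' := mumCl_toUnit hL a
    rw [h] at h'
    have h1 := congrArg (fun v : (PicF.Cl A.left)ˣ => PicF.pullCl (inv σ.left) (v : PicF.Cl A.left)) h'
    simp only [Units.coe_map, Units.val_one, PicMul.pullCl_one] at h1
    change PicF.pullCl (inv σ.left) (PicF.pullCl σ.left _) = _ at h1
    rw [PicClLib.pullCl_comp, IsIso.inv_hom_id, PicClLib.pullCl_id] at h1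
    rw [h1]

theorem mumCl_one (T : Over (Spec (CommRingCat.of k))) : mumCl hL (1 : T ⟶ A) = 1 := by
  rw [mumCl, MonObj.comp_one, _root_.mul_one, pc_one hL, _root_.mul_one, div_self']

/-- The family at a test point with trivial closed point. -/
theorem triv_closedFibre {M : (A ⊗ A).left.Modules}
    (hMcl : ∀ (T : Over (Spec (CommRingCat.of k))) (z : T ⟶ A),
      PicF.cl ((Scheme.Modules.pullback (A ◁ z).left).obj M) = (mumCl hL z : PicF.Cl (A ⊗ T).left))
    {C : Type u} [CommRing C] [IsLocalRing C] (χ : A.left.presheaf.stalk (e0 A) →+* C) [IsLocalHom χ] :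
    Triv ((Scheme.Modules.pullback (pullback.fst ((snd A (testObj χ)).left : _ ⟶ Spec (CommRingCat.of C))
      (Spec.map (CommRingCat.ofHom (algebraMap C (closedPoint C).asIdeal.ResidueField))))).obj
        ((Scheme.Modules.pullback (A ◁ testPt χ).left).obj M)) := by
  let K := (closedPoint C).asIdeal.ResidueField
  let χ' : A.left.presheaf.stalk (e0 A) →+* K := (algebraMap C K).comp χ
  let g : Spec (CommRingCat.of K) ⟶ Spec (CommRingCat.of C) := Spec.map (CommRingCat.ofHom (algebraMap C K))
  have hχ' : χ' = (χ'.comp (scal A)).comp (evUnit A) := RingHom.ext fun r => by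
    have h0 : χ' (r - scal A (evUnit A r)) = 0 := by
      show algebraMap C K (χ _) = 0
      rw [Ideal.algebraMap_residueField_eq_zero]
      exact (mem_maximalIdeal _).2 fun hu => (mem_maximalIdeal _).1 (sub_scal_mem r) (isUnit_of_map_unit χ _ hu)
    rwa [map_sub, sub_eq_zero] at h0
  let w : testObj χ' ⟶ testObj χ := Over.homMk g (by
    rw [testObj_hom, testObj_hom, ← Spec.map_comp]
    rfl)
  have hw : w ≫ testPt χ = 1 := by
    refine Over.OverMorphism.ext ?_
    rw [show (1 : testObj χ' ⟶ A) = toUnit (testObj χ') ≫ (1 : 𝟙_ (Over (Spec (CommRingCat.of k))) ⟶ A) by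
      rw [MonObj.comp_one], Over.comp_left, Over.comp_left, Over.toUnit_left, testObj_hom, ← evUnit_fromSpecStalk,
      ← Category.assoc, ← Spec.map_comp, ← CommRingCat.ofHom_comp, ← hχ']
    show g ≫ Spec.map (CommRingCat.ofHom χ) ≫ A.left.fromSpecStalk (e0 A) = _
    rw [← Category.assoc, ← Spec.map_comp]
    rfl
  have sq := EqvUnr.isPullback_whiskerLeft A w
  let q := sq.isoPullback
  refine triv_of_isIso q.hom ((triv_comp_iff _ _).2 ?_)
  refine (triv_congr (show q.hom ≫ pullback.fst _ _ = (A ◁ w).left from sq.isoPullback_hom_fst)).2 ?_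
  refine (triv_comp_iff _ _).2 ?_
  refine (triv_congr (show (A ◁ w).left ≫ (A ◁ testPt χ).left = (A ◁ (1 : testObj χ' ⟶ A)).left by
      rw [← Over.comp_left, ← MonoidalCategory.whiskerLeft_comp, hw])).2 ?_
  rw [← CubeAb.cl_eq_one_iff, hMcl, mumCl_one, Units.val_one]

end Groth.Agent.AVDualCx
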