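import Groth.Agent.AVDualCx.Core

/-!
# The cohomology of a good complex is concentrated in the top degree
-/

noncomputable section

set_option autoImplicit false
set_option linter.style.haveILetI false
set_option linter.unusedSectionVars false
set_option backward.isDefEq.respectTransparency false
set_option backward.isDefEq.respectTransparency.types false
set_option maxHeartbeats 1000000

universe u

open CategoryTheory CategoryTheory.Limits IsLocalRing CochainComplex

namespace Groth.Agent.AVDualCx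

variable {R : Type u} [CommRing R] {P : CochainComplex (ModuleCat.{u} R) ℤ}

/-- The complex read downwards from degree `g`. -/
def revCx (P : CochainComplex (ModuleCat.{u} R) ℤ) (g : ℕ) : ChainComplex (ModuleCat.{u} R) ℕ :=
  ChainComplex.of (fun j => P.X ((g : ℤ) - (j : ℤ))) (fun _ => P.d _ _) fun _ => P.d_comp_d _ _ _

variable [IsLocalRing R] [IsNoetherianRing R] {g : ℕ}

theorem Good.revCx_exact (hP : Good P g) (hdepth : LocCoh.depth R R = g) (j : ℕ) : (revCx P g).ExactAt (j + 1) := by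
  let D := revCx P g
  have hfree : ∀ j, Module.Free R (D.X j) ∧ Module.Finite R (D.X j) := fun j => ⟨(hP.free _).2, (hP.free _).1⟩
  have hbd : ∀ j, g < j → IsZero (D.X j) := fun j hj => by
    haveI := hP.bdd ((g : ℤ) - (j : ℤ)) (Or.inl (by omega))
    exact ModuleCat.isZero_of_subsingleton (P.X _)
  have hfl : ∀ j, IsFiniteLength R (D.homology j) := fun j => by
    haveI := (hfree j).2
    haveI : Module.Finite R (D.cycles j) :=
      Module.Finite.of_injective (D.iCycles j).hom ((ModuleCat.mono_iff_injective _).1 inferInstance)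
    haveI : Module.Finite R (D.homology j) :=
      Module.Finite.of_surjective (D.homologyπ j).hom ((ModuleCat.epi_iff_surjective _).1 inferInstance)
    rcases subsingleton_or_nontrivial (D.homology j) with hs | hn
    · exact IsFiniteLength.of_subsingleton
    suffices hk : maximalIdeal R ≤ (Module.annihilator R (D.homology j)).radical by
      obtain ⟨n, hn⟩ := Ideal.exists_pow_le_of_le_radical_of_fg hk (IsNoetherian.noetherian _)
      exact AssLib.isFiniteLength_of_pow_le_annihilator R _ hn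
    intro r hr
    obtain ⟨n, H, hh⟩ := hP.exists_null' hr
    refine ⟨n, Module.mem_annihilator.2 fun c => ?_⟩
    obtain ⟨z, rfl⟩ := (ModuleCat.epi_iff_surjective (D.homologyπ j)).1 inferInstance c
    let x : P.X ((g : ℤ) - (j : ℤ)) := (D.iCycles j).hom z
    have hz : (P.d ((g : ℤ) - (j : ℤ)) ((g : ℤ) - (j : ℤ) + 1)).hom x = 0 := by
      cases j with
      | zero =>
        haveI := hP.bdd ((g : ℤ) - ((0 : ℕ) : ℤ) + 1) (Or.inr (by omega))
        exact Subsingleton.elim _ _
      | succ j =>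
        have h : (D.d (j + 1) j).hom ((D.iCycles (j + 1)).hom z) = 0 := by
          rw [← ConcreteCategory.comp_apply, D.iCycles_d]
          rfl
        dsimp only [D, revCx, ChainComplex.of] at h
        erw [ChainComplex.of_d] at h
        rw [show (g : ℤ) - ((j + 1 : ℕ) : ℤ) + 1 = (g : ℤ) - (j : ℤ) by omega]
        exact h
    let w : D.X (j + 1) := H _ ((g : ℤ) - ((j + 1 : ℕ) : ℤ)) x
    have hw : (P.d ((g : ℤ) - ((j + 1 : ℕ) : ℤ)) ((g : ℤ) - (j : ℤ))).hom w = r ^ n • x := by
      by_cases hb : -1 ≤ (g : ℤ) - (j : ℤ)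
      · have := hh ((g : ℤ) - ((j + 1 : ℕ) : ℤ)) _ ((g : ℤ) - (j : ℤ) + 1) (by omega) rfl hb x
        rw [hz, map_zero, add_zero] at this
        exact this.symm
      · haveI := hP.bdd ((g : ℤ) - (j : ℤ)) (Or.inl (by omega))
        exact Subsingleton.elim _ _
    have hy : (D.toCycles (j + 1) j).hom w = r ^ n • z := by
      refine (ModuleCat.mono_iff_injective (D.iCycles j)).1 inferInstance ?_
      rw [map_smul, ← ConcreteCategory.comp_apply, D.toCycles_i]
      dsimp only [D, revCx, ChainComplex.of]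
      erw [ChainComplex.of_d]
      exact hw
    rw [← map_smul, ← hy, ← ConcreteCategory.comp_apply, D.toCycles_comp_homologyπ]
    rfl
  exact H1MinCx.exactAt_of_lt D g g hbd hfree hdepth hfl (j + 1) (by omega)

/-- Below the top degree cycles are boundaries. -/
theorem Good.exists_d_eq (hP : Good P g) (hdepth : LocCoh.depth R R = g) {q i s : ℤ} (hq : q + 1 = i)
    (hs : i + 1 = s) (hi : i < (g : ℤ)) (x : P.X i) (hx : (P.d i s).hom x = 0) : ∃ y, (P.d q i).hom y = x := by
  rcases lt_or_ge i 0 with h | h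
  · haveI := hP.bdd i (Or.inl h)
    exact ⟨0, Subsingleton.elim _ _⟩
  obtain ⟨j, rfl⟩ : ∃ j : ℕ, i = (g : ℤ) - ((j + 1 : ℕ) : ℤ) := ⟨((g : ℤ) - i - 1).natAbs, by omega⟩
  obtain rfl : q = (g : ℤ) - ((j + 1 + 1 : ℕ) : ℤ) := by omega
  obtain rfl : s = (g : ℤ) - (j : ℤ) := by omega
  have hex := hP.revCx_exact hdepth j
  rw [HomologicalComplex.exactAt_iff' _ (j + 1 + 1) (j + 1) j (by simp) (by simp),
    ShortComplex.moduleCat_exact_iff] at hex
  dsimp only [revCx, ChainComplex.of, HomologicalComplex.sc', HomologicalComplex.shortComplexFunctor'] at hex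
  erw [ChainComplex.of_d, ChainComplex.of_d] at hex
  exact hex x hx

/-- The homology vanishes outside the top degree. -/
theorem Good.isZero_homology (hP : Good P g) (hdepth : LocCoh.depth R R = g) (i : ℤ) (hi : i ≠ (g : ℤ)) :
    IsZero (P.homology i) := by
  rw [← HomologicalComplex.exactAt_iff_isZero_homology,
    HomologicalComplex.exactAt_iff' _ (i - 1) i (i + 1) (by simp) (by simp), ShortComplex.moduleCat_exact_iff]
  intro x hx
  rcases lt_or_gt_of_ne hi with h | h
  · exact hP.exists_d_eq hdepth (q := i - 1) (s := i + 1) (by omega) rfl h x hx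
  · haveI := hP.bdd i (Or.inr h)
    exact ⟨0, Subsingleton.elim (α := P.X i) _ _⟩

/-- The ideal of the first differential kills the cokernel of the last. -/
theorem Good.exists_d_eq_smul (hP : Good P g) (hdepth : LocCoh.depth R R = g) (e₀ : P.X 0 ≃ₗ[R] R) {r : R}
    (hr : r ∈ dualIdeal P (e₀.symm 1)) (v : P.X (g : ℤ)) :
    ∃ w : P.X ((g : ℤ) - 1), (P.d ((g : ℤ) - 1) (g : ℤ)).hom w = r • v := by
  let δ : ∀ j : ℕ, Module.Dual R (P.X ((j + 1 : ℕ) : ℤ)) →ₗ[R] Module.Dual R (P.X (j : ℤ)) :=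
    fun j => (P.d (j : ℤ) ((j + 1 : ℕ) : ℤ)).hom.dualMap
  haveI : ∀ i, Module.Projective R (P.X i) := fun i => haveI := (hP.free i).2; Module.Projective.of_free
  haveI : ∀ i, Module.Finite R (P.X i) := fun i => (hP.free i).1
  haveI : ∀ i, Module.Free R (P.X i) := fun i => (hP.free i).2
  have hstep : ∀ j : ℕ, ∃ ψ : Module.Dual R (P.X (j : ℤ)) →ₗ[R] Module.Dual R (P.X (j : ℤ)),
      LinearMap.range ψ ≤ LinearMap.range (δ j) ∧ ψ ∘ₗ δ j = r • δ j ∧
        (j = 0 → ψ = r • LinearMap.id) ∧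
        ∀ i (e : j = i + 1), ∃ h : Module.Dual R (P.X (i : ℤ)) →ₗ[R] Module.Dual R (P.X ((i + 1 : ℕ) : ℤ)),
          ∀ x : Module.Dual R (P.X ((i + 1 : ℕ) : ℤ)), (e ▸ ψ) x = r • x - h (δ i x) := by
    intro j
    induction j with
    | zero =>
      refine ⟨r • LinearMap.id, ?_, LinearMap.id_comp (δ 0) ▸ LinearMap.smul_comp _ _ _, fun _ => rfl,
        fun i e => absurd e (by omega)⟩
      rintro _ ⟨ψ, rfl⟩
      obtain ⟨φ, hφ⟩ := hr
      refine ⟨ψ (e₀.symm 1) • φ, LinearMap.ext fun v => ?_⟩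
      have hv : v = e₀ v • e₀.symm 1 := e₀.injective (by simp)
      show (ψ (e₀.symm 1) • φ) ((P.d ((0 : ℕ) : ℤ) ((0 + 1 : ℕ) : ℤ)).hom v) = r • ψ v
      rw [hv, map_smul, map_smul, map_smul, LinearMap.smul_apply, ← hφ]
      simp only [smul_eq_mul]
      show _ = φ ((P.d 0 1).hom (e₀.symm 1)) * (e₀ v * ψ (e₀.symm 1))
      ring_nf
      rfl
    | succ j ih =>
      obtain ⟨ψ, hψ, hψδ, -, -⟩ := ih
      obtain ⟨h, hh⟩ := Module.projective_lifting_property (δ j).rangeRestrict
        (ψ.codRestrict (LinearMap.range (δ j)) fun x => hψ ⟨x, rfl⟩) (δ j).surjective_rangeRestrict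
      have hh' : ∀ x, δ j (h x) = ψ x := fun x => congrArg Subtype.val (LinearMap.congr_fun hh x)
      let ψ' : Module.Dual R (P.X ((j + 1 : ℕ) : ℤ)) →ₗ[R] Module.Dual R (P.X ((j + 1 : ℕ) : ℤ)) :=
        r • LinearMap.id - h ∘ₗ δ j
      refine ⟨ψ', ?_, ?_, fun e => absurd e (Nat.succ_ne_zero j), ?_⟩
      · rintro _ ⟨x, rfl⟩
        have hk : ψ' x ∈ LinearMap.ker (δ j) := by
          simp only [ψ']
          rw [LinearMap.mem_ker, LinearMap.sub_apply, map_sub, LinearMap.comp_apply, hh',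
            show ψ (δ j x) = r • δ j x from LinearMap.congr_fun hψδ x]
          simp
        rw [hP.dual_exact hdepth j] at hk
        exact hk
      · refine LinearMap.ext fun x => ?_
        have h0 : δ j (δ (j + 1) x) = 0 := by
          rw [← LinearMap.mem_ker, hP.dual_exact hdepth j]
          exact ⟨x, rfl⟩
        show r • δ (j + 1) x - h (δ j (δ (j + 1) x)) = r • δ (j + 1) x
        rw [h0, map_zero, sub_zero]
      · intro i e
        obtain rfl : j = i := by omega
        exact ⟨h, fun x => rfl⟩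
  obtain ⟨ψ, hψ, -, hψ0, hψs⟩ := hstep g
  have hzero : ψ = 0 := LinearMap.ext fun x => by
    obtain ⟨y, hy⟩ := hψ ⟨x, rfl⟩
    haveI := hP.bdd ((g + 1 : ℕ) : ℤ) (Or.inr (by omega))
    rw [← hy, Subsingleton.elim y 0, map_zero]
    rfl
  cases g with
  | zero =>
    haveI := hP.bdd (((0 : ℕ) : ℤ) - 1) (Or.inl (by omega))
    refine ⟨0, ?_⟩
    rw [map_zero]
    refine (Module.forall_dual_apply_eq_zero_iff R _).1 (fun ξ => ?_) |>.symm
    rw [map_smul]
    exact (LinearMap.congr_fun (LinearMap.congr_fun ((hψ0 rfl).symm.trans hzero) ξ) v)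
  | succ i =>
    obtain ⟨h, hh⟩ := hψs i rfl
    have hkey : ∀ x, r • x = h (δ i x) := fun x =>
      sub_eq_zero.1 ((hh x).symm.trans (LinearMap.congr_fun hzero x))
    let w : P.X (i : ℤ) := (Module.evalEquiv R (P.X (i : ℤ))).symm (Module.Dual.eval R _ v ∘ₗ h)
    have hw : ∀ x : Module.Dual R (P.X ((i + 1 : ℕ) : ℤ)),
        x ((P.d (i : ℤ) ((i + 1 : ℕ) : ℤ)).hom w) = x (r • v) := fun x => by
      show δ i x w = _
      rw [Module.apply_evalEquiv_symm_apply, LinearMap.comp_apply, ← hkey, Module.Dual.eval_apply, map_smul]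
      rfl
    have hdw : (P.d (i : ℤ) ((i + 1 : ℕ) : ℤ)).hom w = r • v :=
      sub_eq_zero.1 ((Module.forall_dual_apply_eq_zero_iff R _).1 fun x => by rw [map_sub, hw, sub_self])
    have hgi : ((i + 1 : ℕ) : ℤ) - 1 = (i : ℤ) := by omega
    rw [hgi]
    exact ⟨w, hdw⟩

/-- With the maximal ideal, the top homology of a complex of top rank one is the residue field. -/
theorem Good.nonempty_homology_top (hP : Good P g) (hdepth : LocCoh.depth R R = g) (e₀ : P.X 0 ≃ₗ[R] R)
    (hJ : maximalIdeal R ≤ dualIdeal P (e₀.symm 1)) (e₁ : P.X (g : ℤ) ≃ₗ[R] R) :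
    Nonempty (P.homology (g : ℤ) ≃ₗ[R] R ⧸ maximalIdeal R) := by
  haveI := hP.bdd ((g : ℤ) + 1) (Or.inr (by omega))
  haveI : IsIso (P.iCycles (g : ℤ)) := P.isIso_iCycles (g : ℤ) ((g : ℤ) + 1) (by simp)
    ((ModuleCat.isZero_of_subsingleton (P.X ((g : ℤ) + 1))).eq_of_tgt _ _)
  let u : R →ₗ[R] P.homology (g : ℤ) :=
    (inv (P.iCycles (g : ℤ)) ≫ P.homologyπ (g : ℤ)).hom ∘ₗ e₁.symm.toLinearMap
  have hu : Function.Surjective u :=
    ((ModuleCat.epi_iff_surjective (inv (P.iCycles (g : ℤ)) ≫ P.homologyπ (g : ℤ))).1 inferInstance).comp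
      e₁.symm.surjective
  have hex : (ShortComplex.mk _ _ (P.toCycles_comp_homologyπ ((g : ℤ) - 1) (g : ℤ))).Exact :=
    ShortComplex.exact_of_g_is_cokernel _ (P.homologyIsCokernel ((g : ℤ) - 1) (g : ℤ) (by simp))
  rw [ShortComplex.moduleCat_exact_iff] at hex
  have hker : LinearMap.ker u = maximalIdeal R := by
    ext a
    rw [LinearMap.mem_ker]
    constructor
    · intro ha
      obtain ⟨y, hy⟩ := hex ((inv (P.iCycles (g : ℤ))).hom (e₁.symm a)) ha
      have h1 := congrArg (fun z => (P.iCycles (g : ℤ)).hom z) hy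
      dsimp only at h1
      rw [← ConcreteCategory.comp_apply, P.toCycles_i, ← ConcreteCategory.comp_apply, IsIso.inv_hom_id] at h1
      change (P.d ((g : ℤ) - 1) (g : ℤ)).hom y = e₁.symm a at h1
      have h2 := hP.min ((g : ℤ) - 1) y
      rw [show (g : ℤ) - 1 + 1 = (g : ℤ) by omega, h1] at h2
      have h3 : e₁ (e₁.symm a) ∈ Submodule.map e₁.toLinearMap (maximalIdeal R • (⊤ : Submodule R (P.X (g : ℤ)))) :=
        ⟨_, h2, rfl⟩
      rw [Submodule.map_smul'', Submodule.map_top, LinearEquiv.range, LinearEquiv.apply_symm_apply, smul_eq_mul,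
        Ideal.mul_top] at h3
      exact h3
    · intro ha
      obtain ⟨w, hw⟩ := hP.exists_d_eq_smul hdepth e₀ (hJ ha) (e₁.symm 1)
      rw [← map_smul, smul_eq_mul, mul_one] at hw
      show (inv (P.iCycles (g : ℤ)) ≫ P.homologyπ (g : ℤ)).hom (e₁.symm a) = 0
      rw [← hw, ← P.toCycles_i ((g : ℤ) - 1) (g : ℤ), ← LinearMap.comp_apply, ← ModuleCat.hom_comp,
        Category.assoc, IsIso.hom_inv_id_assoc, P.toCycles_comp_homologyπ]
      rfl
  exact ⟨(u.quotKerEquivOfSurjective hu).symm.trans (Submodule.quotEquivOfEq _ _ hker)⟩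

end Groth.Agent.AVDualCx
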