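import Groth.Agent.AVDualCx.AV
import Groth.Agent.AVDualCx.Top
import Groth.Agent.S8121
import Groth.Agent.S12002
import Groth.Agent.RefX.Hom

/-!
# A universal family of translation invariant classes has direct images concentrated at the unit
-/

noncomputable section

set_option autoImplicit false
set_option linter.style.haveILetI false
set_option linter.unusedSectionVars false
set_option backward.isDefEq.respectTransparency false
set_option backward.isDefEq.respectTransparency.types false
set_option maxHeartbeats 1000000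

universe u

open CategoryTheory CategoryTheory.Limits MonoidalCategory CartesianMonoidalCategory MonObj AlgebraicGeometry TopologicalSpace Opposite IsLocalRing

namespace Groth.Agent.AVDualCx

open Groth.Agent Groth.Agent.H23 Groth.Agent.H23.TrivBasic Groth.Agent.AVCube
open scoped Groth.Agent.H23.PicMul

variable {k : Type u} [Field k] [IsAlgClosed k] {A B : Over (Spec (CommRingCat.of k))} [GrpObj A] [IsProper A.hom]
  [GeometricallyIntegral A.hom] [GrpObj B] [IsProper B.hom] [GeometricallyIntegral B.hom]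
  {M : (A ⊗ B).left.Modules}

/-- The family at a test point with trivial closed point. -/
theorem triv_closedFibre_of_one
    (hone : ∀ T : Over (Spec (CommRingCat.of k)), Triv ((Scheme.Modules.pullback (A ◁ (1 : T ⟶ B)).left).obj M))
    {C : Type u} [CommRing C] [IsLocalRing C] (χ : B.left.presheaf.stalk (e0 B) →+* C) [IsLocalHom χ] :
    Triv ((Scheme.Modules.pullback (pullback.fst ((snd A (testObj χ)).left : _ ⟶ Spec (CommRingCat.of C))
      (Spec.map (CommRingCat.ofHom (algebraMap C (closedPoint C).asIdeal.ResidueField))))).obj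
        ((Scheme.Modules.pullback (A ◁ testPt χ).left).obj M)) := by
  let K := (closedPoint C).asIdeal.ResidueField
  let χ' : B.left.presheaf.stalk (e0 B) →+* K := (algebraMap C K).comp χ
  let g : Spec (CommRingCat.of K) ⟶ Spec (CommRingCat.of C) := Spec.map (CommRingCat.ofHom (algebraMap C K))
  have hχ' : χ' = (χ'.comp (scal B)).comp (evUnit B) := RingHom.ext fun r => by
    have h0 : χ' (r - scal B (evUnit B r)) = 0 := by
      show algebraMap C K (χ _) = 0
      rw [Ideal.algebraMap_residueField_eq_zero]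
      exact (mem_maximalIdeal _).2 fun hu => (mem_maximalIdeal _).1 (sub_scal_mem r) (isUnit_of_map_unit χ _ hu)
    rwa [map_sub, sub_eq_zero] at h0
  let w : testObj χ' ⟶ testObj χ := Over.homMk g (by
    rw [testObj_hom, testObj_hom, ← Spec.map_comp]
    rfl)
  have hw : w ≫ testPt χ = 1 := by
    refine Over.OverMorphism.ext ?_
    rw [show (1 : testObj χ' ⟶ B) = toUnit (testObj χ') ≫ (1 : 𝟙_ (Over (Spec (CommRingCat.of k))) ⟶ B) by
      rw [MonObj.comp_one], Over.comp_left, Over.comp_left, Over.toUnit_left, testObj_hom, ← evUnit_fromSpecStalk,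
      ← Category.assoc, ← Spec.map_comp, ← CommRingCat.ofHom_comp, ← hχ']
    show g ≫ Spec.map (CommRingCat.ofHom χ) ≫ B.left.fromSpecStalk (e0 B) = _
    rw [← Category.assoc, ← Spec.map_comp]
    rfl
  have sq := EqvUnr.isPullback_whiskerLeft A w
  let q := sq.isoPullback
  refine triv_of_isIso q.hom ((triv_comp_iff _ _).2 ?_)
  refine (triv_congr (show q.hom ≫ pullback.fst _ _ = (A ◁ w).left from sq.isoPullback_hom_fst)).2 ?_
  refine (triv_comp_iff _ _).2 ?_
  refine (triv_congr (show (A ◁ w).left ≫ (A ◁ testPt χ).left = (A ◁ (1 : testObj χ' ⟶ B)).left by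
      rw [← Over.comp_left, ← MonoidalCategory.whiskerLeft_comp, hw])).2 ?_
  exact hone _

/-- A module with vanishing restriction has vanishing stalks there. -/
theorem subsingleton_stalk_of_isZero_restrict {X : Scheme.{u}} {M : X.Modules} {U : X.Opens}
    (h : IsZero (M.restrict U.ι)) {x : X} (hx : x ∈ U) : Subsingleton (M.presheaf.stalk x) := by
  refine subsingleton_of_forall_eq 0 fun z => ?_
  obtain ⟨W, hW, s, rfl⟩ := TopCat.Presheaf.exists_germ_eq M.presheaf z
  have hle : U.ι ''ᵁ (U.ι ⁻¹ᵁ W) ≤ W := U.ι.image_preimage_le _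
  have hxm : x ∈ U.ι ''ᵁ (U.ι ⁻¹ᵁ W) := ⟨⟨x, hx⟩, hW, rfl⟩
  have h0 : (AModX.res M hle s : Γ(M.restrict U.ι, U.ι ⁻¹ᵁ W)) = 0 := by
    have e : (𝟙 (M.restrict U.ι) : M.restrict U.ι ⟶ M.restrict U.ι) = 0 := h.eq_of_src _ _
    exact congr(($e).app (U.ι ⁻¹ᵁ W) (AModX.res M hle s))
  rw [← RefX.germ_res M hle hxm, show AModX.res M hle s = 0 from h0, map_zero]

theorem isPullback_sliceB (b : 𝟙_ (Over (Spec (CommRingCat.of k))) ⟶ B) :
    IsPullback (lift (𝟙 A) (toUnit A ≫ b)).left A.hom (snd A B).left b.left := by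
  refine IsPullback.of_right (h₁₂ := (fst A B).left) (v₁₃ := A.hom) (h₂₂ := B.hom) ?_ ?_
    (IsPullback.of_hasPullback A.hom B.hom)
  · rw [← Over.comp_left, lift_fst, Over.id_left, Over.w]
    haveI : IsIso (𝟙_ (Over (Spec (CommRingCat.of k)))).hom := inferInstanceAs (IsIso (𝟙 _))
    exact IsPullback.of_horiz_isIso ⟨by simp⟩
  · rw [← Over.comp_left, lift_snd, Over.comp_left, Over.toUnit_left]

variable (g : ℕ)

/-- **The direct images of a universal family.** -/
theorem rpush_concentrated [HasInjectiveResolutions (A ⊗ B).left.Modules]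
    (hone : ∀ T : Over (Spec (CommRingCat.of k)), Triv ((Scheme.Modules.pullback (A ◁ (1 : T ⟶ B)).left).obj M))
    (hadd : ∀ b : 𝟙_ (Over (Spec (CommRingCat.of k))) ⟶ B,
      CubeAb.IsAdditive (PicF.cl ((Scheme.Modules.pullback (lift (𝟙 A) (toUnit A ≫ b)).left).obj M)))
    (huniv : ∀ (T : Over (Spec (CommRingCat.of k))) (z : T ⟶ B),
      Triv ((Scheme.Modules.pullback (A ◁ z).left).obj M) → z = 1)
    (hg : topologicalKrullDim ↥A.left = g) (hgB : (g : WithBot ℕ∞) ≤ topologicalKrullDim ↥B.left)
    (hM : PicF.IsInvertible M) :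
    (∀ p, p ≠ g → IsZero ((Coh.Rpush (snd A B).left p).obj M)) ∧
      Nonempty (((Coh.Rpush (snd A B).left g).obj M).presheaf.stalk (e0 B) ≃ₗ[B.left.presheaf.stalk (e0 B)]
        B.left.presheaf.stalk (e0 B) ⧸ maximalIdeal (B.left.presheaf.stalk (e0 B))) ∧
      ∀ z, z ≠ e0 B → Subsingleton (((Coh.Rpush (snd A B).left g).obj M).presheaf.stalk z) := by
  haveI : IsIntegral B.left := GeometricallyIntegral.isIntegral_of_subsingleton B.hom
  haveI : IsLocallyNoetherian B.left := LocallyOfFiniteType.isLocallyNoetherian B.hom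
  haveI : IsLocallyNoetherian A.left := LocallyOfFiniteType.isLocallyNoetherian A.hom
  haveI : JacobsonSpace B.left := LocallyOfFiniteType.jacobsonSpace B.hom
  haveI : CompactSpace B.left := QuasiCompact.compactSpace_of_compactSpace B.hom
  haveI : CompactSpace A.left := QuasiCompact.compactSpace_of_compactSpace A.hom
  haveI : AlgebraicGeometry.IsNoetherian A.left := ⟨⟩
  haveI : A.left.IsSeparated := ⟨by rw [← terminal.comp_from A.hom]; infer_instance⟩
  haveI : B.left.IsSeparated := ⟨by rw [← terminal.comp_from B.hom]; infer_instance⟩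
  haveI : Smooth B.hom := GrpSchLib.smooth_of_isReduced_of_isAlgClosed B
  let R := B.left.presheaf.stalk (e0 B)
  have hs : IsClosed ({e0 B} : Set B.left) := AVAmple.isClosed_pt (1 : 𝟙_ (Over (Spec (CommRingCat.of k))) ⟶ B)
  haveI : IsRegularLocalRing R := GrpSchLib.isRegularLocalRing_stalk_of_smooth B.hom (e0 B)
  let f : (A ⊗ B).left ⟶ B.left := (snd A B).left
  haveI : IsProper f := inferInstanceAs (IsProper (pullback.snd A.hom B.hom))
  haveI : Flat f := inferInstanceAs (Flat (pullback.snd A.hom B.hom))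
  haveI : LocallyOfFinitePresentation f := inferInstanceAs (LocallyOfFinitePresentation (pullback.snd A.hom B.hom))
  have hqM : Coh.IsQCoh M := QCoh.isQCoh_of_isFinLocFree (PullPush.isFinLocFree_of_isInvertible hM)
  haveI := hqM
  have hfp := SeesawGen.isFP_of_isInvertible hM
  have hfl := Seesaw.isFlatOver_of_isInvertible f hM
  let U : B.left.Opens := ⟨{e0 B}ᶜ, hs.isOpen_compl⟩
  -- vanishing on closed fibres away from the unit
  have hclosed : ∀ y ∈ U, IsClosed ({y} : Set B.left) → ∀ p, Subsingleton (CohIII.fiberH f M y p) := by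
    intro y hy hyc p
    obtain ⟨b, rfl⟩ := AVAmple.exists_pt hyc
    refine (AVTheta8.subsingleton_fiberH_iff f b.left B.hom (Over.w b) (isPullback_sliceB b) M p).2 ?_
    refine AVTheta8.subsingleton_HH_of_additive (PicClLib.isInvertible_pullback _ hM) (hadd b) (fun ht => hy ?_) p
    have hb : b = 1 := by
      refine huniv _ b ?_
      let σ := lift (𝟙 A) (toUnit A)
      haveI hσ : IsIso σ.left := by
        refine ⟨(fst A (𝟙_ (Over (Spec (CommRingCat.of k))))).left, ?_, ?_⟩
        · rw [← Over.comp_left, lift_fst, Over.id_left]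
        · rw [← Over.comp_left, show fst A (𝟙_ _) ≫ σ = 𝟙 _ from CartesianMonoidalCategory.hom_ext _ _ (by simp [σ])
            (toUnit_unique _ _), Over.id_left]
      refine triv_of_isIso σ.left ((triv_comp_iff _ _).2 ?_)
      refine (triv_congr (show σ.left ≫ (A ◁ b).left = (lift (𝟙 A) (toUnit A ≫ b)).left by
        rw [← Over.comp_left, lift_whiskerLeft])).2 ?_
      exact ht
    rw [hb]
    rfl
  have hvan : ∀ z ∈ (⊤ : B.left.Opens), z ≠ e0 B → ∀ p, CohPullLib.VanAt f M p z := by
    intro z _ hzs p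
    by_contra hn
    obtain ⟨w, hw, hwc⟩ := nonempty_inter_closedPoints
      (Z := (U : Set B.left) ∩ {y : B.left | CohPullLib.VanAt f M p y}ᶜ) ⟨z, hzs, hn⟩
      ((U.2.isLocallyClosed).inter (CohPullLib.isOpen_vanAt p).isClosed_compl.isLocallyClosed)
    exact hw.2 (CohPullLib.vanAt_of_subsingleton hqM hfp hfl p (hclosed w hw.1 (mem_closedPoints_iff.1 hwc) p))
  have hzero : ∀ p z, z ≠ e0 B → Subsingleton (((Coh.Rpush f p).obj M).presheaf.stalk z) := fun p z hz =>
    subsingleton_stalk_of_isZero_restrict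
      (AVTheta8.isZero_restrict_of_closedPoints f hqM hfp hfl p U fun y hy hyc => hclosed y hy hyc p) hz
  have hfirst : (lift (𝟙 A) (toUnit A ≫ (1 : 𝟙_ (Over (Spec (CommRingCat.of k))) ⟶ B))).left =
      (lift (𝟙 A) (toUnit A)).left ≫ (A ◁ (1 : 𝟙_ (Over (Spec (CommRingCat.of k))) ⟶ B)).left := by
    rw [← Over.comp_left, lift_whiskerLeft]
  have hiO : Nonempty ((Scheme.Modules.pullback (lift (𝟙 A) (toUnit A ≫ (1 : 𝟙_ _ ⟶ B))).left).obj M ≅
      Coh.structureModule A.left) :=
    (triv_congr hfirst).2 ((triv_comp_iff _ _).1 ((hone _).pullback _))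
  have hdim : ∀ p, g < p → CohIII.fiberRank f M p (e0 B) = 0 := fun p hp => by
    haveI : Subsingleton (CohIII.fiberH f M (e0 B) p) :=
      (AVTheta8.subsingleton_fiberH_iff f (1 : 𝟙_ (Over (Spec (CommRingCat.of k))) ⟶ B).left B.hom (Over.w _)
        (isPullback_sliceB 1) M p).2
        (Snapper.subsingleton_HH_of_dim_le hg.le (QCoh.isQCoh_pullback _ hqM) hp)
    exact Module.finrank_zero_of_subsingleton
  obtain ⟨P, hP, hrank, hH, hJ⟩ := exists_stalk_package (f := f) hqM hfp hfl hs ⊤ trivial hvan hdim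
  have hrank' : ∀ p : ℕ, Module.finrank R (P.X (p : ℤ)) =
      @Module.finrank k (Coh.HH A.left (Coh.structureModule A.left) p) _ _
        (QCoh.modHH (Coh.toGlobal A.hom) (Coh.structureModule A.left) p) := fun p => by
    obtain ⟨iO⟩ := hiO
    rw [hrank k (evUnit B) ker_evUnit A.left _ A.hom (by
      rw [evUnit_fromSpecStalk]; exact isPullback_sliceB (1 : 𝟙_ (Over (Spec (CommRingCat.of k))) ⟶ B)) p]
    letI : A.left.Over (Spec (CommRingCat.of k)) := ⟨A.hom⟩
    haveI : IsProper (A.left ↘ Spec (CommRingCat.of k)) := ‹IsProper A.hom›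
    exact HilbPoly.finrank_HH_iso k iO p
  haveI : ∀ i, Module.Finite R (P.X i) := fun i => (hP.free i).1
  haveI : ∀ i, Module.Free R (P.X i) := fun i => (hP.free i).2
  have h01 : Module.finrank R (P.X 0) = 1 := (hrank' 0).trans (finrank_H0 A)
  have hg1 : Module.finrank R (P.X (g : ℤ)) = 1 := by
    obtain ⟨L, hLa, -⟩ := S8121.result k A
    have hL : PicF.IsInvertible L := hLa.1
    rw [hrank' g, finrank_HH_structure hL ((S12002.result k A L hLa).subset fun a ha =>
      H23.PicMul.cl_eq_iff.1 ((AVTheta8.delta_eq_one hL a).1 ha)) g hg g, Nat.choose_self]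
  let e₀ : P.X 0 ≃ₗ[R] R := (Module.finBasisOfFinrankEq R _ h01).equivFun.trans (LinearEquiv.funUnique (Fin 1) R R)
  let e₁ : P.X (g : ℤ) ≃ₗ[R] R :=
    (Module.finBasisOfFinrankEq R _ hg1).equivFun.trans (LinearEquiv.funUnique (Fin 1) R R)
  let J := dualIdeal P (e₀.symm 1)
  have hJm : J ≤ maximalIdeal R := le_dualIdeal_maximal hP _
  have hmJ : maximalIdeal R ≤ J := by
    obtain ⟨N, hN⟩ := hP.exists_pow_le (e₀.symm 1) e₀.toLinearMap (e₀.apply_symm_apply 1)
    have hne : J ≠ ⊤ := fun h => (maximalIdeal.isMaximal R).ne_top (top_le_iff.1 (h ▸ hJm))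
    haveI : Nontrivial (R ⧸ J) := Ideal.Quotient.nontrivial_iff.2 hne
    haveI : IsLocalRing (R ⧸ J) := IsLocalRing.of_surjective' _ Ideal.Quotient.mk_surjective
    let χ := Ideal.Quotient.mk J
    haveI : IsLocalHom χ := IsLocalHom.of_surjective _ Ideal.Quotient.mk_surjective
    let z := testPt χ
    let π : (A ⊗ testObj χ).left ⟶ Spec (CommRingCat.of (R ⧸ J)) := (snd A (testObj χ)).left
    haveI : IsProper π := inferInstanceAs (IsProper (pullback.snd A.hom (testObj χ).hom))
    haveI : Flat π := inferInstanceAs (Flat (pullback.snd A.hom (testObj χ).hom))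
    haveI : GeometricallyIntegral π := inferInstanceAs (GeometricallyIntegral (pullback.snd A.hom (testObj χ).hom))
    obtain ⟨w, hw⟩ := (hJ e₀ J ⟨N, hN⟩ _ (A ◁ z).left π (EqvUnr.isPullback_whiskerLeft A z)).1 le_rfl
    have hz : testPt χ ≫ 𝟙 B = 1 := by
      rw [Category.comp_id]
      exact huniv _ z (triv_of_faithful π (PicClLib.isInvertible_pullback _ hM) (triv_closedFibre_of_one hone χ) w hw)
    have h := (testPt_comp_eq_one χ (𝟙 B)).1 hz
    rw [Ideal.mk_ker] at h
    intro r hr
    refine h ?_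
    have hid : ((𝟙 B : B ⟶ B).left.stalkMap (e0 B)) = 𝟙 _ := Scheme.Hom.stalkMap_id B.left (e0 B)
    rw [hid]
    exact Ideal.mem_map_of_mem _ hr
  have hdimle : ringKrullDim R ≤ (g : WithBot ℕ∞) := by
    have h1 : Module.finrank R (P.X 1) ≤ g := by
      have h := hrank' 1
      rw [show ((1 : ℕ) : ℤ) = (1 : ℤ) from rfl] at h
      rw [h]
      obtain ⟨L, hLa, -⟩ := S8121.result k A
      have hL : PicF.IsInvertible L := hLa.1
      rw [finrank_HH_structure hL ((S12002.result k A L hLa).subset fun a ha =>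
        H23.PicMul.cl_eq_iff.1 ((AVTheta8.delta_eq_one hL a).1 ha)) g hg 1, Nat.choose_one_right]
    refine (ringKrullDim_le_spanFinrank_maximalIdeal R).trans ?_
    have h2 : Submodule.spanFinrank (maximalIdeal R) ≤ Module.finrank R (P.X 1) := by
      let b := Module.finBasis R (Module.Dual R (P.X 1))
      let ev := Module.Dual.eval R (P.X 1) ((P.d 0 1).hom (e₀.symm 1))
      have hspan : maximalIdeal R = Submodule.span R (Set.range (ev ∘ b)) := by
        rw [le_antisymm hmJ hJm, Set.range_comp, Submodule.span_image, b.span_eq, Submodule.map_top]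
        rfl
      rw [hspan]
      refine (Submodule.spanFinrank_span_le_ncard_of_finite (Set.finite_range _)).trans ?_
      rw [← Nat.card_coe_set_eq]
      exact (Finite.card_range_le _).trans (by
        rw [Nat.card_eq_fintype_card, Fintype.card_fin, Module.finrank_linearMap_self])
    exact_mod_cast h2.trans h1
  have hdimR : ringKrullDim R = (g : WithBot ℕ∞) :=
    le_antisymm hdimle ((S0354.result k B (e0 B) hs).symm ▸ hgB)
  have hdepth : LocCoh.depth R R = (g : ℕ∞) := by
    have h := (S10834.depth_of_regular R).trans hdimR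
    exact_mod_cast h
  refine ⟨fun p hp => CurveCohLib.isZero_of_subsingleton_stalks fun z => ?_, ?_, hzero g⟩
  · by_cases hz : z = e0 B
    · subst hz
      haveI := ModuleCat.subsingleton_of_isZero (hP.isZero_homology hdepth (p : ℤ) (by omega))
      exact (hH p).some.toEquiv.subsingleton
    · exact hzero p z hz
  · exact ⟨(hH g).some.trans (hP.nonempty_homology_top hdepth e₀ hmJ e₁).some⟩

end Groth.Agent.AVDualCx
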